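import Mathlib
import Cfsg.Prelude.Def_Characters
import Cfsg.Prelude.Def_Blocks
import Cfsg.Agent.Characters.Core
import Cfsg.Agent.Blocks.ExistsModular
import Cfsg.Agent.Classification.BGIsometry
import Cfsg.Agent.Classification.BGOrder
import Cfsg.Agent.Classification.BGSplit
import Cfsg.Agent.Classification.BGBlockB0
import Cfsg.Agent.Classification.BGValues
set_option linter.all false

/-!
# The centraliser of an involution with an arbitrary quotient by an odd normal subgroup

`G` finite with one class of involutions, `t` an involution, `π : C(t) →* Q` surjective with odd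
kernel, `π t = z`.

* `Hyp`: these hypotheses;
* `mem_zpowers_of_map`, `supp_comp`: functions on `Q` supported on `{q | z ∈ zpowers q}`;
* `classInner_ind_comp`, `classInner_ind_one`, `isGeneralized_ind_comp`, `ind_one`, `ind_odd`:
  the induced functions;
* `irr_eq_of_map`: characters in the principal 2-block are constant on the fibres over the
  2-elements `q` with `z ∈ zpowers q`;
* `classInner_ind_values`: inner products with them;
* `relation`: the class algebra relation.
-/

set_option autoImplicit false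
set_option linter.unusedSectionVars false

namespace Cfsg.Agent.Classification.RTwo.General

open Cfsg Cfsg.Agent.Characters Cfsg.Agent.Classification.BGIsometry
  Cfsg.Agent.Classification.BGOrder Cfsg.Agent.Classification.BGSplit
  Cfsg.Agent.Classification.BGBlockB0
open scoped ComplexConjugate

universe u v

/-- `t` is an involution of `G`, all involutions of `G` are conjugate, `π` is a homomorphism from
`C(t)` onto `Q` with kernel of odd order, mapping `t` to `z`. -/
structure Hyp {G : Type u} [Group G] {Q : Type v} [Group Q] (t : G) (z : Q)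
    (π : (Subgroup.centralizer ({t} : Set G)) →* Q) : Prop where
  orderOf_t : orderOf t = 2
  one_class : ∀ x : G, orderOf x = 2 → IsConj t x
  surj : Function.Surjective π
  odd_ker : Odd (Nat.card π.ker)
  map_t : ∀ h : t ∈ Subgroup.centralizer ({t} : Set G), π ⟨t, h⟩ = z

/-- The set of 2-elements of `Q` having `z` as a power. -/
def DD {Q : Type v} [Group Q] (z : Q) : Set Q :=
  {q | z ∈ Subgroup.zpowers q ∧ ∃ m : ℕ, q ^ 2 ^ m = 1}

section Basic

variable {G : Type u} [Group G] {Q : Type v} [Group Q] {t : G} {z : Q}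
  {π : (Subgroup.centralizer ({t} : Set G)) →* Q}

theorem t_mem (t : G) : t ∈ Subgroup.centralizer ({t} : Set G) := by
  rw [Subgroup.mem_centralizer_singleton_iff]

/-- `t` as an element of its centralizer. -/
def tt (t : G) : Subgroup.centralizer ({t} : Set G) := ⟨t, t_mem t⟩

theorem map_tt (h : Hyp t z π) : π (tt t) = z := h.map_t _

theorem t_mul_t (h : Hyp t z π) : t * t = 1 := by
  have := pow_orderOf_eq_one t
  rwa [h.orderOf_t, sq] at this

theorem tt_mul_tt (h : Hyp t z π) : tt t * tt t = 1 := Subtype.ext (t_mul_t h)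

theorem z_mul_z (h : Hyp t z π) : z * z = 1 := by
  rw [← map_tt h, ← map_mul, tt_mul_tt h, map_one]

theorem t_ne_one (h : Hyp t z π) : t ≠ 1 := by
  rintro rfl
  have := h.orderOf_t
  simp at this

theorem tt_comm (x : Subgroup.centralizer ({t} : Set G)) : Commute (tt t) x :=
  Subtype.ext (Subgroup.mem_centralizer_singleton_iff.mp x.2).symm

theorem z_comm (h : Hyp t z π) (q : Q) : Commute z q := by
  obtain ⟨x, rfl⟩ := h.surj q
  rw [← map_tt h]
  exact (tt_comm x).map π

theorem eq_one_of_ker (h : Hyp t z π) {x : Subgroup.centralizer ({t} : Set G)}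
    (hx : π x = 1) {m : ℕ} (hxm : x ^ 2 ^ m = 1) : x = 1 := by
  have h1 : (⟨x, hx⟩ : π.ker) ^ Nat.card π.ker = 1 := pow_card_eq_one'
  have h2 : x ^ Nat.card π.ker = 1 := congrArg Subtype.val h1
  have h3 : orderOf x ∣ 2 ^ m := orderOf_dvd_of_pow_eq_one hxm
  have h4 : orderOf x ∣ Nat.card π.ker := orderOf_dvd_of_pow_eq_one h2
  have h5 : Nat.Coprime (2 ^ m) (Nat.card π.ker) :=
    Nat.Coprime.pow_left _ (Nat.coprime_two_left.2 h.odd_ker)
  have h6 := Nat.dvd_gcd h3 h4
  rw [h5] at h6
  exact orderOf_eq_one_iff.1 (Nat.dvd_one.1 h6)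

theorem z_ne_one (h : Hyp t z π) : z ≠ 1 := by
  intro h1
  have h2 : tt t = 1 := eq_one_of_ker h (x := tt t) (by rw [map_tt h, h1]) (m := 1)
    (by rw [pow_one, sq]; exact tt_mul_tt h)
  exact t_ne_one h (congrArg Subtype.val h2)

theorem mem_zpowers_of_map (h : Hyp t z π) {x : Subgroup.centralizer ({t} : Set G)}
    (hx : z ∈ Subgroup.zpowers (π x)) : t ∈ Subgroup.zpowers (x : G) := by
  obtain ⟨s, hs⟩ := Subgroup.mem_zpowers_iff.1 hx
  have h1 : π (x ^ s * tt t) = 1 := by
    rw [map_mul, map_zpow, hs, map_tt h, z_mul_z h]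
  have h2 : (x ^ s * tt t) ^ Nat.card π.ker = 1 :=
    congrArg Subtype.val (pow_card_eq_one' (x := (⟨x ^ s * tt t, h1⟩ : π.ker)))
  have h3 : tt t ^ Nat.card π.ker = tt t := by
    obtain ⟨k, hk⟩ := h.odd_ker
    rw [hk, pow_succ, pow_mul, sq, tt_mul_tt h, one_pow, one_mul]
  rw [((tt_comm x).symm.zpow_left s).mul_pow, h3] at h2
  have h4 : tt t = ((x ^ s) ^ Nat.card π.ker)⁻¹ := eq_inv_of_mul_eq_one_right h2
  have h5 : t = (((x : G) ^ s) ^ Nat.card π.ker)⁻¹ := by
    have := congrArg Subtype.val h4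
    simpa [tt] using this
  have h6 : (((x : G) ^ s) ^ Nat.card π.ker)⁻¹ ∈ Subgroup.zpowers (x : G) :=
    inv_mem (pow_mem (zpow_mem (Subgroup.mem_zpowers _) _) _)
  rw [← h5] at h6
  exact h6

theorem mem_zpowers_iff_map (h : Hyp t z π) {x : Subgroup.centralizer ({t} : Set G)} :
    t ∈ Subgroup.zpowers (x : G) ↔ z ∈ Subgroup.zpowers (π x) := by
  refine ⟨fun hx => ?_, mem_zpowers_of_map h⟩
  obtain ⟨k, hk⟩ := Subgroup.mem_zpowers_iff.1 hx
  have h1 : x ^ k = tt t := Subtype.ext (by simpa [tt] using hk)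
  rw [← map_tt h, ← h1, map_zpow]
  exact zpow_mem (Subgroup.mem_zpowers _) _

theorem supp_comp (h : Hyp t z π) {b : Q → ℂ} (hb : ∀ q, b q ≠ 0 → z ∈ Subgroup.zpowers q) :
    Supp t (fun x => b (π x)) :=
  fun _ hx => mem_zpowers_of_map h (hb _ hx)

theorem supp_of_DD {b : Q → ℂ} (hb : ∀ q, b q ≠ 0 → q ∈ DD z) :
    ∀ q, b q ≠ 0 → z ∈ Subgroup.zpowers q := fun q hq => (hb q hq).1

end Basic

section Ind

variable {G : Type u} [Group G] [Fintype G] {Q : Type v} [Group Q] [Fintype Q] {t : G} {z : Q}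
  {π : (Subgroup.centralizer ({t} : Set G)) →* Q}

/-- Inner products of the induced functions. -/
theorem classInner_ind_comp (h : Hyp t z π)
    {b c : Q → ℂ} (hb : IsClassFunction _ b) (hc : IsClassFunction _ c)
    (hb0 : ∀ q, b q ≠ 0 → z ∈ Subgroup.zpowers q) (hc0 : ∀ q, c q ≠ 0 → z ∈ Subgroup.zpowers q) :
    classInner (indFun (Subgroup.centralizer ({t} : Set G)) (fun x => b (π x)))
      (indFun (Subgroup.centralizer ({t} : Set G)) (fun x => c (π x))) = classInner b c := by
  classical
  let _ : Fintype (Subgroup.centralizer ({t} : Set G)) := Fintype.ofFinite _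
  rw [classInner_indFun_indFun h.orderOf_t (isClassFunction_comp π hb) (isClassFunction_comp π hc)
    (supp_comp h hb0) (supp_comp h hc0), classInner_comp π h.surj]

/-- Inner products with a function whose restriction to `{x | b (π x) ≠ 0}` comes from `Q`. -/
theorem classInner_ind_values (h : Hyp t z π)
    {b c : Q → ℂ} {χ : G → ℂ} (hχ : IsClassFunction G χ)
    (hc : ∀ x : Subgroup.centralizer ({t} : Set G), b (π x) ≠ 0 → χ x = c (π x)) :
    classInner (indFun (Subgroup.centralizer ({t} : Set G)) (fun x => b (π x))) χ =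
      classInner b c := by
  classical
  let _ : Fintype (Subgroup.centralizer ({t} : Set G)) := Fintype.ofFinite _
  rw [classInner_indFun_left _ _ hχ, ← classInner_comp π h.surj b c]
  rw [Core.classInner_def, Core.classInner_def]
  congr 1
  refine Finset.sum_congr rfl fun x _ => ?_
  by_cases hx : b (π x) = 0
  · rw [hx, zero_mul, zero_mul]
  · rw [hc x hx]

theorem classInner_ind_one (h : Hyp t z π) {b : Q → ℂ} :
    classInner (indFun (Subgroup.centralizer ({t} : Set G)) (fun x => b (π x))) 1 =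
      classInner b 1 :=
  classInner_ind_values h
    (Core.isCharacter_isClassFunction (Core.isCharacter_one)) (fun _ _ => rfl)

theorem isGeneralized_ind_comp {b : Q → ℂ} (hb : IsGeneralizedCharacter Q b) :
    IsGeneralizedCharacter G
      (indFun (Subgroup.centralizer ({t} : Set G)) (fun x => b (π x))) := by
  obtain ⟨χ, ψ, hχ, hψ, rfl⟩ := hb
  exact Brauer.isGeneralizedCharacter_indFun _
    ⟨fun x => χ (π x), fun x => ψ (π x), Core.isCharacter_comp π hχ, Core.isCharacter_comp π hψ,
      rfl⟩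

theorem ind_odd (h : Hyp t z π) {b : Q → ℂ} (hb : ∀ q, b q ≠ 0 → z ∈ Subgroup.zpowers q) {g : G}
    (hg : Odd (orderOf g)) :
    indFun (Subgroup.centralizer ({t} : Set G)) (fun x => b (π x)) g = 0 :=
  indFun_eq_zero_of_odd h.orderOf_t (supp_comp h hb) hg

theorem ind_one (h : Hyp t z π) {b : Q → ℂ} (hb : ∀ q, b q ≠ 0 → z ∈ Subgroup.zpowers q) :
    indFun (Subgroup.centralizer ({t} : Set G)) (fun x => b (π x)) 1 = 0 :=
  ind_odd h hb (by rw [orderOf_one]; exact odd_one)

end Ind

section Values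

variable {G : Type u} [Group G] [Finite G] {Q : Type v} [Group Q] {t : G} {z : Q}
  {π : (Subgroup.centralizer ({t} : Set G)) →* Q}

/-- The 2-part of an element of `C(t)` mapping to a 2-element. -/
theorem exists_two_part (h : Hyp t z π) (x : Subgroup.centralizer ({t} : Set G)) {m : ℕ}
    (hx : π x ^ 2 ^ m = 1) :
    ∃ a u : Subgroup.centralizer ({t} : Set G), x = a * u ∧ π a = π x ∧ π u = 1 ∧
      a ^ 2 ^ m = 1 ∧ Commute a u := by
  have hcop : Nat.Coprime (2 ^ m) (Nat.card π.ker) :=
    Nat.Coprime.pow_left _ (Nat.coprime_two_left.2 h.odd_ker)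
  obtain ⟨k, hk1, hk2⟩ := Nat.chineseRemainder hcop 1 0
  have hxn : π (x ^ 2 ^ m) = 1 := by rw [map_pow, hx]
  have h1 : (x ^ 2 ^ m) ^ Nat.card π.ker = 1 :=
    congrArg Subtype.val (pow_card_eq_one' (x := (⟨x ^ 2 ^ m, hxn⟩ : π.ker)))
  have hpa : π (x ^ k) = π x := by
    rw [map_pow]
    have h2 : k ≡ 1 [MOD orderOf (π x)] :=
      hk1.of_dvd (orderOf_dvd_of_pow_eq_one hx)
    have := (pow_eq_pow_iff_modEq (x := π x)).2 h2
    rw [this, pow_one]
  refine ⟨x ^ k, (x ^ k)⁻¹ * x, by group, hpa, ?_, ?_, ?_⟩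
  · rw [map_mul, map_inv, hpa, inv_mul_cancel]
  · obtain ⟨c, hc⟩ := (Nat.modEq_zero_iff_dvd).1 hk2
    rw [hc, ← pow_mul]
    have : Nat.card π.ker * c * 2 ^ m = 2 ^ m * Nat.card π.ker * c := by ring
    rw [this, pow_mul, pow_mul, h1, one_pow]
  · have h3 : Commute (x ^ k) x := (Commute.refl x).pow_left k
    exact (Commute.refl (x ^ k)).inv_right.mul_right h3

/-- A character of the principal 2-block has the same value at `a * u` and at `a`, for a
2-element `a` having `t` as a power and `u` in the kernel commuting with `a`. -/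
theorem irr_eq_two_part (h : Hyp t z π) (M : Ideal AlgInt) (hM : IsPModular 2 M)
    (χ : IrrCharacter G) (hχ : χ ∈ principalBlock M G)
    (a u : Subgroup.centralizer ({t} : Set G)) (hta : t ∈ Subgroup.zpowers (a : G)) {m : ℕ}
    (han : a ^ 2 ^ m = 1) (hu : π u = 1) (hau : Commute a u) :
    (χ : G → ℂ) ((a : G) * (u : G)) = (χ : G → ℂ) a := by
  have : Fact (Nat.Prime 2) := ⟨Nat.prime_two⟩
  have hle : Subgroup.centralizer ({(a : G)} : Set G) ≤ Subgroup.centralizer ({t} : Set G) := by
    intro y hy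
    rw [Subgroup.mem_centralizer_singleton_iff] at hy ⊢
    obtain ⟨k, hk⟩ := Subgroup.mem_zpowers_iff.1 hta
    have hy' : Commute y (a : G) := hy
    rw [← hk]
    exact (hy'.zpow_right k).eq
  set N : Subgroup (Subgroup.centralizer ({(a : G)} : Set G)) :=
    (π.comp (Subgroup.inclusion hle)).ker with hN
  have hNodd : (Nat.card N).Coprime 2 := by
    rw [Nat.coprime_two_right]
    refine Odd.of_dvd_nat h.odd_ker ?_
    have hinj : Function.Injective
        (((Subgroup.inclusion hle).comp N.subtype).codRestrict π.ker (fun x => x.2)) := by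
      intro x y hxy
      have h1 : Subgroup.inclusion hle x.1 = Subgroup.inclusion hle y.1 :=
        congrArg Subtype.val hxy
      exact Subtype.ext (Subgroup.inclusion_injective hle h1)
    exact Subgroup.card_dvd_of_injective _ hinj
  have hNle : N ≤ pPrimeCore 2 _ :=
    Cfsg.Agent.Lib.Cores.le_pPrimeCore inferInstance hNodd
  have huC : (u : G) ∈ Subgroup.centralizer ({(a : G)} : Set G) := by
    rw [Subgroup.mem_centralizer_singleton_iff]
    have := congrArg Subtype.val hau.eq
    exact this.symm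
  have hv : (u : G) ∈ centralizerPPrimeCore 2 (a : G) := by
    refine ⟨⟨u, huC⟩, hNle ?_, rfl⟩
    rw [hN, MonoidHom.mem_ker, MonoidHom.comp_apply]
    exact hu
  refine Cfsg.Agent.S0942.result 2 M hM (a : G) ?_ (u : G) hv χ hχ
  have h1 : (a : G) ^ 2 ^ m = 1 := congrArg Subtype.val han
  obtain ⟨l, -, hl⟩ := (Nat.dvd_prime_pow Nat.prime_two).1 (orderOf_dvd_of_pow_eq_one h1)
  exact ⟨l, hl⟩

/-- A character of the principal 2-block is constant on the fibres of `π` over the 2-elements
having `z` as a power. -/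
theorem irr_eq_of_map (h : Hyp t z π) (M : Ideal AlgInt) (hM : IsPModular 2 M)
    (χ : IrrCharacter G) (hχ : χ ∈ principalBlock M G)
    (x y : Subgroup.centralizer ({t} : Set G)) (hx : π x ∈ DD z) (hxy : π x = π y) :
    (χ : G → ℂ) x = (χ : G → ℂ) y := by
  obtain ⟨hz, m, hm⟩ := hx
  obtain ⟨a, u, hxa, hpa, hpu, han, hau⟩ := exists_two_part h x hm
  obtain ⟨b, v, hyb, hpb, hpv, hbn, hbv⟩ := exists_two_part h y (m := m) (by rw [← hxy, hm])
  have h1 : (χ : G → ℂ) x = (χ : G → ℂ) a := by
    have := irr_eq_two_part h M hM χ hχ a u (mem_zpowers_of_map h (by rw [hpa]; exact hz)) han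
      hpu hau
    rw [← this, hxa]; rfl
  have h2 : (χ : G → ℂ) y = (χ : G → ℂ) b := by
    have := irr_eq_two_part h M hM χ hχ b v
      (mem_zpowers_of_map h (by rw [hpb, ← hxy]; exact hz)) hbn hpv hbv
    rw [← this, hyb]; rfl
  have h3 : IsConj a b :=
    BGValues.isConj_of_ker_odd π h.odd_ker a b m han hbn (by rw [hpa, hpb, hxy])
  obtain ⟨c, hc⟩ := isConj_iff.1 h3
  have h4 : (χ : G → ℂ) b = (χ : G → ℂ) a := by
    rw [← hc]
    exact Core.isIrr_isClassFunction χ.2 (a : G) (c : G)
  rw [h1, h2, h4]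

theorem inB_eq_of_map (h : Hyp t z π) (M : Ideal AlgInt) (hM : IsPModular 2 M)
    {X : G → ℂ} (hX : InB (principalBlock M G) X)
    (x y : Subgroup.centralizer ({t} : Set G)) (hx : π x ∈ DD z) (hxy : π x = π y) :
    X x = X y := by
  obtain ⟨χ, hχ, rfl | rfl⟩ := hX
  · exact irr_eq_of_map h M hM χ hχ x y hx hxy
  · rw [Pi.neg_apply, Pi.neg_apply, irr_eq_of_map h M hM χ hχ x y hx hxy]

/-- On the preimage of `DD z` a character of the principal block comes from a class function
of `Q`. -/
theorem exists_values (h : Hyp t z π) (M : Ideal AlgInt) (hM : IsPModular 2 M)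
    {X : G → ℂ} (hX : InB (principalBlock M G) X) :
    ∃ F : Q → ℂ, IsClassFunction Q F ∧
      ∀ x : Subgroup.centralizer ({t} : Set G), π x ∈ DD z → X x = F (π x) := by
  classical
  choose s hs using h.surj
  have hDD : ∀ q g : Q, q ∈ DD z → g * q * g⁻¹ ∈ DD z := by
    rintro q g ⟨h1, m, h2⟩
    refine ⟨?_, m, by rw [conj_pow, h2]; group⟩
    obtain ⟨k, hk⟩ := Subgroup.mem_zpowers_iff.1 h1
    refine Subgroup.mem_zpowers_iff.2 ⟨k, ?_⟩
    rw [conj_zpow, hk, ← (z_comm h g).eq, mul_inv_cancel_right]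
  refine ⟨fun q => if q ∈ DD z then X (s q) else 0, ?_, ?_⟩
  · intro q g
    have hiff : g * q * g⁻¹ ∈ DD z ↔ q ∈ DD z := by
      refine ⟨fun h1 => ?_, hDD q g⟩
      have h2 := hDD _ g⁻¹ h1
      have h3 : g⁻¹ * (g * q * g⁻¹) * g⁻¹⁻¹ = q := by group
      rwa [h3] at h2
    by_cases hq : q ∈ DD z
    · have hq' : g * q * g⁻¹ ∈ DD z := hDD q g hq
      simp only [if_pos hq, if_pos hq']
      have h1 : X (s (g * q * g⁻¹)) = X (s g * s q * (s g)⁻¹ : Subgroup.centralizer ({t} : Set G)) := by
        refine inB_eq_of_map h M hM hX _ _ (by rw [hs]; exact hq') ?_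
        rw [hs, map_mul, map_mul, map_inv, hs, hs]
      rw [h1]
      exact isClassFunction_signed hX.signedIrr (s q : G) (s g : G)
    · have hq' : ¬ g * q * g⁻¹ ∈ DD z := fun h1 => hq (hiff.1 h1)
      simp only [if_neg hq, if_neg hq']
  · intro x hx
    simp only [if_pos hx]
    exact inB_eq_of_map h M hM hX _ _ hx (hs _).symm

end Values

section Relation

variable {G : Type u} [Group G] [Fintype G] {Q : Type v} [Group Q] {t : G} {z : Q}
  {π : (Subgroup.centralizer ({t} : Set G)) →* Q}

/-- **Class algebra relation.** If `b` vanishes at the products of two elements of `Q` of order at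
most two, then `∑ c_j X_j(t)² / X_j(1) = 0` for the decomposition of the induced function of `b ∘ π`. -/
theorem relation (h : Hyp t z π) {b : Q → ℂ} (hb : ∀ q, b q ≠ 0 → z ∈ Subgroup.zpowers q)
    (hpq : ∀ p q : Q, p * p = 1 → q * q = 1 → b (p * q) = 0)
    {ι : Type*} (J : Finset ι) (c : ι → ℂ) (X : ι → G → ℂ) (hX : ∀ j ∈ J, SignedIrr (X j))
    (hind : indFun (Subgroup.centralizer ({t} : Set G)) (fun x => b (π x)) =
      fun g => ∑ j ∈ J, c j * X j g) :
    ∑ j ∈ J, c j * (X j t ^ 2 / X j 1) = 0 := by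
  classical
  let _ : Fintype (Subgroup.centralizer ({t} : Set G)) := Fintype.ofFinite _
  -- make the characters honest
  let s : ι → ℂ := fun j => if IsIrrCharacter G (X j) then 1 else -1
  have hs : ∀ j ∈ J, (s j = 1 ∧ IsIrrCharacter G (X j)) ∨ (s j = -1 ∧ IsIrrCharacter G (-X j)) := by
    intro j hj
    by_cases hj2 : IsIrrCharacter G (X j)
    · exact Or.inl ⟨if_pos hj2, hj2⟩
    · exact Or.inr ⟨if_neg hj2, (hX j hj).resolve_left hj2⟩
  have hind' : indFun (Subgroup.centralizer ({t} : Set G)) (fun x => b (π x)) =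
      fun g => ∑ j ∈ J, (c j * s j) * ((fun j g => s j * X j g) j g) := by
    rw [hind]
    funext g
    refine Finset.sum_congr rfl fun j hj => ?_
    rcases hs j hj with ⟨h1, -⟩ | ⟨h1, -⟩ <;> · simp only [h1]; ring
  have hirr : ∀ j ∈ J, IsIrrCharacter G ((fun j g => s j * X j g) j) := by
    intro j hj
    rcases hs j hj with ⟨h1, h2⟩ | ⟨h1, h2⟩
    · have : (fun g => s j * X j g) = X j := by funext g; rw [h1, one_mul]
      simpa only [this] using h2
    · have : (fun g => s j * X j g) = -X j := by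
        funext g; rw [h1, neg_one_mul]; rfl
      simpa only [this] using h2
  have key := sum_pairs_eq t h.orderOf_t h.one_class _ rfl (fun x => b (π x)) J _ _ hirr hind'
  have hsum : ∑ j ∈ J, (c j * s j) * (((fun j g => s j * X j g) j t) ^ 2 /
      ((fun j g => s j * X j g) j 1)) = ∑ j ∈ J, c j * (X j t ^ 2 / X j 1) := by
    refine Finset.sum_congr rfl fun j hj => ?_
    rcases hs j hj with ⟨h1, -⟩ | ⟨h1, -⟩ <;> · simp only [h1]; ring
  rw [hsum, sum_pairs_restrict t h.orderOf_t _ rfl (fun x => b (π x)) (supp_comp h hb)] at key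
  have hsq : ∀ x : Subgroup.centralizer ({t} : Set G), orderOf x = 2 → π x * π x = 1 := by
    intro x hx
    have h1 := pow_orderOf_eq_one x
    rw [hx, sq] at h1
    rw [← map_mul, h1, map_one]
  rw [Finset.sum_eq_zero] at key
  · have hidx : ((Subgroup.centralizer ({t} : Set G)).index : ℂ) ≠ 0 := by
      have : (Subgroup.centralizer ({t} : Set G)).index ≠ 0 := Subgroup.index_ne_zero_of_finite
      exact_mod_cast this
    exact (mul_eq_zero.1 key.symm).resolve_left hidx
  · intro x hx
    refine Finset.sum_eq_zero fun y hy => ?_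
    simp only [Finset.mem_filter, Finset.mem_univ, true_and] at hx hy
    rw [map_mul]
    exact hpq _ _ (hsq x hx) (hsq y hy)

end Relation

end Cfsg.Agent.Classification.RTwo.General
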