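import Mathlib
import Cfsg.Prelude.Def_Characters
import Cfsg.Prelude.Def_Blocks
import Cfsg.Agent.Classification.RTwo.General
set_option linter.all false

/-!
# Constituents of induced functions in the principal 2-block

* `block_sum_eq_zero`: the degree sum over the principal block of a combination of irreducible characters
  vanishing at the elements of odd order is zero;
* `mem_principal_of_norm_le_three`, `mem_principal_of_norm_le_four`;
* `irr_eq_t`: a character of the principal 2-block is constant on the fibre of `π` over `z`;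
* `classInner_tau`: inner product with the function induced from `|Q| 1_z`.
-/

set_option autoImplicit false
set_option linter.unusedSectionVars false

namespace Cfsg.Agent.Classification.RTwo.BlockMem

open Cfsg Cfsg.Agent.Characters Cfsg.Agent.Classification.BGIsometry
  Cfsg.Agent.Classification.BGOrder Cfsg.Agent.Classification.BGSplit
  Cfsg.Agent.Classification.BGBlockB0 Cfsg.Agent.Classification.RTwo.General
open scoped ComplexConjugate

universe u v

section Block

variable {G : Type u} [Group G] [Finite G] [Fintype (IrrCharacter G)]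

theorem isClassFunction_sum (m : IrrCharacter G → ℤ) :
    IsClassFunction G (∑ χ : IrrCharacter G, m χ • (χ : G → ℂ)) := by
  intro g h
  simp only [Finset.sum_apply, Pi.smul_apply]
  exact Finset.sum_congr rfl fun χ _ => by rw [Core.isIrr_isClassFunction χ.2 g h]

open scoped Classical in
/-- The principal block part of a combination of irreducible characters vanishing at the elements
of odd order vanishes at the elements of odd order. -/
theorem block_sum_eq_zero {M : Ideal AlgInt} (hM : IsPModular 2 M) {f : G → ℂ}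
    (h0 : ∀ g, Odd (orderOf g) → f g = 0) (m : IrrCharacter G → ℤ)
    (hf : f = ∑ χ : IrrCharacter G, m χ • (χ : G → ℂ)) {g : G} (hg : Odd (orderOf g)) :
    ∑ χ : IrrCharacter G with χ ∈ principalBlock M G, (m χ : ℂ) * (χ : G → ℂ) g = 0 := by
  let _ : Fintype G := Fintype.ofFinite G
  have hcl : IsClassFunction G f := by rw [hf]; exact isClassFunction_sum m
  have h1 := blockPart_odd hM hcl h0 hg
  rw [blockPart_sum] at h1
  rw [← h1]
  refine Finset.sum_congr rfl fun χ _ => ?_
  congr 1
  rw [hf, Core.classInner_sum_zsmul_irr]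

open scoped Classical in
theorem not_block_sum_eq_zero {M : Ideal AlgInt} (hM : IsPModular 2 M) {f : G → ℂ}
    (h0 : ∀ g, Odd (orderOf g) → f g = 0) (m : IrrCharacter G → ℤ)
    (hf : f = ∑ χ : IrrCharacter G, m χ • (χ : G → ℂ)) {g : G} (hg : Odd (orderOf g)) :
    ∑ χ : IrrCharacter G with χ ∉ principalBlock M G, (m χ : ℂ) * (χ : G → ℂ) g = 0 := by
  have h1 := block_sum_eq_zero hM h0 m hf hg
  have h2 : ∑ χ : IrrCharacter G, (m χ : ℂ) * (χ : G → ℂ) g = 0 := by
    rw [← h0 g hg, hf, Finset.sum_apply]
    refine Finset.sum_congr rfl fun χ _ => ?_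
    simp
  rw [← Finset.sum_filter_add_sum_filter_not Finset.univ
    (fun χ : IrrCharacter G => χ ∈ principalBlock M G), h1, zero_add] at h2
  exact h2

open scoped Classical in
/-- Abstract counting: if a nonempty sum of nonzero terms is zero it has at least two terms. -/
theorem two_le_card {ι : Type*} (s : Finset ι) (F : ι → ℂ) (hF : ∀ i ∈ s, F i ≠ 0)
    (hs : s.Nonempty) (h : ∑ i ∈ s, F i = 0) : 2 ≤ s.card := by
  by_contra hlt
  have h1 : s.card = 1 := by
    have := hs.card_pos
    omega
  obtain ⟨a, rfl⟩ := Finset.card_eq_one.1 h1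
  rw [Finset.sum_singleton] at h
  exact hF a (Finset.mem_singleton_self a) h

open scoped Classical in
/-- If at most `k + 1` constituents, `k` of which are known to be in the principal block, then all
are in the principal block; and for `k + 2` constituents one has the same as soon as the known
ones do not have degree sum zero. -/
theorem mem_principal_of_card {M : Ideal AlgInt} (hM : IsPModular 2 M) {f : G → ℂ}
    (h0 : ∀ g, Odd (orderOf g) → f g = 0) (m : IrrCharacter G → ℤ)
    (hf : f = ∑ χ : IrrCharacter G, m χ • (χ : G → ℂ))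
    (K : Finset (IrrCharacter G)) (hK : ∀ χ ∈ K, m χ ≠ 0 ∧ χ ∈ principalBlock M G)
    (hcard : (Finset.univ.filter fun χ : IrrCharacter G => m χ ≠ 0).card ≤ K.card + 2)
    (hdeg : ∑ χ ∈ K, (m χ : ℂ) * (χ : G → ℂ) 1 ≠ 0) :
    ∀ χ, m χ ≠ 0 → χ ∈ principalBlock M G := by
  have ho : Odd (orderOf (1 : G)) := by rw [orderOf_one]; exact odd_one
  have hne : ∀ χ : IrrCharacter G, m χ ≠ 0 → (m χ : ℂ) * (χ : G → ℂ) 1 ≠ 0 := fun χ h =>
    mul_ne_zero (by exact_mod_cast h) (Core.isIrr_apply_one_ne_zero χ.2)
  set A := Finset.univ.filter (fun χ : IrrCharacter G => m χ ≠ 0 ∧ χ ∈ principalBlock M G) with hA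
  set B := Finset.univ.filter (fun χ : IrrCharacter G => m χ ≠ 0 ∧ χ ∉ principalBlock M G) with hB
  have hsumA : ∑ χ ∈ A, (m χ : ℂ) * (χ : G → ℂ) 1 = 0 := by
    rw [← block_sum_eq_zero hM h0 m hf ho]
    refine Finset.sum_subset ?_ ?_
    · intro χ hχ
      simp only [hA, Finset.mem_filter, Finset.mem_univ, true_and] at hχ ⊢
      exact hχ.2
    · intro χ hχ hχ'
      simp only [hA, Finset.mem_filter, Finset.mem_univ, true_and, not_and_or, not_not] at hχ hχ'
      rcases hχ' with h | h
      · rw [h]; simp
      · exact absurd hχ h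
  have hsumB : ∑ χ ∈ B, (m χ : ℂ) * (χ : G → ℂ) 1 = 0 := by
    rw [← not_block_sum_eq_zero hM h0 m hf ho]
    refine Finset.sum_subset ?_ ?_
    · intro χ hχ
      simp only [hB, Finset.mem_filter, Finset.mem_univ, true_and] at hχ ⊢
      exact hχ.2
    · intro χ hχ hχ'
      simp only [hB, Finset.mem_filter, Finset.mem_univ, true_and, not_and_or, not_not] at hχ hχ'
      rcases hχ' with h | h
      · rw [h]; simp
      · exact absurd h hχ
  have hAB : A.card + B.card = (Finset.univ.filter fun χ : IrrCharacter G => m χ ≠ 0).card := by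
    have hd : Disjoint A B := by
      rw [Finset.disjoint_left]
      intro χ h1 h2
      simp only [hA, hB, Finset.mem_filter, Finset.mem_univ, true_and] at h1 h2
      exact h2.2 h1.2
    rw [← Finset.card_union_of_disjoint hd]
    congr 1
    ext χ
    simp only [hA, hB, Finset.mem_union, Finset.mem_filter, Finset.mem_univ, true_and]
    tauto
  have hKA : K ⊆ A := by
    intro χ hχ
    simp only [hA, Finset.mem_filter, Finset.mem_univ, true_and]
    exact hK χ hχ
  by_contra hcon
  push Not at hcon
  obtain ⟨χ, hχ, hχB⟩ := hcon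
  have hBne : B.Nonempty := ⟨χ, by
    simp only [hB, Finset.mem_filter, Finset.mem_univ, true_and]; exact ⟨hχ, hχB⟩⟩
  have hB2 : 2 ≤ B.card := two_le_card B _ (fun χ hχ => hne χ (by
    simp only [hB, Finset.mem_filter, Finset.mem_univ, true_and] at hχ; exact hχ.1)) hBne hsumB
  have hcK : K.card ≤ A.card := Finset.card_le_card hKA
  have hKA' : K = A := Finset.eq_of_subset_of_card_le hKA (by omega)
  rw [hKA'] at hdeg
  exact hdeg hsumA

open scoped Classical in
theorem card_le_of_norm (m : IrrCharacter G → ℤ) {n : ℕ} (h : ∑ χ, m χ ^ 2 ≤ n) :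
    (Finset.univ.filter fun χ : IrrCharacter G => m χ ≠ 0).card ≤ n := by
  have h1 : ((Finset.univ.filter fun χ : IrrCharacter G => m χ ≠ 0).card : ℤ) ≤
      ∑ χ, m χ ^ 2 := by
    rw [Finset.card_eq_sum_ones]
    push_cast
    rw [Finset.sum_filter]
    refine Finset.sum_le_sum fun χ _ => ?_
    split_ifs with h2
    · have : 0 < m χ ^ 2 := by positivity
      omega
    · positivity
  exact_mod_cast h1.trans h

open scoped Classical in
/-- A combination of norm at most three vanishing at the elements of odd order: if one constituent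
is in the principal block, then all are. -/
theorem mem_principal_of_norm_le_three {M : Ideal AlgInt} (hM : IsPModular 2 M) {f : G → ℂ}
    (h0 : ∀ g, Odd (orderOf g) → f g = 0) (m : IrrCharacter G → ℤ)
    (hf : f = ∑ χ : IrrCharacter G, m χ • (χ : G → ℂ)) (h3 : ∑ χ, m χ ^ 2 ≤ 3)
    {χ₀ : IrrCharacter G} (h : m χ₀ ≠ 0) (hB : χ₀ ∈ principalBlock M G) :
    ∀ χ, m χ ≠ 0 → χ ∈ principalBlock M G := by
  refine mem_principal_of_card hM h0 m hf {χ₀} ?_ ?_ ?_
  · intro χ hχ
    rw [Finset.mem_singleton] at hχ
    subst hχ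
    exact ⟨h, hB⟩
  · rw [Finset.card_singleton]
    exact card_le_of_norm m (by exact_mod_cast h3)
  · rw [Finset.sum_singleton]
    exact mul_ne_zero (by exact_mod_cast h) (Core.isIrr_apply_one_ne_zero χ₀.2)

open scoped Classical in
/-- A combination of norm at most four vanishing at the elements of odd order: if two constituents
with nonzero degree sum are in the principal block, then all are. -/
theorem mem_principal_of_norm_le_four {M : Ideal AlgInt} (hM : IsPModular 2 M) {f : G → ℂ}
    (h0 : ∀ g, Odd (orderOf g) → f g = 0) (m : IrrCharacter G → ℤ)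
    (hf : f = ∑ χ : IrrCharacter G, m χ • (χ : G → ℂ)) (h4 : ∑ χ, m χ ^ 2 ≤ 4)
    {χ₀ χ₁ : IrrCharacter G} (h01 : χ₀ ≠ χ₁) (h : m χ₀ ≠ 0) (hB : χ₀ ∈ principalBlock M G)
    (h' : m χ₁ ≠ 0) (hB' : χ₁ ∈ principalBlock M G)
    (hdeg : (m χ₀ : ℂ) * (χ₀ : G → ℂ) 1 + (m χ₁ : ℂ) * (χ₁ : G → ℂ) 1 ≠ 0) :
    ∀ χ, m χ ≠ 0 → χ ∈ principalBlock M G := by
  refine mem_principal_of_card hM h0 m hf {χ₀, χ₁} ?_ ?_ ?_
  · intro χ hχ
    rw [Finset.mem_insert, Finset.mem_singleton] at hχ
    rcases hχ with rfl | rfl
    · exact ⟨h, hB⟩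
    · exact ⟨h', hB'⟩
  · rw [Finset.card_pair h01]
    exact card_le_of_norm m (by exact_mod_cast h4)
  · rw [Finset.sum_pair h01]
    exact hdeg

/-- The trivial character is in the principal block. -/
theorem one_mem (M : Ideal AlgInt) [M.IsPrime] :
    (⟨1, Core.isIrr_one⟩ : IrrCharacter G) ∈ principalBlock M G :=
  Cfsg.Agent.Blocks.Basic.sameBlock_refl _

theorem one_mem' {M : Ideal AlgInt} (hM : IsPModular 2 M) :
    (⟨1, Core.isIrr_one⟩ : IrrCharacter G) ∈ principalBlock M G :=
  have : M.IsPrime := Blocks.Local.isPrime_of_isPModular hM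
  one_mem M

end Block

section Values

variable {G : Type u} [Group G] [Finite G] {Q : Type v} [Group Q] {t : G} {z : Q}
  {π : (Subgroup.centralizer ({t} : Set G)) →* Q}

theorem z_mem_DD (h : Hyp t z π) : z ∈ DD z :=
  ⟨Subgroup.mem_zpowers z, 1, by rw [pow_one, sq]; exact z_mul_z h⟩

/-- A character of the principal 2-block is constant on the fibre over `z`. -/
theorem irr_eq_t (h : Hyp t z π) (M : Ideal AlgInt) (hM : IsPModular 2 M)
    (χ : IrrCharacter G) (hχ : χ ∈ principalBlock M G)
    (x : Subgroup.centralizer ({t} : Set G)) (hx : π x = z) :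
    (χ : G → ℂ) x = (χ : G → ℂ) t :=
  irr_eq_of_map h M hM χ hχ x (tt t) (by rw [hx]; exact z_mem_DD h) (by rw [hx, map_tt h])

theorem inB_eq_t (h : Hyp t z π) (M : Ideal AlgInt) (hM : IsPModular 2 M)
    {X : G → ℂ} (hX : InB (principalBlock M G) X)
    (x : Subgroup.centralizer ({t} : Set G)) (hx : π x = z) : X x = X t :=
  inB_eq_of_map h M hM hX x (tt t) (by rw [hx]; exact z_mem_DD h) (by rw [hx, map_tt h])

open scoped Classical in
/-- Inner product of the function induced from `|Q| 1_z` with a character of the principal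
2-block. -/
theorem classInner_tau [Fintype G] [Fintype Q] (h : Hyp t z π) (M : Ideal AlgInt)
    (hM : IsPModular 2 M) {X : G → ℂ} (hX : InB (principalBlock M G) X) (τ : Q → ℂ)
    (hτ : ∀ q, τ q = if q = z then (Nat.card Q : ℂ) else 0) :
    classInner (indFun (Subgroup.centralizer ({t} : Set G)) (fun x => τ (π x))) X =
      conj (X t) := by
  rw [classInner_ind_values h (c := fun _ => X t) (isClassFunction_signed hX.signedIrr),
    Core.classInner_def]
  · have h1 : ∀ q : Q, τ q * conj (X t) =
        if q = z then (Nat.card Q : ℂ) * conj (X t) else 0 := by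
      intro q
      rw [hτ]
      split_ifs
      · rfl
      · rw [zero_mul]
    rw [Finset.sum_congr rfl (fun q _ => h1 q), Finset.sum_ite_eq' Finset.univ z,
      if_pos (Finset.mem_univ z), ← mul_assoc, inv_mul_cancel₀ Core.card_ne_zero_complex, one_mul]
  · intro x hx
    refine inB_eq_t h M hM hX x ?_
    by_contra hne
    rw [hτ, if_neg hne] at hx
    exact hx rfl

end Values

end Cfsg.Agent.Classification.RTwo.BlockMem
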