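import Mathlib
import Cfsg.Agent.Characters.Core
import Cfsg.Agent.Characters.GL23Assembly
import Cfsg.Agent.Characters.CentInvClassAlg
import Cfsg.Prelude.Def_Blocks
import Cfsg.Agent.Characters.CentInvTI
import Cfsg.Agent.Blocks.Knorr
import Cfsg.Agent.Classification.BGBlockB0
import Cfsg.Agent.S0942
import Cfsg.Agent.S0925
import Cfsg.Agent.S0148
import Cfsg.Agent.S0150
set_option linter.all false

-- part: Classification/RTwo/SDClass
section
/-!
# Involution centralizers with quotient `GL(2,3)` by an odd normal subgroup: the class algebra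

`t` is an involution, `π : C(t) → GL(2,3)` is surjective with odd kernel.

* `pi_t`: `π t = -1`.
* `support_comp`: a function `f ∘ π`, with `f` supported on the roots of `-1`, is supported on the
  roots of `t`.
* `kap π w`: the number of the involutions over `w`; `odd_kap`, `kap_eq`.
* `pair_sum`: the sum of `f (π (x * y))` over the pairs of involutions of `C(t)`.
* `class_algebra`: the class algebra formula for the functions induced from `f ∘ π`.
-/

set_option autoImplicit false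
open Cfsg

namespace Cfsg.Agent.Classification.RTwo.SDClass

open Cfsg.Agent.Characters Cfsg.Agent.Characters.GL23 Cfsg.Agent.Characters.GL23Table

theorem sq_of_order {M : Type*} [Monoid M] {u : M} (h : orderOf u = 2) : u ^ 2 = 1 := by
  have h1 := pow_orderOf_eq_one u
  rwa [h] at h1

theorem exists_conj_table : ∀ a b c d : ZMod 3, isInv a b c d →
    ¬ (a = -1 ∧ b = 0 ∧ c = 0 ∧ d = -1) →
    ∃ p q r s : ZMod 3, p * s - q * r ≠ 0 ∧
      mul4 (a, b, c, d) (p, q, r, s) = mul4 (p, q, r, s) (1, 0, 0, -1) := by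
  decide +kernel

/-- The reflection `diag(1,-1)`. -/
def refl0 : Grp := Matrix.GeneralLinearGroup.mkOfDetNeZero !![1, 0; 0, -1]
    (by rw [Matrix.det_fin_two]; decide)

theorem ent_refl0 : ent refl0 = (1, 0, 0, -1) := rfl

/-- A noncentral involution of `GL(2,3)` is conjugate to `diag(1,-1)`. -/
theorem exists_conj_refl0 (g : Grp) (h : orderOf g = 2) (hg : g ≠ -1) :
    ∃ c : Grp, g = c * refl0 * c⁻¹ := by
  obtain ⟨p, q, r, s, h1, h2⟩ := exists_conj_table (g 0 0) (g 0 1) (g 1 0) (g 1 1)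
    ((isInv_iff g).mpr h)
    (fun hh => hg ((eq_neg_one_iff g).mpr (by simp only [ent, Prod.mk.injEq]; exact hh)))
  let c : Grp := Matrix.GeneralLinearGroup.mkOfDetNeZero !![p, q; r, s]
    (by rw [Matrix.det_fin_two]; exact h1)
  have hc : ent c = (p, q, r, s) := rfl
  refine ⟨c, ?_⟩
  rw [eq_mul_inv_iff_mul_eq]
  apply ent_injective
  rw [ent_mul, ent_mul, hc, ent_refl0]
  exact h2

theorem orderOf_neg_one : orderOf (-1 : Grp) = 2 := by
  rw [orderOf_eq_prime_iff (p := 2)]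
  refine ⟨by rw [neg_one_sq], ?_⟩
  intro h
  have h1 := congrArg ent h
  rw [ent_neg_one, ent_one] at h1
  revert h1
  decide

/-- A product of two involutions, one of them central, is not a root of `-1`. -/
theorem not_root (w w' : Grp) (hw : orderOf w = 2) (hw' : orderOf w' = 2)
    (h : w = -1 ∨ w' = -1) : ¬ ∃ k : ℕ, (w * w') ^ k = -1 := by
  rintro ⟨k, hk⟩
  obtain ⟨u, hu, hwu⟩ : ∃ u : Grp, orderOf u = 2 ∧ w * w' = -u := by
    rcases h with h | h
    · exact ⟨w', hw', by rw [h, neg_one_mul]⟩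
    · exact ⟨w, hw, by rw [h, mul_neg_one]⟩
  rw [hwu] at hk
  have hu2 : u ^ 2 = 1 := sq_of_order hu
  have hne : (-1 : Grp) ≠ 1 := by
    intro h
    have := orderOf_neg_one
    rw [h, orderOf_one] at this
    omega
  rcases Nat.even_or_odd k with hk' | hk'
  · obtain ⟨j, hj⟩ := hk'
    rw [hj, ← two_mul, pow_mul, neg_sq, hu2, one_pow] at hk
    exact hne hk.symm
  · obtain ⟨j, hj⟩ := hk'
    rw [hj, pow_add, pow_mul, neg_sq, hu2, one_pow, one_mul, pow_one] at hk
    have : u = 1 := by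
      have := congrArg (fun x => -x) hk
      simpa using this
    rw [this, orderOf_one] at hu
    omega

section main

variable {G : Type*} [Group G] {t : G} (ht : orderOf t = 2)
  (π : Subgroup.centralizer ({t} : Set G) →* Grp)

/-- `t` as an element of its centralizer -/
def tC (t : G) : Subgroup.centralizer ({t} : Set G) :=
  ⟨t, Subgroup.mem_centralizer_singleton_iff.mpr rfl⟩

theorem tC_mul_comm (x : Subgroup.centralizer ({t} : Set G)) : tC t * x = x * tC t := by
  apply Subtype.ext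
  exact (Subgroup.mem_centralizer_singleton_iff.mp x.2).symm

include ht in
theorem orderOf_tC : orderOf (tC t) = 2 := by
  rw [← Subgroup.orderOf_coe]
  exact ht

/-- An involution is not in the kernel. -/
theorem pi_ne_one [Finite G] (hK : Odd (Nat.card π.ker))
    {x : Subgroup.centralizer ({t} : Set G)} (hx : orderOf x = 2) : π x ≠ 1 := by
  intro h
  have h1 : orderOf (⟨x, h⟩ : π.ker) ∣ Nat.card π.ker := orderOf_dvd_natCard _
  rw [← Subgroup.orderOf_coe] at h1
  have h2 : orderOf ((⟨x, h⟩ : π.ker) : Subgroup.centralizer ({t} : Set G)) = 2 := hx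
  rw [h2] at h1
  exact (Nat.not_even_iff_odd.2 hK) (even_iff_two_dvd.2 h1)

theorem orderOf_pi [Finite G] (hK : Odd (Nat.card π.ker))
    {x : Subgroup.centralizer ({t} : Set G)} (hx : orderOf x = 2) : orderOf (π x) = 2 := by
  have h1 : orderOf (π x) ∣ 2 := by
    have := orderOf_map_dvd π x
    rwa [hx] at this
  rcases (Nat.dvd_prime Nat.prime_two).1 h1 with h | h
  · exact absurd (orderOf_eq_one_iff.1 h) (pi_ne_one π hK hx)
  · exact h

include ht in
theorem pi_t [Finite G] (hπ : Function.Surjective π) (hK : Odd (Nat.card π.ker)) :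
    π (tC t) = -1 := by
  refine eq_neg_one_of_central _ (orderOf_pi π hK (orderOf_tC ht)) fun x => ?_
  obtain ⟨y, rfl⟩ := hπ x
  rw [← map_mul, ← map_mul, tC_mul_comm]

include ht in
theorem support_comp [Finite G] (hπ : Function.Surjective π) (hK : Odd (Nat.card π.ker))
    (h : Subgroup.centralizer ({t} : Set G)) (hh : ∃ k : ℕ, π h ^ k = -1) :
    ∃ k : ℕ, (h : G) ^ k = t := by
  obtain ⟨k, hk⟩ := hh
  -- `h ^ k * t⁻¹` lies in the kernel and commutes with `t`
  have h1 : h ^ k * (tC t)⁻¹ ∈ π.ker := by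
    rw [MonoidHom.mem_ker, map_mul, map_pow, map_inv, hk, pi_t ht π hπ hK, mul_inv_cancel]
  set y := h ^ k * (tC t)⁻¹ with hy
  have h2 : y ^ Nat.card π.ker = 1 := by
    have := pow_card_eq_one' (x := (⟨y, h1⟩ : π.ker))
    simpa using congrArg Subtype.val this
  have h3 : h ^ k = y * tC t := by rw [hy]; group
  have h4 : (h ^ k) ^ Nat.card π.ker = tC t := by
    rw [h3, (show Commute y (tC t) from (tC_mul_comm y).symm).mul_pow, h2, one_mul]
    obtain ⟨j, hj⟩ := hK
    have h5 : tC t ^ 2 = 1 := sq_of_order (orderOf_tC ht)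
    rw [hj, pow_add, pow_mul, h5, one_pow, one_mul, pow_one]
  refine ⟨k * Nat.card π.ker, ?_⟩
  have h5 := congrArg (Subtype.val) h4
  rw [← pow_mul] at h5
  exact h5

/-- The number of the involutions over `w`. -/
noncomputable def kap (w : Grp) : ℕ :=
  Nat.card {x : Subgroup.centralizer ({t} : Set G) // orderOf x = 2 ∧ π x = w}

theorem kap_conj [Finite G] (hπ : Function.Surjective π) (w c : Grp) :
    kap π (c * w * c⁻¹) = kap π w := by
  obtain ⟨d, rfl⟩ := hπ c
  symm
  unfold kap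
  refine Nat.card_congr ((MulAut.conj d).toEquiv.subtypeEquiv fun x => ?_)
  have h1 : orderOf ((MulAut.conj d).toEquiv x) = orderOf x := MulEquiv.orderOf_eq (MulAut.conj d) x
  rw [h1]
  refine and_congr_right fun _ => ?_
  show π x = w ↔ π (d * x * d⁻¹) = _
  rw [map_mul, map_mul, map_inv]
  constructor
  · rintro rfl; rfl
  · intro h
    exact mul_left_cancel (mul_right_cancel h)

/-- All noncentral involutions have the same number of involutions over them. -/
theorem kap_eq [Finite G] (hπ : Function.Surjective π) (w : Grp) (h : orderOf w = 2)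
    (hw : w ≠ -1) : kap π w = kap π refl0 := by
  obtain ⟨c, rfl⟩ := exists_conj_refl0 w h hw
  exact kap_conj π hπ _ _

theorem card_fiber [Finite G] (hπ : Function.Surjective π) (w : Grp) :
    Nat.card {x : Subgroup.centralizer ({t} : Set G) // π x = w} = Nat.card π.ker := by
  obtain ⟨d, rfl⟩ := hπ w
  symm
  refine Nat.card_congr ((Equiv.mulLeft d).subtypeEquiv fun x => ?_)
  rw [MonoidHom.mem_ker, Equiv.coe_mulLeft, map_mul]
  simp

theorem odd_kap [Finite G] (hπ : Function.Surjective π) (hK : Odd (Nat.card π.ker)) (w : Grp)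
    (hw : orderOf w = 2) : Odd (kap π w) := by
  classical
  have hw2 : w⁻¹ = w := by
    have : w ^ 2 = 1 := sq_of_order hw
    rw [inv_eq_iff_mul_eq_one, ← pow_two, this]
  have hw1 : w ≠ 1 := by
    intro h
    rw [h, orderOf_one] at hw
    omega
  let A := {x : Subgroup.centralizer ({t} : Set G) // π x = w}
  have : Fintype A := Fintype.ofFinite _
  let f : Function.End A := fun x => ⟨x.1⁻¹, by rw [map_inv, x.2, hw2]⟩
  have hf : f ^ 2 ^ 1 = 1 := by
    funext x
    apply Subtype.ext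
    show ((x.1)⁻¹)⁻¹ = x.1
    exact inv_inv _
  have h1 := Equiv.Perm.card_fixedPoints_modEq hf
  have h2 : Nat.card A = Nat.card π.ker := card_fiber π hπ w
  rw [Nat.card_eq_fintype_card] at h2
  have h3 : Fintype.card (Function.fixedPoints f) = kap π w := by
    unfold kap
    rw [← Nat.card_eq_fintype_card]
    refine Nat.card_congr
      { toFun := fun x => ⟨x.1.1, ?_⟩
        invFun := fun x => ⟨⟨x.1, x.2.2⟩, ?_⟩
        left_inv := fun x => rfl
        right_inv := fun x => rfl }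
    · have hx : (x.1.1)⁻¹ = x.1.1 := congrArg Subtype.val (x.2 : f x.1 = x.1)
      refine ⟨?_, x.1.2⟩
      rw [orderOf_eq_prime_iff (p := 2)]
      refine ⟨?_, ?_⟩
      · rw [pow_two]
        nth_rewrite 1 [← hx]
        exact inv_mul_cancel _
      · intro h
        exact hw1 (by rw [← x.1.2, h, map_one])
    · show f ⟨x.1, x.2.2⟩ = ⟨x.1, x.2.2⟩
      apply Subtype.ext
      show (x.1)⁻¹ = x.1
      have : x.1 ^ 2 = 1 := sq_of_order x.2.1
      rw [inv_eq_iff_mul_eq_one, ← pow_two, this]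
  rw [h3, h2] at h1
  rw [Nat.odd_iff] at hK ⊢
  rw [← hK]
  exact h1.symm

open scoped Classical in
theorem sum_inv [Fintype (Subgroup.centralizer ({t} : Set G))] [Fintype Grp] (F : Grp → ℂ) :
    ∑ x : Subgroup.centralizer ({t} : Set G), (if orderOf x = 2 then F (π x) else 0) =
      ∑ w : Grp, (kap π w : ℂ) * F w := by
  rw [← Finset.sum_filter, ← Finset.sum_fiberwise (Finset.univ.filter
    fun x : Subgroup.centralizer ({t} : Set G) => orderOf x = 2) π (fun x => F (π x))]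
  refine Finset.sum_congr rfl fun w _ => ?_
  rw [Finset.sum_congr rfl (g := fun _ => F w) (fun x hx => by
    rw [(Finset.mem_filter.1 hx).2]), Finset.sum_const, nsmul_eq_mul]
  congr 2
  rw [Finset.filter_filter]
  unfold kap
  rw [Nat.card_eq_fintype_card, Fintype.card_subtype]

open scoped Classical in
/-- The sum over the pairs of involutions of the centralizer. -/
theorem pair_sum [Finite G] [Fintype (Subgroup.centralizer ({t} : Set G))] [Fintype Grp]
    (hπ : Function.Surjective π) (hK : Odd (Nat.card π.ker)) (f : Grp → ℂ)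
    (hf : ∀ w, f w ≠ 0 → ∃ k : ℕ, w ^ k = -1) :
    ∑ x : Subgroup.centralizer ({t} : Set G), ∑ y : Subgroup.centralizer ({t} : Set G),
      (if orderOf x = 2 ∧ orderOf y = 2 then f (π (x * y)) else 0) =
    (kap π refl0 : ℂ) ^ 2 * ∑ x : Grp, ∑ y : Grp,
      (if orderOf x = 2 ∧ orderOf y = 2 then f (x * y) else 0) := by
  have h1 : ∑ x : Subgroup.centralizer ({t} : Set G), ∑ y : Subgroup.centralizer ({t} : Set G),
      (if orderOf x = 2 ∧ orderOf y = 2 then f (π (x * y)) else 0) =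
      ∑ x : Subgroup.centralizer ({t} : Set G), (if orderOf x = 2 then
        ∑ w' : Grp, (kap π w' : ℂ) * f (π x * w') else 0) := by
    refine Finset.sum_congr rfl fun x _ => ?_
    by_cases hx : orderOf x = 2
    · rw [if_pos hx, ← sum_inv π (fun w' => f (π x * w'))]
      refine Finset.sum_congr rfl fun y _ => ?_
      by_cases hy : orderOf y = 2
      · rw [if_pos hy, if_pos ⟨hx, hy⟩, map_mul]
      · rw [if_neg hy, if_neg fun h => hy h.2]
    · rw [if_neg hx]
      exact Finset.sum_eq_zero fun y _ => if_neg fun h => hx h.1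
  rw [h1, sum_inv π (fun w => ∑ w' : Grp, (kap π w' : ℂ) * f (w * w'))]
  simp only [Finset.mul_sum]
  refine Finset.sum_congr rfl fun w _ => Finset.sum_congr rfl fun w' _ => ?_
  -- the number over an element which is not an involution is zero
  have hk0 : ∀ w : Grp, orderOf w ≠ 2 → kap π w = 0 := by
    intro w hw
    unfold kap
    rw [Nat.card_eq_zero]
    left
    refine ⟨fun x => hw ?_⟩
    rw [← x.2.2]
    exact orderOf_pi π hK x.2.1
  by_cases hw : orderOf w = 2
  · by_cases hw' : orderOf w' = 2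
    · rw [if_pos ⟨hw, hw'⟩]
      by_cases h : w = -1 ∨ w' = -1
      · have : f (w * w') = 0 := by
          by_contra h0
          exact not_root w w' hw hw' h (hf _ h0)
        rw [this]
        ring
      · push Not at h
        rw [kap_eq π hπ w hw h.1, kap_eq π hπ w' hw' h.2]
        ring
    · rw [if_neg fun h => hw' h.2, hk0 w' hw']
      simp
  · rw [if_neg fun h => hw h.1, hk0 w hw]
    simp

open scoped Classical in
include ht in
/-- The class algebra formula for a function induced from the inflation of `f`. -/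
theorem class_algebra [Fintype G] [Fintype (IrrCharacter G)]
    [Fintype (Subgroup.centralizer ({t} : Set G))] [Fintype Grp]
    (hconj : ∀ x : G, orderOf x = 2 → IsConj t x)
    (hπ : Function.Surjective π) (hK : Odd (Nat.card π.ker)) (f : Grp → ℂ)
    (hf : ∀ w, f w ≠ 0 → ∃ k : ℕ, w ^ k = -1) (m : IrrCharacter G → ℤ)
    (hm : indFun _ (fun h => f (π h)) = ∑ χ : IrrCharacter G, m χ • (χ : G → ℂ)) :
    (Nat.card G : ℂ) * ∑ χ : IrrCharacter G, (m χ : ℂ) * ((χ : G → ℂ) t ^ 2 / (χ : G → ℂ) 1) =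
      (Nat.card (Subgroup.centralizer ({t} : Set G)) : ℂ) * ((kap π refl0 : ℂ) ^ 2 *
        ∑ x : Grp, ∑ y : Grp, (if orderOf x = 2 ∧ orderOf y = 2 then f (x * y) else 0)) := by
  rw [CentInvClassAlg.class_algebra t ht hconj (fun h => f (π h))
    (fun h hh => support_comp ht π hπ hK h (hf _ hh)) m hm, ← pair_sum π hπ hK f hf]

end main

end Cfsg.Agent.Classification.RTwo.SDClass
end

-- part: Classification/RTwo/SDCombi
section
/-!
# The integer vectors behind `GL(2,3)` centralizers, with the degrees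

`GL23Combi.combi` together with the indices at which the degrees `|X|` and `|1 - Y|` occur.
-/

set_option autoImplicit false

namespace Cfsg.Agent.Classification.RTwo.SDCombi

open Cfsg.Agent.Characters.GL23Table Cfsg.Agent.Characters.GL23Combi

section

variable {ι : Type*} [DecidableEq ι]

variable [Fintype ι]

/-- A vector with three nonzero entries whose sum over `B` vanishes. -/
theorem three_mem (B : Finset ι) (F : ι → ℤ) (a b c : ι) (hab : a ≠ b) (hac : a ≠ c) (hbc : b ≠ c)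
    (hF : ∀ x, x ≠ a → x ≠ b → x ≠ c → F x = 0) (haB : a ∈ B) (hsum : ∑ x ∈ B, F x = 0)
    (h0 : F a ≠ 0) (h1 : F a + F b ≠ 0) (h2 : F a + F c ≠ 0) : b ∈ B ∧ c ∈ B := by
  have h3 : ∑ x ∈ B, F x = ∑ x, if x ∈ B then F x else 0 := by
    rw [Finset.sum_ite_mem, Finset.univ_inter]
  rw [h3, sum_three (fun x => if x ∈ B then F x else 0) a b c hab hac hbc
    (fun x h h' h'' => by rw [hF x h h' h'', ite_self])] at hsum
  simp only [haB, if_true] at hsum
  by_cases hb : b ∈ B <;> by_cases hc : c ∈ B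
  · exact ⟨hb, hc⟩
  · simp only [hb, hc, if_true, if_false, add_zero] at hsum
    exact absurd hsum h1
  · simp only [hb, hc, if_true, if_false, add_zero] at hsum
    exact absurd hsum h2
  · simp only [hb, hc, if_false, add_zero] at hsum
    exact absurd hsum h0

theorem finish (d : ι → ℤ) (hd : ∀ x, 0 < d x) (i0 : ι) (hd0 : d i0 = 1)
    (A B C D E : ι → ℤ) (i j k l m n o : ι) (ε γ : ℤ) (hε : ε ^ 2 = 1) (hγ : γ ^ 2 = 1)
    (hC0 : C i0 = 1) (hD0 : D i0 = 0) (hE0 : E i0 = -1) (hA0 : A i0 = 0) (hB0 : B i0 = 0)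
    (hAi : A i = ε) (hBi : B i = ε) (hCi : C i = ε) (hDi : D i = ε) (hEi : E i = 0)
    (hDj : D j = 0) (hEj : E j = 0) (hDk : D k = 0) (hEk : E k = 0)
    (hAx : ∀ x, x ≠ i → x ≠ j → A x = 0) (hBx : ∀ x, x ≠ i → x ≠ k → B x = 0)
    (h0i : i0 ≠ i) (hli : l ≠ i) (hl0 : l ≠ i0) (hlj : l ≠ j) (hlk : l ≠ k) (hCl : C l = γ)
    (hDl : D l = 0) (hEl : E l = 0)
    (hCx : ∀ x, x ≠ i0 → x ≠ i → x ≠ l → C x = 0)
    (hDm : D m ^ 2 = 1) (hmi : m ≠ i)
    (hDx : ∀ x, x ≠ i → x ≠ m → x ≠ n → D x = 0)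
    (hEm : E m = D m) (hEn : E n = 0) (hEo : E o ^ 2 = 1) (ho0 : o ≠ i0) (hom : o ≠ m)
    (hon : o ≠ n) (hEx : ∀ x, x ≠ i0 → x ≠ m → x ≠ n → x ≠ o → E x = 0)
    (hCd : 1 + ε * d i + γ * d l = 0) (hEd : ∑ x, E x * d x = 0)
    (v : ι → ℤ) (hv : ∀ x, v x = 2 * A x + 2 * B x - 3 * C x + D x - 4 * E x) :
    ∃ X Y : ℤ, X ≠ 0 ∧ X + 1 ≠ 0 ∧ Y ≠ 0 ∧ 1 - Y ≠ 0 ∧
      ∑ x, (C x : ℚ) * ((v x : ℚ) ^ 2 / d x) = 1 + 4 / X - 9 / (X + 1) ∧
      ∑ x, (E x : ℚ) * ((v x : ℚ) ^ 2 / d x) = -1 + 9 / Y + 16 / (1 - Y) ∧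
      (∃ i, C i ≠ 0 ∧ d i = |X|) ∧ (∃ o, E o ≠ 0 ∧ d o = |1 - Y|) ∧
      (∀ B : Finset ι, i0 ∈ B → ∑ x ∈ B, C x * d x = 0 → ∀ x, C x ≠ 0 → x ∈ B) ∧
      (∀ B : Finset ι, i0 ∈ B → ∑ x ∈ B, E x * d x = 0 → ∀ x, E x ≠ 0 → x ∈ B) := by
  have ne_of (f : ι → ℤ) {x y : ι} (hx : f x ^ 2 = 1) (hy : f y = 0) : x ≠ y := by
    rintro rfl
    rw [hy] at hx
    norm_num at hx
  have hmj : m ≠ j := ne_of D hDm hDj
  have hmk : m ≠ k := ne_of D hDm hDk
  have hml : m ≠ l := ne_of D hDm hDl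
  have hm0 : m ≠ i0 := ne_of D hDm hD0
  have hoi : o ≠ i := ne_of E hEo hEi
  have hoj : o ≠ j := ne_of E hEo hEj
  have hok : o ≠ k := ne_of E hEo hEk
  have hol : o ≠ l := ne_of E hEo hEl
  have hEx' : ∀ x, x ≠ i0 → x ≠ m → x ≠ o → E x = 0 := by
    intro x h1 h2 h3
    by_cases hxn : x = n
    · rw [hxn, hEn]
    · exact hEx x h1 h2 hxn h3
  have v0 : v i0 = 1 := by rw [hv, hA0, hB0, hC0, hD0, hE0]; norm_num
  have vi : v i = 2 * ε := by rw [hv, hAi, hBi, hCi, hDi, hEi]; ring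
  have vl : v l = -3 * γ := by
    rw [hv, hAx l hli hlj, hBx l hli hlk, hCl, hDl, hEl]; ring
  have vm : v m = -3 * D m := by
    rw [hv, hAx m hmi hmj, hBx m hmi hmk, hCx m hm0 hmi hml, hEm]; ring
  have vo : v o = -4 * E o := by
    rw [hv, hAx o hoi hoj, hBx o hoi hok, hCx o ho0 hoi hol, hDx o hoi hom hon]; ring
  have sumE : ∑ x, E x * d x = -1 + E m * d m + E o * d o := by
    rw [sum_three (fun x => E x * d x) i0 m o hm0.symm ho0.symm hom.symm
      (fun x h h' h'' => by rw [hEx' x h h' h'', zero_mul]), hE0, hd0]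
    ring
  rw [hEd] at sumE
  have hεd : ε * d i ≠ 0 := by
    rcases pm hε with h | h <;> rw [h] <;> have := hd i <;> omega
  have hγd : γ * d l ≠ 0 := by
    rcases pm hγ with h | h <;> rw [h] <;> have := hd l <;> omega
  have hEm2 : E m ^ 2 = 1 := by rw [hEm]; exact hDm
  have hmd : E m * d m ≠ 0 := by
    rcases pm hEm2 with h | h <;> rw [h] <;> have := hd m <;> omega
  have hod : E o * d o ≠ 0 := by
    rcases pm hEo with h | h <;> rw [h] <;> have := hd o <;> omega
  refine ⟨ε * d i, E m * d m, hεd, by omega, hmd, by omega, ?_, ?_, ⟨i, ?_, ?_⟩,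
    ⟨o, ?_, ?_⟩, ?_, ?_⟩
  · rw [sum_three (fun x => (C x : ℚ) * ((v x : ℚ) ^ 2 / d x)) i0 i l h0i hl0.symm hli.symm
      (fun x h h' h'' => by rw [hCx x h h' h'']; simp), v0, vi, vl, hC0, hCi, hCl, hd0]
    have e1 : ((2 * ε : ℤ) : ℚ) ^ 2 = 4 := by
      have : (2 * ε) ^ 2 = 4 := by rw [mul_pow, hε]; norm_num
      exact_mod_cast this
    have e2 : ((-3 * γ : ℤ) : ℚ) ^ 2 = 9 := by
      have : (-3 * γ) ^ 2 = 9 := by rw [mul_pow, hγ]; norm_num
      exact_mod_cast this
    rw [e1, e2, frac_one hε (hd i) rfl, frac_one hγ (hd l) rfl]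
    have e3 : ((γ * d l : ℤ) : ℚ) = -(((ε * d i : ℤ) : ℚ) + 1) := by
      have : γ * d l = -(ε * d i + 1) := by omega
      rw [this]
      push_cast
      ring
    rw [e3, div_neg]
    norm_num
    ring
  · rw [sum_three (fun x => (E x : ℚ) * ((v x : ℚ) ^ 2 / d x)) i0 m o hm0.symm ho0.symm hom.symm
      (fun x h h' h'' => by rw [hEx' x h h' h'']; simp), v0, vm, vo, hE0, hd0, ← hEm]
    have e1 : ((-3 * E m : ℤ) : ℚ) ^ 2 = 9 := by
      have : (-3 * E m) ^ 2 = 9 := by rw [mul_pow, hEm2]; norm_num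
      exact_mod_cast this
    have e2 : ((-4 * E o : ℤ) : ℚ) ^ 2 = 16 := by
      have : (-4 * E o) ^ 2 = 16 := by rw [mul_pow, hEo]; norm_num
      exact_mod_cast this
    rw [e1, e2, frac_one hEm2 (hd m) rfl, frac_one hEo (hd o) rfl]
    have e3 : ((E o * d o : ℤ) : ℚ) = 1 - ((E m * d m : ℤ) : ℚ) := by
      have : E o * d o = 1 - E m * d m := by omega
      rw [this]
      push_cast
      ring
    rw [e3]
    norm_num
  · rw [hCi]
    rcases pm hε with h | h <;> rw [h] <;> norm_num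
  · rw [abs_mul, abs_of_pos (hd i)]
    rcases pm hε with h | h <;> rw [h] <;> simp
  · intro h
    rw [h] at hEo
    norm_num at hEo
  · have e3 : 1 - E m * d m = E o * d o := by omega
    rw [e3, abs_mul, abs_of_pos (hd o)]
    rcases pm hEo with h | h <;> rw [h] <;> simp
  · intro B h0 hsum x hx
    obtain ⟨h1, h2⟩ := three_mem B (fun x => C x * d x) i0 i l h0i hl0.symm hli.symm
      (fun x h h' h'' => by rw [hCx x h h' h'', zero_mul]) h0 hsum
      (by rw [hC0, hd0]; norm_num)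
      (by
        rw [hC0, hd0, hCi]
        intro h
        apply hγd
        linear_combination hCd - h)
      (by
        rw [hC0, hd0, hCl]
        intro h
        apply hεd
        linear_combination hCd - h)
    by_contra hxB
    refine hx (hCx x ?_ ?_ ?_)
    · rintro rfl; exact hxB h0
    · rintro rfl; exact hxB h1
    · rintro rfl; exact hxB h2
  · intro B h0 hsum x hx
    obtain ⟨h1, h2⟩ := three_mem B (fun x => E x * d x) i0 m o hm0.symm ho0.symm hom.symm
      (fun x h h' h'' => by rw [hEx' x h h' h'', zero_mul]) h0 hsum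
      (by rw [hE0, hd0]; norm_num)
      (by
        rw [hE0, hd0]
        intro h
        apply hod
        linear_combination -sumE - h)
      (by
        rw [hE0, hd0]
        intro h
        apply hmd
        linear_combination -sumE - h)
    by_contra hxB
    refine hx (hEx' x ?_ ?_ ?_)
    · rintro rfl; exact hxB h0
    · rintro rfl; exact hxB h1
    · rintro rfl; exact hxB h2

/-- The combinatorial heart: the degrees and the values. -/
theorem combi (d : ι → ℤ) (hd : ∀ x, 0 < d x) (i0 : ι) (hd0 : d i0 = 1)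
    (A B C D E : ι → ℤ)
    (hAA : ∑ x, A x ^ 2 = 2) (hBB : ∑ x, B x ^ 2 = 2) (hCC : ∑ x, C x ^ 2 = 3)
    (hDD : ∑ x, D x ^ 2 = 3) (hEE : ∑ x, E x ^ 2 = 3)
    (hAB : ∑ x, A x * B x = 1) (hAC : ∑ x, A x * C x = 1) (hAD : ∑ x, A x * D x = 1)
    (hAE : ∑ x, A x * E x = 0) (hBC : ∑ x, B x * C x = 1) (hBD : ∑ x, B x * D x = 1)
    (hBE : ∑ x, B x * E x = 0) (hCD : ∑ x, C x * D x = 1) (hCE : ∑ x, C x * E x = -1)
    (hDE : ∑ x, D x * E x = 1)
    (hA0 : A i0 = 0) (hB0 : B i0 = 0) (hC0 : C i0 = 1) (hD0 : D i0 = 0) (hE0 : E i0 = -1)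
    (hAd : ∑ x, A x * d x = 0) (hBd : ∑ x, B x * d x = 0) (hCd : ∑ x, C x * d x = 0)
    (hDd : ∑ x, D x * d x = 0) (hEd : ∑ x, E x * d x = 0)
    (v : ι → ℤ) (hv : ∀ x, v x = 2 * A x + 2 * B x - 3 * C x + D x - 4 * E x) :
    ∃ X Y : ℤ, X ≠ 0 ∧ X + 1 ≠ 0 ∧ Y ≠ 0 ∧ 1 - Y ≠ 0 ∧
      ∑ x, (C x : ℚ) * ((v x : ℚ) ^ 2 / d x) = 1 + 4 / X - 9 / (X + 1) ∧
      ∑ x, (E x : ℚ) * ((v x : ℚ) ^ 2 / d x) = -1 + 9 / Y + 16 / (1 - Y) ∧
      (∃ i, C i ≠ 0 ∧ d i = |X|) ∧ (∃ o, E o ≠ 0 ∧ d o = |1 - Y|) ∧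
      (∀ B : Finset ι, i0 ∈ B → ∑ x ∈ B, C x * d x = 0 → ∀ x, C x ≠ 0 → x ∈ B) ∧
      (∀ B : Finset ι, i0 ∈ B → ∑ x ∈ B, E x * d x = 0 → ∀ x, E x ≠ 0 → x ∈ B) := by
  obtain ⟨i, j, k, ε, hε, hij, hik, hjk, hAi, hAj, hAx, hBi, hBk, hBx, hdj, hdk⟩ :=
    two_vectors d A B hd hAA hBB hAB hAd hBd
  have hεne : ε ≠ 0 := by rcases hε with h | h <;> rw [h] <;> norm_num
  have hε2 : ε ^ 2 = 1 := by rcases hε with h | h <;> rw [h] <;> norm_num
  have h0i : i0 ≠ i := by rintro rfl; exact hεne (hAi ▸ hA0)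
  have h0j : i0 ≠ j := by
    rintro rfl
    rw [hA0] at hAj
    omega
  have h0k : i0 ≠ k := by
    rintro rfl
    rw [hB0] at hBk
    omega
  have sumA : ∀ F : ι → ℤ, ∑ x, A x * F x = ε * (F i - F j) := by
    intro F
    rw [sum_two (fun x => A x * F x) i j hij (fun x h h' => by rw [hAx x h h', zero_mul]), hAi, hAj]
    ring
  have sumB : ∀ F : ι → ℤ, ∑ x, B x * F x = ε * (F i - F k) := by
    intro F
    rw [sum_two (fun x => B x * F x) i k hik (fun x h h' => by rw [hBx x h h', zero_mul]), hBi, hBk]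
    ring
  rw [sumA] at hAC hAD hAE
  rw [sumB] at hBC hBD hBE
  obtain ⟨hCi, hCj, hCk, l, hCl, hli, hl0, hlj, hlk, hCx⟩ :=
    lemmaC d C i0 i j k ε hd0 hε hij hik hjk h0i h0j h0k hdj hdk hCC hAC hBC hC0 hCd
  have sumC : ∀ F : ι → ℤ, ∑ x, C x * F x = F i0 + ε * F i + C l * F l := by
    intro F
    rw [sum_three (fun x => C x * F x) i0 i l h0i hl0.symm hli.symm
      (fun x h h' h'' => by rw [hCx x h h' h'', zero_mul]), hC0, hCi]
    ring
  rw [sumC] at hCD hCE hCd
  rw [hd0] at hCd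
  rw [hD0, zero_add] at hCD
  rw [hE0] at hCE
  obtain ⟨hDi, hDj, hDk, hDl, m, n, hDm, hDn, hmi, hni, hmn, hDx⟩ :=
    lemmaD d D i j k l ε (C l) hε hCl hij hik hjk hli hlj hlk hdj hdk hDD hAD hBD hCD hCd hDd
  have ne_of (f : ι → ℤ) {x y : ι} (hx : f x ^ 2 = 1) (hy : f y = 0) : x ≠ y := by
    rintro rfl
    rw [hy] at hx
    norm_num at hx
  have hDE' : ε * E i + D m * E m + D n * E n = 1 := by
    rw [← hDE, sum_three (fun x => D x * E x) i m n hmi.symm hni.symm hmn
      (fun x h h' h'' => by rw [hDx x h h' h'', zero_mul]), hDi]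
  obtain ⟨hEi, hEj, hEk, hEl, hcase, o, hEo, ho0, hom, hon, hEx⟩ :=
    lemmaE E D i0 i j k l m n ε (C l) hε hCl hij hik hjk h0i h0j h0k (ne_of D hDm hD0).symm
      (ne_of D hDn hD0).symm hmn hDm hDn hEE hAE hBE hE0 hCE hDE'
  rcases hcase with ⟨h1, h2⟩ | ⟨h1, h2⟩
  · exact finish d hd i0 hd0 A B C D E i j k l m n o ε (C l) hε2 hCl hC0 hD0 hE0 hA0 hB0 hAi hBi
      hCi hDi hEi hDj hEj hDk hEk hAx hBx h0i hli hl0 hlj hlk rfl hDl hEl hCx hDm hmi hDx h1 h2
      hEo ho0 hom hon hEx hCd hEd v hv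
  · exact finish d hd i0 hd0 A B C D E i j k l n m o ε (C l) hε2 hCl hC0 hD0 hE0 hA0 hB0 hAi hBi
      hCi hDi hEi hDj hEj hDk hEk hAx hBx h0i hli hl0 hlj hlk rfl hDl hEl hCx hDn hni
      (fun x a b c => hDx x a c b) h2 h1
      hEo ho0 hon hom (fun x a b c e => hEx x a c b e) hCd hEd v hv

end

end Cfsg.Agent.Classification.RTwo.SDCombi
end

-- part: Classification/RTwo/SDNum
section
/-!
# The number theory for involution centralizers with quotient `GL(2,3)`

The degrees of `L₃(3)` (`X = 26`, `Y = 13`) and of `M₁₁` (`X = 10`, `Y = 45`).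
-/

set_option autoImplicit false

namespace Cfsg.Agent.Classification.RTwo.SDNum

/-- The final diophantine equation. -/
theorem final (x e : ℤ) (hx : x ≠ 0) (he : e ≠ 0) (hx2 : Odd x)
    (h : e ^ 2 * ((1 + 4 * x) * (3 + 8 * x)) = x ^ 2 * ((16 * e - 3) * (4 * e - 1))) :
    (x = 1 ∧ e = 3) ∨ (x = 3 ∧ e = 1) := by
  have h0 : e ^ 2 * (3 + 20 * x) = x ^ 2 * (32 * e ^ 2 - 28 * e + 3) := by linear_combination h
  have he2 : 0 < e ^ 2 := by positivity
  have hx2' : 0 < x ^ 2 := by positivity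
  have h1 : 0 < 32 * e ^ 2 - 28 * e + 3 := by
    rcases lt_or_gt_of_ne he with h' | h'
    · nlinarith
    · nlinarith
  have hx1 : 1 ≤ x := by
    by_contra hlt
    push Not at hlt
    have : x ≤ -1 := by omega
    have h2 : e ^ 2 * (3 + 20 * x) < 0 := mul_neg_of_pos_of_neg he2 (by linarith)
    have h3 : 0 < x ^ 2 * (32 * e ^ 2 - 28 * e + 3) := mul_pos hx2' h1
    linarith
  have he1 : 1 ≤ e := by
    by_contra hlt
    push Not at hlt
    have h2 : e ≤ -1 := by omega
    have h3 : 32 * e ^ 2 ≤ 32 * e ^ 2 - 28 * e + 3 := by linarith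
    have h4 : x ^ 2 * (32 * e ^ 2) ≤ e ^ 2 * (3 + 20 * x) := by
      rw [h0]
      exact mul_le_mul_of_nonneg_left h3 hx2'.le
    have h5 : e ^ 2 * (32 * x ^ 2) ≤ e ^ 2 * (3 + 20 * x) := by linarith
    have h6 := le_of_mul_le_mul_left h5 he2
    nlinarith
  have hx5 : x ≤ 5 := by
    by_contra hlt
    push Not at hlt
    have h3 : 4 * e ^ 2 ≤ 32 * e ^ 2 - 28 * e + 3 := by nlinarith
    have h4 : x ^ 2 * (4 * e ^ 2) ≤ e ^ 2 * (3 + 20 * x) := by
      rw [h0]
      exact mul_le_mul_of_nonneg_left h3 hx2'.le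
    have h5 : e ^ 2 * (4 * x ^ 2) ≤ e ^ 2 * (3 + 20 * x) := by linarith
    have h6 := le_of_mul_le_mul_left h5 he2
    nlinarith
  obtain ⟨k, hk⟩ := hx2
  have : x = 1 ∨ x = 3 ∨ x = 5 := by omega
  rcases this with rfl | rfl | rfl
  · left
    refine ⟨rfl, ?_⟩
    have h7 : (e - 3) * (9 * e - 1) = 0 := by linear_combination -h0
    rcases mul_eq_zero.1 h7 with h8 | h8 <;> omega
  · right
    refine ⟨rfl, ?_⟩
    have h7 : (e - 1) * (25 * e - 3) * 9 = 0 := by linear_combination -h0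
    have h8 : (e - 1) * (25 * e - 3) = 0 := by omega
    rcases mul_eq_zero.1 h8 with h8 | h8 <;> omega
  · exfalso
    nlinarith

theorem even_of_sq {N a w : ℤ} (hN : Odd N) (h : N * a ^ 2 = 2 * w) : ∃ b, a = 2 * b := by
  have h1 : Even (N * a ^ 2) := h ▸ even_two_mul w
  rw [Int.even_mul, Int.even_pow] at h1
  rcases h1 with h1 | h1
  · exact absurd hN (Int.not_odd_iff_even.2 h1)
  · obtain ⟨b, hb⟩ := h1.1
    exact ⟨b, by omega⟩

theorem odd_of_eq {N a u : ℤ} (hu : Odd u) (h : N * a ^ 2 = u) : Odd a := by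
  by_contra h1
  rw [Int.not_odd_iff_even] at h1
  have : Even (N * a ^ 2) := Even.mul_left (h1.pow_of_ne_zero (by norm_num)) _
  rw [h] at this
  exact (Int.not_even_iff_odd.2 hu) this

/-- The two solutions. -/
theorem main (N κ X Y : ℤ) (hN : Odd N) (hκ : Odd κ) (hX : X ≠ 0)
    (hX1 : X + 1 ≠ 0) (hY : Y ≠ 0) (hY1 : 1 - Y ≠ 0)
    (h1 : N * (X - 2) ^ 2 = 96 * κ ^ 2 * X * (X + 1))
    (h2 : N * (Y + 3) ^ 2 = 192 * κ ^ 2 * Y * (Y - 1)) :
    (X = 10 ∧ Y = 45) ∨ (X = 26 ∧ Y = 13) := by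
  have hN0 : N ≠ 0 := by
    rintro rfl
    exact (by decide : ¬ Odd (0 : ℤ)) hN
  have hκ0 : κ ≠ 0 := by
    rintro rfl
    exact (by decide : ¬ Odd (0 : ℤ)) hκ
  -- `X = 2 + 8 x`
  obtain ⟨a, ha⟩ := even_of_sq (a := X - 2) (w := 48 * κ ^ 2 * X * (X + 1)) hN
    (by linear_combination h1)
  have hXa : X = 2 * a + 2 := by linarith
  subst hXa
  have h3 : N * a ^ 2 = 2 * (24 * κ ^ 2 * (a + 1) * (2 * a + 3)) := by
    have : (4 : ℤ) * (N * a ^ 2) = 4 * (2 * (24 * κ ^ 2 * (a + 1) * (2 * a + 3))) := by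
      linear_combination h1
    exact mul_left_cancel₀ (by norm_num) this
  obtain ⟨b, rfl⟩ := even_of_sq hN h3
  have h4 : N * b ^ 2 = 2 * (6 * κ ^ 2 * (2 * b + 1) * (4 * b + 3)) := by
    have : (4 : ℤ) * (N * b ^ 2) = 4 * (2 * (6 * κ ^ 2 * (2 * b + 1) * (4 * b + 3))) := by
      linear_combination h3
    exact mul_left_cancel₀ (by norm_num) this
  obtain ⟨x, rfl⟩ := even_of_sq hN h4
  have h5 : N * x ^ 2 = 3 * κ ^ 2 * (1 + 4 * x) * (3 + 8 * x) := by
    have : (4 : ℤ) * (N * x ^ 2) = 4 * (3 * κ ^ 2 * (1 + 4 * x) * (3 + 8 * x)) := by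
      linear_combination h4
    exact mul_left_cancel₀ (by norm_num) this
  have hx2 : Odd x := by
    refine odd_of_eq ?_ h5
    refine Odd.mul (Odd.mul (Odd.mul (by decide) hκ.pow) ⟨2 * x, by ring⟩) ⟨4 * x + 1, by ring⟩
  -- `Y = -3 + 16 e`
  obtain ⟨a, ha⟩ := even_of_sq (a := Y + 3) (w := 96 * κ ^ 2 * Y * (Y - 1)) hN
    (by linear_combination h2)
  have hYa : Y = 2 * a - 3 := by linarith
  subst hYa
  have h6 : N * a ^ 2 = 2 * (48 * κ ^ 2 * (2 * a - 3) * (a - 2)) := by
    have : (4 : ℤ) * (N * a ^ 2) = 4 * (2 * (48 * κ ^ 2 * (2 * a - 3) * (a - 2))) := by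
      linear_combination h2
    exact mul_left_cancel₀ (by norm_num) this
  obtain ⟨b, rfl⟩ := even_of_sq hN h6
  have h7 : N * b ^ 2 = 2 * (24 * κ ^ 2 * (4 * b - 3) * (b - 1)) := by
    have : (4 : ℤ) * (N * b ^ 2) = 4 * (2 * (24 * κ ^ 2 * (4 * b - 3) * (b - 1))) := by
      linear_combination h6
    exact mul_left_cancel₀ (by norm_num) this
  obtain ⟨c, rfl⟩ := even_of_sq hN h7
  have h8 : N * c ^ 2 = 2 * (6 * κ ^ 2 * (8 * c - 3) * (2 * c - 1)) := by
    have : (4 : ℤ) * (N * c ^ 2) = 4 * (2 * (6 * κ ^ 2 * (8 * c - 3) * (2 * c - 1))) := by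
      linear_combination h7
    exact mul_left_cancel₀ (by norm_num) this
  obtain ⟨e, rfl⟩ := even_of_sq hN h8
  have h9 : N * e ^ 2 = 3 * κ ^ 2 * (16 * e - 3) * (4 * e - 1) := by
    have : (4 : ℤ) * (N * e ^ 2) = 4 * (3 * κ ^ 2 * (16 * e - 3) * (4 * e - 1)) := by
      linear_combination h8
    exact mul_left_cancel₀ (by norm_num) this
  have hx0 : x ≠ 0 := by
    rintro rfl
    exact (by decide : ¬ Odd (0 : ℤ)) hx2
  have he0 : e ≠ 0 := by
    rintro rfl
    have h10 : (3 : ℤ) * κ ^ 2 * 3 = 0 := by linear_combination -h9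
    have : κ ^ 2 = 0 := by omega
    exact hκ0 (by simpa using this)
  have h10 : e ^ 2 * ((1 + 4 * x) * (3 + 8 * x)) = x ^ 2 * ((16 * e - 3) * (4 * e - 1)) := by
    have h11 : (3 * κ ^ 2) * (e ^ 2 * ((1 + 4 * x) * (3 + 8 * x))) =
        (3 * κ ^ 2) * (x ^ 2 * ((16 * e - 3) * (4 * e - 1))) := by
      linear_combination x ^ 2 * h9 - e ^ 2 * h5
    exact mul_left_cancel₀ (by positivity) h11
  rcases final x e hx0 he0 hx2 h10 with ⟨rfl, rfl⟩ | ⟨rfl, rfl⟩
  · left; constructor <;> norm_num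
  · right; constructor <;> norm_num

end Cfsg.Agent.Classification.RTwo.SDNum
end

-- part: Classification/RTwo/SDChar
section
/-!
# Involution centralizers with quotient `GL(2,3)` by an odd normal subgroup: a small character

`main`: if all involutions of `G` are conjugate and `C(t)` has a normal subgroup of odd order with
quotient `GL(2,3)`, then the principal 2-block contains an irreducible character of degree `10` or
`12`.
-/

set_option autoImplicit false
open Cfsg

namespace Cfsg.Agent.Classification.RTwo.SDChar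

open Cfsg.Agent.Characters Cfsg.Agent.Characters.GL23 Cfsg.Agent.Characters.GL23Table
open Cfsg.Agent.Classification.RTwo.SDClass
open scoped ComplexConjugate

section inflate

/-- Inflation preserves the inner product. -/
theorem classInner_inflate {C Q : Type*} [Group C] [Group Q] [Fintype C] [Fintype Q] (π : C →* Q)
    (hπ : Function.Surjective π) (f g : Q → ℂ) :
    classInner (fun x => f (π x)) (fun x => g (π x)) = classInner f g := by
  classical
  have h0 : ∀ w : Q, Nat.card {x : C // π x = w} = Nat.card π.ker := by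
    intro w
    obtain ⟨d, rfl⟩ := hπ w
    symm
    refine Nat.card_congr ((Equiv.mulLeft d).subtypeEquiv fun x => ?_)
    rw [MonoidHom.mem_ker, Equiv.coe_mulLeft, map_mul]
    simp
  have h1 : ∑ x : C, f (π x) * conj (g (π x)) =
      (Nat.card π.ker : ℂ) * ∑ w : Q, f w * conj (g w) := by
    rw [← Finset.sum_fiberwise Finset.univ π (fun x => f (π x) * conj (g (π x))), Finset.mul_sum]
    refine Finset.sum_congr rfl fun w _ => ?_
    rw [Finset.sum_congr rfl (g := fun _ => f w * conj (g w)) (fun x hx => by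
      rw [(Finset.mem_filter.1 hx).2]), Finset.sum_const, nsmul_eq_mul]
    congr 2
    rw [← h0 w, Nat.card_eq_fintype_card, Fintype.card_subtype]
  have h2 : Nat.card C = Nat.card Q * Nat.card π.ker := by
    have := Subgroup.card_eq_card_quotient_mul_card_subgroup π.ker
    rw [this, Nat.card_congr (QuotientGroup.quotientKerEquivOfSurjective π hπ).toEquiv]
  have h3 : (Nat.card π.ker : ℂ) ≠ 0 := by exact_mod_cast Nat.card_pos.ne'
  have h4 : (Nat.card Q : ℂ) ≠ 0 := by exact_mod_cast Nat.card_pos.ne'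
  rw [Core.classInner_def, Core.classInner_def, h1, h2]
  push_cast
  field_simp

end inflate

section main

variable {G : Type*} [Group G] [Fintype G] {t : G} (ht : orderOf t = 2)
  (π : Subgroup.centralizer ({t} : Set G) →* Grp)

/-- The five functions on the centralizer. -/
noncomputable def alC (i : Fin 5) : Subgroup.centralizer ({t} : Set G) → ℂ :=
  fun h => emb (alG i (π h))

theorem isGen_alC (i : Fin 5) :
    IsGeneralizedCharacter (Subgroup.centralizer ({t} : Set G)) (alC π i) := by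
  have h := GL23Assembly.isGen_comp (χ := fun g : Grp => emb (alG i g)) π (isGen_alG i)
  exact h

theorem emb_alG_support (i : Fin 5) (w : Grp) (hw : emb (alG i w) ≠ 0) : ∃ k : ℕ, w ^ k = -1 := by
  refine alG_support i w ?_
  intro h0
  apply hw
  rw [h0, map_zero]

include ht in
theorem alC_support (hπ : Function.Surjective π) (hK : Odd (Nat.card π.ker)) (i : Fin 5)
    (h : Subgroup.centralizer ({t} : Set G)) (hh : alC π i h ≠ 0) : ∃ k : ℕ, (h : G) ^ k = t :=
  support_comp ht π hπ hK h (emb_alG_support i _ hh)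

theorem card_C (hπ : Function.Surjective π) :
    Nat.card (Subgroup.centralizer ({t} : Set G)) = 48 * Nat.card π.ker := by
  have := Subgroup.card_eq_card_quotient_mul_card_subgroup π.ker
  rw [this, Nat.card_congr (QuotientGroup.quotientKerEquivOfSurjective π hπ).toEquiv, natCard_Grp]

include ht in
/-- A character in the principal 2-block is constant on the elements over `-1`. -/
theorem value_of_mem {M : Ideal AlgInt} (hM : IsPModular 2 M) (hπ : Function.Surjective π)
    (hK : Odd (Nat.card π.ker)) (χ : IrrCharacter G) (hχ : χ ∈ principalBlock M G)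
    (x : Subgroup.centralizer ({t} : Set G)) (hx : π x = -1) :
    (χ : G → ℂ) x = (χ : G → ℂ) t := by
  have h1 : (tC t)⁻¹ * x ∈ π.ker := by
    rw [MonoidHom.mem_ker, map_mul, map_inv, pi_t ht π hπ hK, hx, inv_mul_cancel]
  have hle : π.ker ≤ pPrimeCore 2 (Subgroup.centralizer ({t} : Set G)) := by
    refine le_sSup (show π.ker ∈ {N : Subgroup (Subgroup.centralizer ({t} : Set G)) |
      N.Normal ∧ (Nat.card N).Coprime 2} from ⟨MonoidHom.normal_ker π, ?_⟩)
    rw [Nat.coprime_two_right]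
    exact hK
  have h2 : ((tC t)⁻¹ * x : Subgroup.centralizer ({t} : Set G)) ∈
      pPrimeCore 2 (Subgroup.centralizer ({t} : Set G)) := hle h1
  have h3 : (((tC t)⁻¹ * x : Subgroup.centralizer ({t} : Set G)) : G) ∈
      centralizerPPrimeCore 2 t := ⟨_, h2, rfl⟩
  have : Fact (Nat.Prime 2) := ⟨Nat.prime_two⟩
  have h4 := S0942.result 2 M hM t ⟨1, by rw [ht, pow_one]⟩ _ h3 χ hχ
  have h5 : (x : G) =
      t * (((tC t)⁻¹ * x : Subgroup.centralizer ({t} : Set G)) : G) := by
    show (x : G) = t * (t⁻¹ * x)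
    group
  rw [← h4, ← h5]

open scoped Classical in
include ht in
/-- The value at `t` of an irreducible character that is constant on the elements over `-1`. -/
theorem value_t [Fintype (IrrCharacter G)] [Fintype (Subgroup.centralizer ({t} : Set G))]
    (hπ : Function.Surjective π) (hK : Odd (Nat.card π.ker))
    (m : Fin 5 → IrrCharacter G → ℤ)
    (hm : ∀ i, indFun _ (alC π i) = ∑ χ : IrrCharacter G, m i χ • (χ : G → ℂ))
    (χ : IrrCharacter G) (hχ : ∀ x : Subgroup.centralizer ({t} : Set G), π x = -1 →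
      (χ : G → ℂ) x = (χ : G → ℂ) t) :
    (χ : G → ℂ) t = ((∑ i, wt i * m i χ : ℤ) : ℂ) := by
  have h1 : ∀ i, (m i χ : ℂ) = classInner (alC π i) (fun x => (χ : G → ℂ) x) := by
    intro i
    rw [← S0150.classInner_indFun _ _ _ (fun g h => Core.isIrr_isClassFunction χ.2 g h), hm i]
    have := Core.classInner_sum_smul_irr (fun ψ : IrrCharacter G => ((m i ψ : ℤ) : ℂ)) χ
    rw [← this]
    congr 1
    refine Finset.sum_congr rfl fun ψ _ => ?_
    rw [Int.cast_smul_eq_zsmul]
  have h2 : ((∑ i, wt i * m i χ : ℤ) : ℂ) = conj ((χ : G → ℂ) t) := by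
    push_cast
    simp only [h1, Core.classInner_def]
    have h3 : ∑ i : Fin 5, (wt i : ℂ) * ((Nat.card (Subgroup.centralizer ({t} : Set G)) : ℂ)⁻¹ *
        ∑ g : Subgroup.centralizer ({t} : Set G), alC π i g * conj ((χ : G → ℂ) g)) =
        (Nat.card (Subgroup.centralizer ({t} : Set G)) : ℂ)⁻¹ *
        ∑ g : Subgroup.centralizer ({t} : Set G), (∑ i : Fin 5, (wt i : ℂ) * alC π i g) *
          conj ((χ : G → ℂ) g) := by
      simp only [Finset.mul_sum, Finset.sum_mul]
      rw [Finset.sum_comm]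
      refine Finset.sum_congr rfl fun g _ => Finset.sum_congr rfl fun i _ => ?_
      ring
    rw [h3]
    have h4 : ∀ g : Subgroup.centralizer ({t} : Set G),
        (∑ i : Fin 5, (wt i : ℂ) * alC π i g) * conj ((χ : G → ℂ) g) =
          if π g = -1 then 48 * conj ((χ : G → ℂ) t) else 0 := by
      intro g
      have h5 : ∑ i : Fin 5, (wt i : ℂ) * alC π i g = if π g = -1 then 48 else 0 :=
        wt_sum_alG (π g)
      rw [h5]
      by_cases hg : π g = -1
      · rw [if_pos hg, if_pos hg, hχ g hg]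
      · rw [if_neg hg, if_neg hg, zero_mul]
    simp only [h4]
    rw [← Finset.sum_filter, Finset.sum_const, nsmul_eq_mul]
    have h6 : (Finset.univ.filter fun g : Subgroup.centralizer ({t} : Set G) => π g = -1).card =
        Nat.card π.ker := by
      rw [← card_fiber π hπ (-1), Nat.card_eq_fintype_card, Fintype.card_subtype]
    have h7 : (Nat.card π.ker : ℂ) ≠ 0 := by exact_mod_cast Nat.card_pos.ne'
    rw [h6, card_C π hπ]
    push_cast
    field_simp
  have h3 := congrArg (starRingEnd ℂ) h2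
  rw [Complex.conj_conj, map_intCast] at h3
  exact h3.symm

include ht in
/-- `t` is central in a Sylow 2-subgroup. -/
theorem odd_index (hconj : ∀ x : G, orderOf x = 2 → IsConj t x) :
    Odd (Subgroup.centralizer ({t} : Set G)).index := by
  have : Fact (Nat.Prime 2) := ⟨Nat.prime_two⟩
  obtain ⟨P⟩ : Nonempty (Sylow 2 G) := inferInstance
  have hP1 : Nontrivial (P : Subgroup G) := by
    rw [← Finite.one_lt_card_iff_nontrivial, P.card_eq_multiplicity]
    refine Nat.one_lt_pow ?_ (by norm_num)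
    have h2 : 2 ∣ Nat.card G := by rw [← ht]; exact orderOf_dvd_natCard t
    exact (Nat.prime_two.factorization_pos_of_dvd Nat.card_pos.ne' h2).ne'
  have hP2 : IsPGroup 2 (P : Subgroup G) := P.isPGroup'
  have hZ : Nontrivial (Subgroup.center (P : Subgroup G)) := hP2.center_nontrivial
  have hZp : IsPGroup 2 (Subgroup.center (P : Subgroup G)) := hP2.to_subgroup _
  obtain ⟨z, hz⟩ : ∃ z : Subgroup.center (P : Subgroup G), orderOf z = 2 := by
    refine exists_prime_orderOf_dvd_card' 2 ?_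
    obtain ⟨k, hk, hk'⟩ := hZp.nontrivial_iff_card.1 hZ
    rw [hk']
    exact dvd_pow_self 2 hk.ne'
  have hz2 : orderOf ((z : (P : Subgroup G)) : G) = 2 := by
    rw [Subgroup.orderOf_coe, Subgroup.orderOf_coe, hz]
  obtain ⟨c, hc⟩ := isConj_iff.1 (hconj _ hz2)
  -- `t = c⁻¹ z c` is centralized by the conjugate of `P`
  have h1 : ∀ g ∈ (P : Subgroup G), (g * ((z : (P : Subgroup G)) : G)) =
      ((z : (P : Subgroup G)) : G) * g := by
    intro g hg
    have := (Subgroup.mem_center_iff.1 z.2) ⟨g, hg⟩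
    exact congrArg Subtype.val this
  have h2 : ((P : Subgroup G).map (MulAut.conj c⁻¹).toMonoidHom) ≤
      Subgroup.centralizer ({t} : Set G) := by
    rintro _ ⟨g, hg, rfl⟩
    rw [Subgroup.mem_centralizer_singleton_iff]
    have h3 := h1 g hg
    rw [← hc] at h3
    show c⁻¹ * g * c⁻¹⁻¹ * t = t * (c⁻¹ * g * c⁻¹⁻¹)
    rw [inv_inv]
    have h4 : c⁻¹ * (g * (c * t * c⁻¹)) * c = c⁻¹ * (c * t * c⁻¹ * g) * c := by rw [h3]
    calc c⁻¹ * g * c * t = c⁻¹ * (g * (c * t * c⁻¹)) * c := by group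
      _ = c⁻¹ * (c * t * c⁻¹ * g) * c := h4
      _ = t * (c⁻¹ * g * c) := by group
  have h5 : Nat.card ((P : Subgroup G).map (MulAut.conj c⁻¹).toMonoidHom) =
      Nat.card (P : Subgroup G) :=
    Nat.card_congr ((P : Subgroup G).equivMapOfInjective _
      (MulAut.conj c⁻¹).injective).toEquiv.symm
  have h6 : Nat.card (P : Subgroup G) ∣ Nat.card (Subgroup.centralizer ({t} : Set G)) := by
    rw [← h5]
    exact Subgroup.card_dvd_of_le h2
  have h7 := Subgroup.card_mul_index (Subgroup.centralizer ({t} : Set G))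
  rw [← Nat.not_even_iff_odd, even_iff_two_dvd]
  intro h8
  have h9 : 2 ^ ((Nat.card G).factorization 2 + 1) ∣ Nat.card G := by
    rw [pow_succ, ← P.card_eq_multiplicity]
    exact (mul_dvd_mul h6 h8).trans (dvd_of_eq h7)
  exact Nat.pow_succ_factorization_not_dvd Nat.card_pos.ne' Nat.prime_two h9

open scoped Classical in
/-- The part of an induced function in the principal block has degree zero. -/
theorem block_degree [Fintype (IrrCharacter G)] {M : Ideal AlgInt} (hM : IsPModular 2 M)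
    (ϑ : G → ℂ) (hcl : IsClassFunction G ϑ) (hodd : ∀ g, Odd (orderOf g) → ϑ g = 0)
    (m : IrrCharacter G → ℤ) (hm : ϑ = ∑ χ : IrrCharacter G, m χ • (χ : G → ℂ))
    (d : IrrCharacter G → ℕ) (hd : ∀ χ : IrrCharacter G, (χ : G → ℂ) 1 = d χ) :
    ∑ χ ∈ Finset.univ.filter (fun χ : IrrCharacter G => χ ∈ principalBlock M G),
      m χ * (d χ : ℤ) = 0 := by
  have h1 := BGBlockB0.blockPart_odd hM hcl hodd (g := 1) (by simp)
  rw [BGBlockB0.blockPart_sum] at h1
  have h2 : ∀ χ : IrrCharacter G, classInner ϑ (χ : G → ℂ) = m χ := by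
    intro χ
    rw [hm]
    have := Core.classInner_sum_smul_irr (fun ψ : IrrCharacter G => ((m ψ : ℤ) : ℂ)) χ
    rw [← this]
    congr 1
    refine Finset.sum_congr rfl fun ψ _ => ?_
    rw [Int.cast_smul_eq_zsmul]
  have h3 : ((∑ χ ∈ Finset.univ.filter (fun χ : IrrCharacter G => χ ∈ principalBlock M G),
      m χ * (d χ : ℤ) : ℤ) : ℂ) = 0 := by
    rw [← h1]
    push_cast
    refine Finset.sum_congr rfl fun χ _ => ?_
    rw [h2, hd]
  exact_mod_cast h3

end main

theorem arith_of_sums {N k : ℕ} {X Y : ℤ} (hX : X ≠ 0) (hX1 : X + 1 ≠ 0) (hY : Y ≠ 0)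
    (hY1 : 1 - Y ≠ 0) (h3 : (N : ℚ) * (1 + 4 / X - 9 / (X + 1)) = 96 * k ^ 2)
    (h5 : (N : ℚ) * (-1 + 9 / Y + 16 / (1 - Y)) = -192 * k ^ 2) :
    (N : ℤ) * (X - 2) ^ 2 = 96 * k ^ 2 * X * (X + 1) ∧
      (N : ℤ) * (Y + 3) ^ 2 = 192 * k ^ 2 * Y * (Y - 1) := by
  have hX' : (X : ℚ) ≠ 0 := by exact_mod_cast hX
  have hX1' : (X : ℚ) + 1 ≠ 0 := by exact_mod_cast hX1
  have hY' : (Y : ℚ) ≠ 0 := by exact_mod_cast hY
  have hY1' : 1 - (Y : ℚ) ≠ 0 := by exact_mod_cast hY1
  constructor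
  · have : (N : ℚ) * (X - 2) ^ 2 = 96 * k ^ 2 * X * (X + 1) := by
      field_simp at h3
      linear_combination h3
    exact_mod_cast this
  · have : (N : ℚ) * (Y + 3) ^ 2 = 192 * k ^ 2 * Y * (Y - 1) := by
      field_simp at h5
      linear_combination h5
    exact_mod_cast this

open scoped Classical in
/-- An irreducible character of degree `10` or `12` in the principal 2-block. -/
theorem main {G : Type*} [Group G] [Finite G] {t : G} (ht : orderOf t = 2)
    (hconj : ∀ x : G, orderOf x = 2 → IsConj t x)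
    (π : Subgroup.centralizer ({t} : Set G) →* Matrix.GeneralLinearGroup (Fin 2) (ZMod 3))
    (hπ : Function.Surjective π) (hK : Odd (Nat.card π.ker))
    {M : Ideal AlgInt} (hM : IsPModular 2 M) :
    ∃ χ : IrrCharacter G, χ ∈ principalBlock M G ∧
      ((χ : G → ℂ) 1 = 10 ∨ (χ : G → ℂ) 1 = 12) := by
  have := Fintype.ofFinite G
  have hfin := Core.finite_irr (G := G)
  have : Fintype (IrrCharacter G) := Fintype.ofFinite _
  have : Fintype (Subgroup.centralizer ({t} : Set G)) := Fintype.ofFinite _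
  have : Finite Grp := inferInstance
  have : Fintype Grp := Fintype.ofFinite _
  have hgen : ∀ i, IsGeneralizedCharacter G (indFun _ (alC π i)) :=
    fun i => GL23Assembly.isGen_indFun _ _ (isGen_alC π i)
  choose m hm using fun i => Core.isGeneralizedCharacter_iff.mp (hgen i)
  have hm' : ∀ i, indFun _ (alC π i) = ∑ χ : IrrCharacter G, ((m i χ : ℤ) : ℂ) • (χ : G → ℂ) := by
    intro i
    rw [hm i]
    refine Finset.sum_congr rfl fun ψ _ => ?_
    rw [Int.cast_smul_eq_zsmul]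
  have hclass : ∀ i, IsClassFunction _ (alC π i) := fun i =>
    GL23Assembly.isGen_isClassFunction (isGen_alC π i)
  have hCard : Nat.card (Subgroup.centralizer ({t} : Set G)) = 48 * Nat.card π.ker :=
    card_C π hπ
  -- Gram matrix
  have hgram : ∀ i j, ∑ χ, m i χ * m j χ = gram i j := by
    intro i j
    have h1 := CentInvTI.classInner_ind t ht (alC π i) (alC π j) (hclass i) (hclass j)
      (alC_support ht π hπ hK i) (alC_support ht π hπ hK j)
    rw [hm' i, hm' j, Core.classInner_sum_smul_sum_smul] at h1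
    have h2 : classInner (alC π i) (alC π j) = gram i j := by
      rw [← classInner_alG i j]
      exact classInner_inflate π hπ (fun g : Grp => emb (alG i g))
        (fun g : Grp => emb (alG j g))
    rw [h2] at h1
    simp only [map_intCast] at h1
    exact_mod_cast h1
  -- trivial character
  have hi0 : ∀ i, m i ⟨1, Core.isIrr_one⟩ = (![0,0,1,0,-1] : Fin 5 → ℤ) i := by
    intro i
    have h1 := Core.classInner_sum_smul_irr (fun ψ : IrrCharacter G => ((m i ψ : ℤ) : ℂ))
      ⟨1, Core.isIrr_one⟩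
    rw [← hm' i, S0150.classInner_indFun _ _ _ (fun g h => rfl)] at h1
    have h2 := classInner_alG_one i
    rw [← classInner_inflate π hπ (fun g : Grp => emb (alG i g)) 1] at h2
    have h3 : ((m i ⟨1, Core.isIrr_one⟩ : ℤ) : ℂ) = ((![0,0,1,0,-1] : Fin 5 → ℤ) i : ℤ) := by
      rw [← h1, ← h2]
      rfl
    exact_mod_cast h3
  -- degrees
  choose d hdpos hd using fun χ : IrrCharacter G => Core.isIrr_apply_one χ.2
  have hdeg : ∀ i, ∑ χ, m i χ * (d χ : ℤ) = 0 := by
    intro i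
    have h1 := CentInvTI.ind_one t ht (alC π i) (alC_support ht π hπ hK i)
    rw [hm' i, Finset.sum_apply] at h1
    have h2 : ∑ χ : IrrCharacter G, ((m i χ : ℤ) : ℂ) * (d χ : ℂ) = 0 := by
      rw [← h1]
      refine Finset.sum_congr rfl fun χ _ => ?_
      rw [Pi.smul_apply, hd χ, smul_eq_mul]
    exact_mod_cast h2
  -- vanishing on elements of odd order
  have hodd : ∀ i (g : G), Odd (orderOf g) → indFun _ (alC π i) g = 0 := by
    intro i g hg
    rw [S0150.indFun_apply]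
    refine mul_eq_zero_of_right _ (Finset.sum_eq_zero fun x _ => ?_)
    by_cases hx : x⁻¹ * g * x ∈ Subgroup.centralizer ({t} : Set G)
    · have h1 := S0150.extendByZero_coe (Subgroup.centralizer ({t} : Set G)) (alC π i)
        ⟨x⁻¹ * g * x, hx⟩
      rw [h1]
      by_contra h2
      obtain ⟨k, hk⟩ := alC_support ht π hπ hK i _ h2
      have h3 : orderOf (x⁻¹ * g * x) = orderOf g := by
        have := orderOf_injective (MulAut.conj x⁻¹).toMonoidHom (MulAut.conj x⁻¹).injective g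
        simpa using this
      have h4 : orderOf t ∣ orderOf g := by
        rw [← h3, ← hk]
        exact orderOf_pow_dvd k
      rw [ht] at h4
      exact (Nat.not_even_iff_odd.2 hg) (even_iff_two_dvd.2 h4)
    · exact S0150.extendByZero_of_notMem _ _ hx
  have hblock : ∀ i, ∑ χ ∈ Finset.univ.filter (fun χ : IrrCharacter G => χ ∈ principalBlock M G),
      m i χ * (d χ : ℤ) = 0 := fun i =>
    block_degree hM _ (GL23Assembly.isGen_isClassFunction (hgen i)) (hodd i) (m i) (hm i) d hd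
  have hprinc : (⟨1, Core.isIrr_one⟩ : IrrCharacter G) ∈
      Finset.univ.filter (fun χ : IrrCharacter G => χ ∈ principalBlock M G) := by
    rw [Finset.mem_filter]
    refine ⟨Finset.mem_univ _, ?_⟩
    have : M.IsPrime := Blocks.Local.isPrime_of_isPModular hM
    exact Blocks.Basic.sameBlock_refl _
  obtain ⟨X, Y, hX, hX1, hY, hY1, hS3, hS5, ⟨χ₁, hχ₁, hχ₁d⟩, ⟨χ₂, hχ₂, hχ₂d⟩, hB3, hB5⟩ :=
    SDCombi.combi (fun χ : IrrCharacter G => (d χ : ℤ))
    (fun χ => by exact_mod_cast hdpos χ) ⟨1, Core.isIrr_one⟩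
    (by
      have h1 := hd ⟨1, Core.isIrr_one⟩
      have h2 : (1 : ℂ) = (d ⟨1, Core.isIrr_one⟩ : ℂ) := h1
      exact_mod_cast h2.symm)
    (m 0) (m 1) (m 2) (m 3) (m 4)
    (by simp only [pow_two]; exact hgram 0 0) (by simp only [pow_two]; exact hgram 1 1)
    (by simp only [pow_two]; exact hgram 2 2) (by simp only [pow_two]; exact hgram 3 3)
    (by simp only [pow_two]; exact hgram 4 4)
    (hgram 0 1) (hgram 0 2) (hgram 0 3) (hgram 0 4) (hgram 1 2) (hgram 1 3) (hgram 1 4)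
    (hgram 2 3) (hgram 2 4) (hgram 3 4) (hi0 0) (hi0 1) (hi0 2) (hi0 3) (hi0 4)
    (hdeg 0) (hdeg 1) (hdeg 2) (hdeg 3) (hdeg 4)
    (fun χ => ∑ i, wt i * m i χ)
    (by
      intro χ
      rw [Fin.sum_univ_five]
      change (2 : ℤ) * m 0 χ + (2 : ℤ) * m 1 χ + (-3 : ℤ) * m 2 χ + (1 : ℤ) * m 3 χ +
        (-4 : ℤ) * m 4 χ = _
      ring)
  have hmem2 : ∀ χ, m 2 χ ≠ 0 → χ ∈ principalBlock M G := fun χ h =>
    (Finset.mem_filter.1 (hB3 _ hprinc (hblock 2) χ h)).2
  have hmem4 : ∀ χ, m 4 χ ≠ 0 → χ ∈ principalBlock M G := fun χ h =>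
    (Finset.mem_filter.1 (hB5 _ hprinc (hblock 4) χ h)).2
  -- the values at `t`
  have hval : ∀ χ : IrrCharacter G, χ ∈ principalBlock M G →
      (χ : G → ℂ) t = ((∑ i, wt i * m i χ : ℤ) : ℂ) :=
    fun χ hχ => value_t ht π hπ hK m hm χ (fun x hx => value_of_mem ht π hM hπ hK χ hχ x hx)
  set N := (Subgroup.centralizer ({t} : Set G)).index with hN
  have hGN : Nat.card G = 48 * Nat.card π.ker * N := by
    rw [← hCard, hN, Subgroup.card_mul_index]
  have hKer0 : (Nat.card π.ker : ℚ) ≠ 0 := by exact_mod_cast Nat.card_pos.ne'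
  set κ := kap π refl0 with hκ
  have hsum : ∀ i : Fin 5, (∀ χ, m i χ ≠ 0 → χ ∈ principalBlock M G) → ∀ c : ℤ,
      (∑ x : Grp, ∑ y : Grp, (if orderOf x = 2 ∧ orderOf y = 2 then emb (alG i (x * y)) else 0)
        = (c : ℂ)) →
      (N : ℚ) * (∑ χ : IrrCharacter G, (m i χ : ℚ) *
        (((∑ j, wt j * m j χ : ℤ) : ℚ) ^ 2 / ((d χ : ℤ) : ℚ))) = κ ^ 2 * c := by
    intro i hi c hc
    have h1 := SDClass.class_algebra ht π hconj hπ hK (fun w => emb (alG i w))
      (fun w hw => emb_alG_support i w hw) (m i) (hm i)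
    rw [hc, hCard, hGN] at h1
    have h2 : ((∑ χ : IrrCharacter G, (m i χ : ℚ) *
        (((∑ j, wt j * m j χ : ℤ) : ℚ) ^ 2 / ((d χ : ℤ) : ℚ)) : ℚ) : ℂ) =
        ∑ χ : IrrCharacter G, (m i χ : ℂ) * ((χ : G → ℂ) t ^ 2 / (χ : G → ℂ) 1) := by
      rw [Rat.cast_sum]
      refine Finset.sum_congr rfl fun χ _ => ?_
      by_cases h0 : m i χ = 0
      · rw [h0]
        push_cast
        ring
      · rw [hval χ (hi χ h0), hd χ]
        push_cast
        rfl
    rw [← h2] at h1
    have h3 : ((48 * Nat.card π.ker * N : ℕ) : ℚ) * (∑ χ : IrrCharacter G, (m i χ : ℚ) *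
        (((∑ j, wt j * m j χ : ℤ) : ℚ) ^ 2 / ((d χ : ℤ) : ℚ))) =
        ((48 * Nat.card π.ker : ℕ) : ℚ) * ((κ : ℚ) ^ 2 * (c : ℚ)) := by
      exact_mod_cast h1
    push_cast at h3 ⊢
    have h4 : (48 * (Nat.card π.ker : ℚ)) ≠ 0 := mul_ne_zero (by norm_num) hKer0
    refine mul_left_cancel₀ h4 ?_
    rw [← h3]
    ring
  have h3 := hsum 2 hmem2 96 (by rw [inv_sum_alG_two]; norm_num)
  have h5 := hsum 4 hmem4 (-192) (by rw [inv_sum_alG_four]; norm_num)
  rw [hS3] at h3
  rw [hS5] at h5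
  obtain ⟨e3, e5⟩ := arith_of_sums (N := N) (k := κ) hX hX1 hY hY1
    (by push_cast at h3 ⊢; rw [h3]; ring) (by push_cast at h5 ⊢; rw [h5]; ring)
  have hNodd : Odd (N : ℤ) := by exact_mod_cast odd_index ht hconj
  have hκodd : Odd (κ : ℤ) := by
    have h6 : orderOf refl0 = 2 := by
      rw [← isInv_iff]
      show isInv 1 0 0 (-1)
      decide
    exact_mod_cast odd_kap π hπ hK refl0 h6
  rcases SDNum.main N κ X Y hNodd hκodd hX hX1 hY hY1 e3 e5 with ⟨h, -⟩ | ⟨-, h⟩
  · refine ⟨χ₁, hmem2 χ₁ hχ₁, Or.inl ?_⟩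
    rw [hd χ₁]
    rw [h] at hχ₁d
    norm_num at hχ₁d
    exact_mod_cast hχ₁d
  · refine ⟨χ₂, hmem4 χ₂ hχ₂, Or.inr ?_⟩
    rw [hd χ₂]
    rw [h] at hχ₂d
    norm_num at hχ₂d
    exact_mod_cast hχ₂d

end Cfsg.Agent.Classification.RTwo.SDChar
end
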