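import Mathlib
import Cfsg.Agent.S0215
import Cfsg.Agent.S0251
import Cfsg.Agent.S1213
import Cfsg.Agent.S1215
import Cfsg.Agent.TwoFusion.NormalSL2
import Cfsg.Agent.TwoFusion.QGroupMain
import Cfsg.Agent.TwoFusion.QuatSolvable
import Cfsg.Agent.TwoFusion.QGroupQuotient
import Cfsg.Agent.TwoFusion.QDBasic
import Cfsg.Agent.TwoFusion.WreathedBasic
import Cfsg.Agent.S1193
import Cfsg.Agent.TwoFusion.SylowTypeTransfer
import Cfsg.Agent.Classification.RTwo.Recog
import Cfsg.Agent.TwoFusion.QDStructure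
import Cfsg.Prelude.Def_Balance
import Cfsg.Prelude.Def_LieClassical
import Cfsg.Agent.Lib.Cores
import Cfsg.Agent.Blocks.ExistsModular
import Cfsg.Agent.Characters.GL23Assembly
import Cfsg.Agent.Classification.RTwo.CoreKill
import Cfsg.Agent.Classification.RTwo.SDChar
import Cfsg.Prelude.Def_Sporadic
import Cfsg.Agent.S0197
import Cfsg.Agent.Classification.IdL3.Final
import Cfsg.Agent.FastGrp
import Cfsg.Agent.Prune
set_option linter.all false

section
prune_inst 0x7ffcbcf9afb8bfffdfff7e7ffedddffdf5adffffffdffdcbffec6ddfafdf6b0ec9c5fba58fe85afe0ff662b610f87b53ffffee7fef6bdc7ffffd5ff41ffbff9ffdf7b50851fd88be0fbc0fff03f07f8e7f3fffffffffffffffffffffffffffbeffffffffffff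

-- part: Classification/RTwo/StructBasic_mg
section
prune_inst 0x34202504040002000000001200000085200000000020000118020100000613400000810040001800000082002000000000080000401000000000000000000000000a520002400104060008801004000000000000000000000000000000041000000000000
set_option linter.all false
open scoped Cfsg.Agent.FastGrp

-- part: Classification/RTwo/StructBasic
section
/-!
# The structure of `C(t)/O(C(t))` in the solvable case: common part

`H` a finite solvable group with `O(H) = 1` and quasi-dihedral or wreathed Sylow 2-subgroup satisfying the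
hypothesis of S1216: `H` has a normal subgroup `L ≅ SL(2,3)` with `C_H(L) = Z(H) = Z(S)` and an element
`d` acting on `L` as `diag(-1, 1)`, and `H = L Z(H) ∪ L Z(H) d`.
-/

set_option autoImplicit false

namespace Cfsg.Agent.Classification.RTwo.StructBasic

open Subgroup Matrix Cfsg.Agent.Lib.SL2Mat Cfsg.Agent.Lib.AutSL2 Cfsg.Agent.TwoFusion
  Cfsg.Agent.TwoFusion.NormalSL2

instance fact_three : Fact (Nat.Prime 3) := ⟨Nat.prime_three⟩

abbrev SL3 := Matrix.SpecialLinearGroup (Fin 2) (ZMod 3)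

/-- `diag(-1, 1)` -/
def D : GL (Fin 2) (ZMod 3) := dgl (-1) (neg_ne_zero.2 one_ne_zero)

/-- The structure of `H = L Z(H) ∪ L Z(H) d`. -/
structure Data {H : Type*} [Group H] (L : Subgroup H) (e : L ≃* SL3) (d : H) : Prop where
  normal : L.Normal
  cent : ∀ c : H, (∀ l ∈ L, c * l = l * c) → ∀ h, c * h = h * c
  act : ∀ l : L, d * l * d⁻¹ = e.symm (conjGL D (e l))
  cover : ∀ h : H, ∃ l ∈ L, ∃ c, (∀ h, c * h = h * c) ∧ (h = l * c ∨ h = l * c * d)
  not_mem : ∀ l ∈ L, ∀ c, (∀ h, c * h = h * c) → d ≠ l * c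

theorem zmod_cases : ∀ a : ZMod 3, a = 0 ∨ a = 1 ∨ a = -1 := by decide

/-- every automorphism of `SL(2,3)` is conjugation by an element of `GL(2,3)` -/
theorem exists_conjGL (α : MulAut SL3) : ∃ g : GL (Fin 2) (ZMod 3), α = conjGL g := by
  obtain ⟨g, σ, h⟩ := Cfsg.Agent.Lib.AutSL2Out.exists_eq α
  refine ⟨g, ?_⟩
  rw [h]
  have hσ : ∀ a, σ a = a := by
    intro a
    rcases zmod_cases a with rfl | rfl | rfl <;> simp
  have hfa : fieldAut σ = 1 := by
    apply MulEquiv.ext
    intro x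
    refine ext_ent ?_ ?_ ?_ ?_ <;> rw [fieldAut_ent, hσ, MulAut.one_apply]
  rw [hfa, mul_one]

theorem exists_conj_or (α : MulAut SL3) :
    (∃ s : SL3, ∀ x, α x = s * x * s⁻¹) ∨ (∃ s : SL3, ∀ x, α x = s * conjGL D x * s⁻¹) := by
  obtain ⟨g, rfl⟩ := exists_conjGL α
  have hne : g.1.det ≠ 0 := (Matrix.GeneralLinearGroup.det g).ne_zero
  rcases zmod_cases g.1.det with h | h | h
  · exact absurd h hne
  · left
    obtain ⟨s, hs⟩ := Cfsg.Agent.Lib.AutSL2Out.conjGL_of_det_sq g 1 one_ne_zero (by rw [h, one_pow])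
    exact ⟨s, hs⟩
  · right
    obtain ⟨s, hs⟩ := Cfsg.Agent.Lib.AutSL2Out.conjGL_of_det_sq (g * D⁻¹) 1 one_ne_zero (by
      rw [Units.val_mul, Matrix.det_mul, h]
      change -1 * (!![(-1 : ZMod 3)⁻¹, 0; 0, 1]).det = 1 ^ 2
      rw [Matrix.det_fin_two_of]; simp)
    refine ⟨s, fun x => ?_⟩
    rw [← hs, ← MulAut.mul_apply, ← map_mul, inv_mul_cancel_right]

theorem qdw_data {S : Type*} [Group S] [Finite S] (h : Cfsg.IsQuasiDihedral S ∨ Cfsg.IsWreathed S) :
    ∃ U : Subgroup S, (∀ a ∈ U, ∀ b ∈ U, a * b = b * a) ∧ (∀ s t, s ∉ U → t ∉ U → s * t ∈ U) ∧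
      ∃ s t : S, (s * t * s⁻¹ * t⁻¹) ^ 2 ≠ 1 := by
  rcases h with h | h
  · obtain ⟨n, u, y, h⟩ := QDBasic.exists_qdcoord h
    have hinv : ∀ a, (u a)⁻¹ = u (-a) := by
      intro a
      apply inv_eq_of_mul_eq_one_right
      rw [h.u_mul, add_neg_cancel, h.u_zero]
    let U : Subgroup S :=
      { carrier := Set.range u
        mul_mem' := by rintro _ _ ⟨a, rfl⟩ ⟨b, rfl⟩; exact ⟨a + b, (h.u_mul a b).symm⟩
        one_mem' := ⟨0, h.u_zero⟩
        inv_mem' := by rintro _ ⟨a, rfl⟩; exact ⟨-a, (hinv a).symm⟩ }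
    have hout : ∀ s, s ∉ U → ∃ a, s = u a * y := by
      intro s hs
      rcases h.cases s with ⟨a, ha⟩ | h1
      · exact absurd ⟨a, ha.symm⟩ hs
      · exact h1
    refine ⟨U, ?_, ?_, y, u 1, ?_⟩
    · rintro _ ⟨a, rfl⟩ _ ⟨b, rfl⟩
      rw [h.u_mul, h.u_mul, add_comm]
    · intro s t hs ht
      obtain ⟨a, rfl⟩ := hout s hs
      obtain ⟨b, rfl⟩ := hout t ht
      refine ⟨a + ((2 : ZMod (2 ^ n)) ^ (n - 1) - 1) * b, ?_⟩
      rw [mul_assoc (u a), ← mul_assoc y, h.y_u, mul_assoc (u (_ * b)), h.y_y, mul_one, h.u_mul]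
    · intro hsq
      rw [h.y_u, mul_inv_cancel_right, hinv, h.u_mul, sq, h.u_mul] at hsq
      rw [← h.u_zero] at hsq
      have h1 := h.u_inj _ _ hsq
      have h2 : (2 : ZMod (2 ^ n)) * 2 ^ (n - 1) = 0 := QDBasic.two_mul_half n (by have := h.three_le; omega)
      have h3 : ((4 : ℕ) : ZMod (2 ^ n)) = 0 := by
        push_cast
        linear_combination h2 - h1
      rw [QDBasic.natCast_eq_zero_iff] at h3
      have h4 : 2 ^ 3 ∣ 2 ^ n := pow_dvd_pow 2 h.three_le
      have h5 := Nat.le_of_dvd (by norm_num) (h4.trans h3)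
      norm_num at h5
  · obtain ⟨n, u, z, h⟩ := WreathedBasic.exists_wcoord h
    have hinv : ∀ a b, (u a b)⁻¹ = u (-a) (-b) := by
      intro a b
      apply inv_eq_of_mul_eq_one_right
      rw [h.u_mul, add_neg_cancel, add_neg_cancel, h.u_zero]
    let U : Subgroup S :=
      { carrier := {s | ∃ a b, u a b = s}
        mul_mem' := by rintro _ _ ⟨a, b, rfl⟩ ⟨c, d, rfl⟩; exact ⟨a + c, b + d, (h.u_mul a b c d).symm⟩
        one_mem' := ⟨0, 0, h.u_zero⟩
        inv_mem' := by rintro _ ⟨a, b, rfl⟩; exact ⟨-a, -b, (hinv a b).symm⟩ }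
    have hout : ∀ s, s ∉ U → ∃ a b, s = u a b * z := by
      intro s hs
      rcases h.cases s with ⟨a, b, hab⟩ | h1
      · exact absurd ⟨a, b, hab.symm⟩ hs
      · exact h1
    refine ⟨U, ?_, ?_, z, u 1 0, ?_⟩
    · rintro _ ⟨a, b, rfl⟩ _ ⟨c, d, rfl⟩
      rw [h.u_mul, h.u_mul, add_comm a, add_comm b]
    · intro s t hs ht
      obtain ⟨a, b, rfl⟩ := hout s hs
      obtain ⟨c, d, rfl⟩ := hout t ht
      refine ⟨a + d, b + c, ?_⟩
      rw [mul_assoc (u a b), ← mul_assoc z, h.z_u, mul_assoc (u d c), h.z_z, mul_one, h.u_mul]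
    · intro hsq
      rw [h.z_u, mul_inv_cancel_right, hinv, h.u_mul, sq, h.u_mul] at hsq
      rw [← h.u_zero] at hsq
      obtain ⟨_, h1⟩ := h.u_inj _ _ _ _ hsq
      have h3 : ((2 : ℕ) : ZMod (2 ^ n)) = 0 := by
        push_cast
        linear_combination h1
      rw [QDBasic.natCast_eq_zero_iff] at h3
      have h4 : 2 ^ 2 ∣ 2 ^ n := pow_dvd_pow 2 h.two_le
      have h5 := Nat.le_of_dvd (by norm_num) (h4.trans h3)
      norm_num at h5

/-- The solvable case of S1216. -/
theorem exists_sl3 {H : Type*} [Group H] [Finite H] (hsolv : Group.IsSolvable H) (S : Sylow 2 H)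
    (hO : Cfsg.oddCore H = ⊥)
    (hQ : (∃ K : Subgroup H, K.Normal ∧ (∃ a : ℕ, K.index = 2 ^ a) ∧ (∀ M : Subgroup ↥K, M.index ≠ 2) ∧
      (∀ P : Sylow 2 ↥K, ∃ m : ℕ, 1 ≤ m ∧ Nonempty ((P : Subgroup ↥K) ≃* QuaternionGroup (2 ^ m)))) ∧
      (∀ Z₀ : Subgroup H, Z₀ ≤ ((Subgroup.center (S : Subgroup H)).map (S : Subgroup H).subtype) →
        Cfsg.IsWeaklyClosed Z₀ (S : Subgroup H))) :
    ∃ L : Subgroup H, L.Normal ∧ Nonempty (L ≃* SL3) := by
  obtain ⟨⟨K, hKn, ⟨a₀, hKidx⟩, hK2, hKQ⟩, hw⟩ := hQ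
  -- the Sylow subgroup of K
  let P : Sylow 2 K := (Cfsg.Agent.Lib.SylowNormalInf.isPGroup_subgroupOf S K).toSylow
    (Cfsg.Agent.Lib.SylowNormalInf.not_dvd_relIndex S K)
  have hP : ∀ x : K, x ∈ (P : Subgroup K) ↔ (x : H) ∈ (S : Subgroup H) := fun x => Iff.rfl
  obtain ⟨m, hm, ⟨e⟩⟩ := hKQ P
  have hne : NeZero (2 ^ m) := ⟨by positivity⟩
  -- the involution
  let aa : QuaternionGroup (2 ^ m) := QuaternionGroup.a ((2 ^ m : ℕ) : ZMod (2 * 2 ^ m))
  have haa1 : aa ≠ 1 := by
    intro h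
    rw [QuaternionGroup.one_def] at h
    have h1 : ((2 ^ m : ℕ) : ZMod (2 * 2 ^ m)) = 0 := QuaternionGroup.a.inj h
    rw [ZMod.natCast_eq_zero_iff] at h1
    have := Nat.le_of_dvd (by positivity) h1
    have : 0 < 2 ^ m := by positivity
    omega
  have haa2 : aa ^ 2 = 1 := by
    have : aa = QuaternionGroup.xa 0 ^ 2 := (QuaternionGroup.xa_sq 0).symm
    rw [this, ← pow_mul]
    exact QuaternionGroup.xa_pow_four 0
  let zP : (P : Subgroup K) := e.symm aa
  have hzP2 : orderOf zP = 2 := by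
    rw [MulEquiv.orderOf_eq]
    exact orderOf_eq_prime haa2 haa1
  have huP : ∀ x : (P : Subgroup K), orderOf x = 2 → x = zP := by
    intro x hx
    have h1 : e x = aa := by
      apply QuatCover.eq_a_of_sq_eq_one
      · rw [← map_pow]
        have h2 := pow_orderOf_eq_one x
        rw [hx] at h2
        rw [h2, map_one]
      · intro h
        rw [map_eq_one_iff e e.injective] at h
        rw [h, orderOf_one] at hx
        omega
    rw [← e.symm_apply_apply x, h1]
  let z : K := (zP : K)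
  have hz2 : orderOf z = 2 := by
    have : orderOf ((zP : (P : Subgroup K)) : K) = 2 := by rw [Subgroup.orderOf_coe, hzP2]
    exact this
  have hzS : (z : H) ∈ (S : Subgroup H) := (hP z).mp zP.2
  have hzH2 : orderOf (z : H) = 2 := by rw [Subgroup.orderOf_coe, hz2]
  -- z is central in S
  have hzcS : ∀ s ∈ (S : Subgroup H), s * (z : H) * s⁻¹ = z := by
    intro s hs
    have h1 : s * (z : H) * s⁻¹ ∈ K := hKn.conj_mem _ z.2 s
    have h2 : (⟨s * (z : H) * s⁻¹, h1⟩ : K) ∈ (P : Subgroup K) := by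
      rw [hP]
      exact (S : Subgroup H).mul_mem ((S : Subgroup H).mul_mem hs hzS) ((S : Subgroup H).inv_mem hs)
    have h3 : (⟨⟨s * (z : H) * s⁻¹, h1⟩, h2⟩ : (P : Subgroup K)) = zP := by
      apply huP
      rw [← Subgroup.orderOf_coe, ← Subgroup.orderOf_coe]
      change orderOf (s * (z : H) * s⁻¹) = 2
      have h4 : s * (z : H) * s⁻¹ = MulAut.conj s (z : H) := rfl
      rw [h4, MulEquiv.orderOf_eq, hzH2]
    exact congrArg (fun w : (P : Subgroup K) => ((w : K) : H)) h3
  have hzZ : (z : H) ∈ (Subgroup.center (S : Subgroup H)).map (S : Subgroup H).subtype := by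
    refine ⟨⟨z, hzS⟩, ?_, rfl⟩
    rw [SetLike.mem_coe, Subgroup.mem_center_iff]
    intro s
    apply Subtype.ext
    change (s : H) * (z : H) = (z : H) * (s : H)
    have := hzcS s s.2
    calc (s : H) * (z : H) = ((s : H) * (z : H) * (s : H)⁻¹) * s := by group
      _ = (z : H) * (s : H) := by rw [this]
  have hzc : (z : H) ∈ center H := by
    rw [Subgroup.mem_center_iff]
    intro g
    have h1 := IsolatedCenter.commutator_mem_oddCore_of_isWeaklyClosed
      (fun G _ _ P u => Cfsg.Agent.S0215.result P u) S _ le_rfl hw (z : H) hzZ g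
    rw [hO, Subgroup.mem_bot] at h1
    calc g * (z : H) = ((z : H) * g * (z : H)⁻¹ * g⁻¹) * (g * z) := by rw [h1, one_mul]
      _ = (z : H) * g := by group
  have hzcK : z ∈ center K := by
    rw [Subgroup.mem_center_iff]
    intro g
    exact Subtype.ext (Subgroup.mem_center_iff.mp hzc g)
  have hzn : (zpowers z).Normal := IsolatedCenter.normal_of_le_center (by rw [zpowers_le]; exact hzcK)
  -- z is the unique involution of K
  have huK : ∀ x : K, orderOf x = 2 → x = z := by
    intro x hx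
    have h1 : IsPGroup 2 (zpowers x) := IsPGroup.of_card (n := 1) (by rw [Nat.card_zpowers, hx]; rfl)
    obtain ⟨Q, hQ⟩ := h1.exists_le_sylow
    obtain ⟨k, hk⟩ := MulAction.exists_smul_eq K Q P
    have h3 : MulAut.conj k x ∈ (P : Subgroup K) := by
      rw [← hk, Sylow.coe_subgroup_smul]
      exact Subgroup.smul_mem_pointwise_smul _ _ _ (hQ (mem_zpowers x))
    have h4 : (⟨MulAut.conj k x, h3⟩ : (P : Subgroup K)) = zP := by
      apply huP
      rw [← Subgroup.orderOf_coe]
      change orderOf (MulAut.conj k x) = 2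
      rw [MulEquiv.orderOf_eq, hx]
    have h5 : MulAut.conj k x = z := congrArg Subtype.val h4
    have h6 : MulAut.conj k x = MulAut.conj k z := by
      rw [h5, MulAut.conj_apply]
      have := Subgroup.mem_center_iff.mp hzcK k
      rw [this]; group
    exact (MulAut.conj k).injective h6
  have hu : ∀ x ∈ K, orderOf x = 2 → x = (z : H) := by
    intro x hx hx2
    have := huK ⟨x, hx⟩ (by rw [← Subgroup.orderOf_coe]; exact hx2)
    exact congrArg Subtype.val this
  have hOK : Cfsg.oddCore K = ⊥ := by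
    have h1 := Cfsg.Agent.Lib.Cores.map_subtype_pPrimeCore (G := H) 2 (N := K) hKn
    have h2 : (Cfsg.pPrimeCore 2 H) = ⊥ := hO
    rw [h2, inf_bot_eq] at h1
    exact (Subgroup.map_eq_bot_iff_of_injective _ K.subtype_injective).mp h1
  have hsolK : Group.IsSolvable K := inferInstance
  obtain ⟨φ⟩ := Cfsg.Agent.TwoFusion.QuatSolvable.quotient_mulEquiv_A4 hOK z hz2 huK P m hm e hK2
  have hc3 : Fintype.card (ZMod 3) = 3 := ZMod.card 3
  obtain ⟨φ₂⟩ := Cfsg.Agent.S0251.result (F := ZMod 3) hc3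
  have hodd : Odd (Fintype.card (ZMod 3)) := by rw [hc3]; decide
  obtain ⟨ψ⟩ := QuatCoverSL.mulEquiv_sl_two z hzcK hz2 P m hm e hodd (φ.trans φ₂.symm)
  exact ⟨K, hKn, ⟨ψ⟩⟩

theorem exists_data {H : Type*} [Group H] [Finite H] (hsolv : Group.IsSolvable H) (S : Sylow 2 H)
    (hS : Cfsg.IsQuasiDihedral (S : Subgroup H) ∨ Cfsg.IsWreathed (S : Subgroup H)) (hO : Cfsg.oddCore H = ⊥)
    (hQ : (∃ K : Subgroup H, K.Normal ∧ (∃ a : ℕ, K.index = 2 ^ a) ∧ (∀ M : Subgroup ↥K, M.index ≠ 2) ∧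
      (∀ P : Sylow 2 ↥K, ∃ m : ℕ, 1 ≤ m ∧ Nonempty ((P : Subgroup ↥K) ≃* QuaternionGroup (2 ^ m)))) ∧
      (∀ Z₀ : Subgroup H, Z₀ ≤ ((Subgroup.center (S : Subgroup H)).map (S : Subgroup H).subtype) →
        Cfsg.IsWeaklyClosed Z₀ (S : Subgroup H))) :
    ∃ (L : Subgroup H) (e : L ≃* SL3) (d : H), Data L e d ∧
      (∀ c : H, (∀ h, c * h = h * c) ↔ (c ∈ S ∧ ∀ s ∈ S, c * s = s * c)) := by
  have : Fact (Nat.Prime 2) := ⟨Nat.prime_two⟩
  obtain ⟨L, hLn, ⟨e⟩⟩ := exists_sl3 hsolv S hO hQ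
  have h2 : (2 : ZMod 3) ≠ 0 := by decide
  -- the centre of `S` is central
  have hZ : ∀ z ∈ S, (∀ s ∈ S, z * s = s * z) → ∀ h : H, z * h = h * z := by
    intro z hz hzc h
    obtain ⟨o, ho, c, hc, rfl⟩ := Cfsg.Agent.S1215.result S hS hQ h
    rw [hO, Subgroup.mem_bot] at ho
    rw [ho, one_mul]
    rw [Subgroup.mem_centralizer_iff] at hc
    refine hc z ⟨⟨z, hz⟩, ?_, rfl⟩
    rw [SetLike.mem_coe, Subgroup.mem_center_iff]
    rintro ⟨s, hs⟩
    exact Subtype.ext (hzc s hs).symm
  obtain ⟨U, hU, hUi, hns⟩ : ∃ U : Subgroup H, (∀ a ∈ U, ∀ b ∈ U, a * b = b * a) ∧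
      (∀ s ∈ S, ∀ t ∈ S, s ∉ U → t ∉ U → s * t ∈ U) ∧ ∃ s ∈ S, ∃ t ∈ S, (s * t * s⁻¹ * t⁻¹) ^ 2 ≠ 1 := by
    obtain ⟨U, hU1, hU2, s, t', hst⟩ := qdw_data hS
    refine ⟨U.map (S : Subgroup _).subtype, ?_, ?_, s, s.2, t', t'.2, fun h => hst (Subtype.ext h)⟩
    · rintro _ ⟨a, ha, rfl⟩ _ ⟨b, hb, rfl⟩
      exact congrArg Subtype.val (hU1 a ha b hb)
    · intro a ha b hb haU hbU
      have h1 : (⟨a, ha⟩ : (S : Subgroup H)) ∉ U := fun h => haU ⟨_, h, rfl⟩
      have h3 : (⟨b, hb⟩ : (S : Subgroup H)) ∉ U := fun h => hbU ⟨_, h, rfl⟩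
      exact ⟨_, hU2 _ _ h1 h3, rfl⟩
  obtain ⟨x, y, hxS, hyS, hxL, hyL, hxy⟩ := exists_noncomm_in_sylow S L h2 e
  have hCn : (Subgroup.centralizer (L : Set H)).Normal := Subgroup.normal_centralizer
  have hcS : ∀ c ∈ Subgroup.centralizer (L : Set H), c ∈ S → ∀ h, c * h = h * c := by
    intro c hc hcS
    apply hZ c hcS
    rw [Subgroup.mem_centralizer_iff] at hc
    exact comm_of_comm (S := (S : Subgroup H)) hU hUi hxS hyS hxy hcS (hc x hxL).symm (hc y hyL).symm
  have hCS : Subgroup.centralizer (L : Set H) ≤ S := centralizer_le S hO _ hcS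
  have hCZ : ∀ c ∈ Subgroup.centralizer (L : Set H), ∀ h, c * h = h * c := fun c hc => hcS c hc (hCS hc)
  have hmemC : ∀ c : H, (∀ l ∈ L, c * l = l * c) → c ∈ Subgroup.centralizer (L : Set H) := by
    intro c hc
    rw [Subgroup.mem_centralizer_iff]
    exact fun l hl => (hc l hl).symm
  -- an element acting as an outer automorphism
  have hout : ∃ h0 : H, ¬ ∃ s, ∀ x, act L e h0 x = s * x * s⁻¹ := by
    by_contra hinn
    push Not at hinn
    obtain ⟨s, hs, t, ht, hst⟩ := hns
    apply hst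
    have key : ∀ u ∈ S, ∃ l : L, (l : H) ∈ S ∧ ∃ c ∈ Subgroup.centralizer (L : Set H), u = l * c := by
      intro u hu
      obtain ⟨v, hv⟩ := hinn u
      have h1 := inv_mul_mem_centralizer L e u v hv
      refine ⟨e.symm v, ?_, _, h1, by group⟩
      have h4 : ((e.symm v : L) : H) = u * (((e.symm v : L) : H)⁻¹ * u)⁻¹ := by group
      rw [h4]
      exact mul_mem hu (inv_mem (hCS h1))
    obtain ⟨l, hl, c, hc, rfl⟩ := key s hs
    obtain ⟨l', hl', c', hc', rfl⟩ := key t ht
    have h4 : (l : H) * c * (l' * c') * (l * c)⁻¹ * (l' * c')⁻¹ = l * l' * (l : H)⁻¹ * (l' : H)⁻¹ := by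
      have e1 := hCZ c hc
      have e2 := hCZ c' hc'
      calc (l : H) * c * (l' * c') * (l * c)⁻¹ * (l' * c')⁻¹
          = l * (c * (l' * c')) * c⁻¹ * (l : H)⁻¹ * c'⁻¹ * (l' : H)⁻¹ := by group
        _ = l * ((l' * c') * c) * c⁻¹ * (l : H)⁻¹ * c'⁻¹ * (l' : H)⁻¹ := by rw [e1]
        _ = l * l' * (c' * (l : H)⁻¹) * c'⁻¹ * (l' : H)⁻¹ := by group
        _ = l * l' * ((l : H)⁻¹ * c') * c'⁻¹ * (l' : H)⁻¹ := by rw [e2]
        _ = _ := by group
    rw [h4]
    have h3 : ∀ a : ZMod 3, a ≠ 0 → a ^ 2 = 1 := by decide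
    have hpow : ∀ m : L, (m : H) ∈ S → e m * e m = 1 ∨ e m * e m = neg1 (ZMod 3) := by
      intro m hm
      obtain ⟨k, hk⟩ := S.2 ⟨m, hm⟩
      have h5 : (m : H) ^ 2 ^ k = 1 := congrArg Subtype.val hk
      have h6 : m ^ 2 ^ k = 1 := Subtype.ext h5
      exact mul_self_cases h2 h3 (e m) k (by rw [← map_pow, h6, map_one])
    have h5 := commutator_sq_eq_one (hpow l hl) (hpow l' hl')
      (by have := hpow (l * l') (mul_mem hl hl'); rwa [map_mul] at this)
    rw [← map_mul, ← map_inv, ← map_mul, ← map_inv, ← map_mul, ← map_pow] at h5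
    have h6 : (l * l' * l⁻¹ * l'⁻¹) ^ 2 = 1 := by
      apply e.injective; rw [h5, map_one]
    exact congrArg Subtype.val h6
  obtain ⟨h0, hh0⟩ := hout
  obtain ⟨s0, hs0⟩ : ∃ s : SL3, ∀ x, act L e h0 x = s * conjGL D x * s⁻¹ := by
    rcases exists_conj_or (act L e h0) with h | h
    · exact absurd h hh0
    · exact h
  -- the element `d`
  obtain ⟨d, hd⟩ : ∃ d : H, ∀ x, act L e d x = conjGL D x := by
    refine ⟨((e.symm s0 : L) : H)⁻¹ * h0, fun x => ?_⟩
    have h1 : ∀ (s : SL3) (z : SL3), act L e ((e.symm s : L) : H) z = s * z * s⁻¹ := by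
      intro s z
      apply e.symm.injective
      apply Subtype.ext
      have h3 := act_apply L e ((e.symm s : L) : H) (e.symm z)
      rw [e.apply_symm_apply] at h3
      rw [h3, map_mul, map_mul, map_inv]
      rfl
    rw [map_mul, MulAut.mul_apply, hs0]
    have h4 : (((e.symm s0 : L) : H))⁻¹ = ((e.symm s0⁻¹ : L) : H) := by rw [map_inv]; rfl
    rw [h4, h1]
    group
  have hdn : ¬ ∃ s, ∀ x, act L e d x = s * x * s⁻¹ := by
    rintro ⟨s, hs⟩
    apply hh0
    refine ⟨s0 * s, fun x => ?_⟩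
    rw [hs0, ← hd, hs]
    group
  refine ⟨L, e, d, ⟨hLn, fun c hc => hCZ c (hmemC c hc), ?_, ?_, ?_⟩, ?_⟩
  · intro l
    have h1 := act_apply L e d l
    rw [hd] at h1
    exact h1.symm
  · intro h
    rcases exists_conj_or (act L e h) with ⟨s, hs⟩ | ⟨s, hs⟩
    · have h1 := inv_mul_mem_centralizer L e h s hs
      exact ⟨_, (e.symm s).2, _, hCZ _ h1, Or.inl (by group)⟩
    · have h1 := inv_mul_mem_centralizer L e (h * d⁻¹) s (fun x => by
        have h2 : act L e d⁻¹ x = conjGL D⁻¹ x := by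
          apply (act L e d).injective
          rw [← MulAut.mul_apply, ← map_mul, mul_inv_cancel, map_one, MulAut.one_apply, hd,
            ← MulAut.mul_apply, ← map_mul, mul_inv_cancel, map_one, MulAut.one_apply]
        rw [map_mul, MulAut.mul_apply, h2, hs, ← MulAut.mul_apply, ← map_mul, mul_inv_cancel, map_one,
          MulAut.one_apply])
      exact ⟨_, (e.symm s).2, _, hCZ _ h1, Or.inr (by group)⟩
  · intro l hl c hc hdlc
    apply hdn
    refine ⟨e ⟨l, hl⟩, fun x => ?_⟩
    apply e.symm.injective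
    apply Subtype.ext
    have h3 := act_apply L e d (e.symm x)
    rw [e.apply_symm_apply] at h3
    rw [h3, map_mul, map_mul, map_inv, e.symm_apply_apply, hdlc]
    change l * c * (e.symm x : L) * (l * c)⁻¹ = l * (e.symm x : L) * l⁻¹
    rw [mul_assoc l c, hc]
    group
  · intro c
    constructor
    · intro hc
      exact ⟨hCS (hmemC c fun l _ => hc l), fun s _ => hc s⟩
    · rintro ⟨hcS, hc⟩
      exact hZ c hcS hc

end Cfsg.Agent.Classification.RTwo.StructBasic
end

-- part: Classification/RTwo/ExtHom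
section
/-!
# Extension of homomorphisms to cyclic extensions

`G = N⟨d⟩`, `N` normal, `f : N →* K`, `k : K` acting on `f(N)` as `d` acts on `N` and `f (d ^ m) = k ^ m`
whenever `d ^ m ∈ N`: then `f` extends to `G →* K` with `d ↦ k`.
-/

set_option autoImplicit false

namespace Cfsg.Agent.Classification.RTwo.ExtHom

open Subgroup

variable {G K : Type*} [Group G] [Group K]

section

variable (N : Subgroup G) [hN : N.Normal] (d : G) (f : N →* K) (k : K)

/-- conjugation by powers of `d` -/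
theorem conj_zpow (hk : ∀ n : N, f (MulAut.conjNormal d n) = k * f n * k⁻¹) (m : ℤ) (n : N) :
    f (MulAut.conjNormal (d ^ m) n) = k ^ m * f n * (k ^ m)⁻¹ := by
  have hpos : ∀ (m : ℕ) (n : N), f (MulAut.conjNormal (d ^ m) n) = k ^ m * f n * (k ^ m)⁻¹ := by
    intro m
    induction m with
    | zero => intro n; simp
    | succ m ih =>
      intro n
      rw [pow_succ', map_mul, MulAut.mul_apply, hk, ih, pow_succ']
      group
  rcases Int.eq_nat_or_neg m with ⟨j, rfl | rfl⟩
  · rw [zpow_natCast, zpow_natCast]; exact hpos j n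
  · rw [zpow_neg, zpow_neg, zpow_natCast, zpow_natCast, inv_inv]
    have h1 := hpos j (MulAut.conjNormal (d ^ j)⁻¹ n)
    rw [← MulAut.mul_apply, ← map_mul, mul_inv_cancel, map_one, MulAut.one_apply] at h1
    rw [h1]; group

omit hN in
/-- the value does not depend on the representation -/
theorem well_defined (hpow : ∀ (m : ℤ) (h : d ^ m ∈ N), f ⟨d ^ m, h⟩ = k ^ m)
    (n n' : N) (m m' : ℤ) (h : (n : G) * d ^ m = n' * d ^ m') : f n * k ^ m = f n' * k ^ m' := by
  have h1 : d ^ (m' - m) = (n' : G)⁻¹ * n := by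
    rw [zpow_sub, eq_inv_mul_iff_mul_eq, ← mul_assoc, ← h, mul_inv_cancel_right]
  have h2 : d ^ (m' - m) ∈ N := by rw [h1]; exact mul_mem (inv_mem n'.2) n.2
  have h3 := hpow (m' - m) h2
  have h4 : (⟨d ^ (m' - m), h2⟩ : N) = n'⁻¹ * n := Subtype.ext h1
  rw [h4, map_mul, map_inv, zpow_sub] at h3
  rw [inv_mul_eq_iff_eq_mul] at h3
  rw [h3]; group

/-- **Extension lemma.** -/
theorem exists_ext (hd : ∀ g : G, ∃ n : N, ∃ m : ℤ, g = n * d ^ m)
    (hk : ∀ n : N, f (MulAut.conjNormal d n) = k * f n * k⁻¹)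
    (hpow : ∀ (m : ℤ) (h : d ^ m ∈ N), f ⟨d ^ m, h⟩ = k ^ m) :
    ∃ F : G →* K, (∀ n : N, F n = f n) ∧ F d = k := by
  choose a b hab using hd
  have hval : ∀ (n : N) (m : ℤ), f (a (n * d ^ m)) * k ^ (b (n * d ^ m)) = f n * k ^ m :=
    fun n m => well_defined N d f k hpow _ _ _ _ (hab _).symm
  refine ⟨{ toFun := fun g => f (a g) * k ^ (b g), map_one' := ?_, map_mul' := ?_ }, ?_, ?_⟩
  · have h := hval 1 0
    simpa using h
  · intro x y
    have hx := hab x
    have hy := hab y
    have h1 : x * y = ((a x * MulAut.conjNormal (d ^ (b x)) (a y) : N) : G) * d ^ (b x + b y) := by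
      conv_lhs => rw [hx, hy]
      rw [Subgroup.coe_mul, MulAut.conjNormal_apply, zpow_add]
      group
    conv_lhs => rw [h1]
    rw [hval, map_mul, conj_zpow N d f k hk, zpow_add]
    group
  · intro n
    have h := hval n 0
    simpa using h
  · have h := hval 1 1
    simpa using h

end

/-- **Extension lemma for an index two subgroup.** -/
theorem exists_ext_two (N : Subgroup G) [hN : N.Normal] (d : G) (f : N →* K) (k : K) (hdN : d ∉ N)
    (hd : ∀ g : G, g ∈ N ∨ g * d⁻¹ ∈ N) (hk : ∀ n : N, f (MulAut.conjNormal d n) = k * f n * k⁻¹)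
    (hd2 : d ^ 2 ∈ N) (hpow : f ⟨d ^ 2, hd2⟩ = k ^ 2) :
    ∃ F : G →* K, (∀ n : N, F n = f n) ∧ F d = k := by
  refine exists_ext N d f k ?_ hk ?_
  · intro g
    rcases hd g with h | h
    · exact ⟨⟨g, h⟩, 0, by simp⟩
    · exact ⟨⟨_, h⟩, 1, by simp⟩
  · intro m hm
    obtain ⟨j, rfl | rfl⟩ := Int.even_or_odd' m
    · have h1 : (⟨d ^ (2 * j), hm⟩ : N) = (⟨d ^ 2, hd2⟩ : N) ^ j := by
        apply Subtype.ext
        rw [Subgroup.coe_zpow]
        change d ^ (2 * j) = (d ^ 2) ^ j
        rw [zpow_mul, zpow_ofNat]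
      rw [h1, map_zpow, hpow, zpow_mul, zpow_ofNat]
    · exfalso
      apply hdN
      have h1 : d = ((d ^ 2) ^ j)⁻¹ * d ^ (2 * j + 1) := by
        rw [zpow_add, zpow_mul, zpow_one, zpow_ofNat]
        group
      rw [h1]
      exact mul_mem (inv_mem (zpow_mem hd2 j)) hm

end Cfsg.Agent.Classification.RTwo.ExtHom
end
end

-- part: Classification/RTwo/Structure
section
set_option linter.all false
open scoped Cfsg.Agent.FastGrp

/-!
# Simple groups with quasi-dihedral or wreathed Sylow 2-subgroups: general facts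

One class of involutions; the data of `C_G(t) / O(C_G(t))`.
-/

set_option autoImplicit false

open Cfsg

namespace Cfsg.Agent.Classification.RTwo.Structure

open Cfsg.Agent.TwoFusion Subgroup

/-- The centre of a quasi-dihedral or wreathed 2-group has only one involution. -/
theorem eq_of_center {S : Type*} [Group S] [Finite S]
    (h : Cfsg.IsQuasiDihedral S ∨ Cfsg.IsWreathed S) {x y : S} (hx : x ∈ center S)
    (hy : y ∈ center S) (hx2 : orderOf x = 2) (hy2 : orderOf y = 2) : x = y := by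
  rcases h with h | h
  · obtain ⟨n, hn, hc, _⟩ := id h
    have h2 : Nat.card (center S) = 2 := (Cfsg.Agent.S1193.result h n hc).2.2.2.1
    by_contra hne
    have hx1 : x ≠ 1 := by rintro rfl; simp at hx2
    have hy1 : y ≠ 1 := by rintro rfl; simp at hy2
    have h3 : ({1, x, y} : Set S) ⊆ (center S : Set S) := by
      rintro a (rfl | rfl | ha)
      · exact one_mem _
      · exact hx
      · rw [Set.mem_singleton_iff] at ha; rw [ha]; exact hy
    have h4 : ({1, x, y} : Set S).ncard = 3 := by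
      rw [Set.ncard_insert_of_notMem, Set.ncard_pair hne]
      simp [hx1.symm, hy1.symm]
    have h5 := Set.ncard_le_ncard h3 (Set.toFinite _)
    rw [h4] at h5
    have h6 : (center S : Set S).ncard = 2 := by rw [← h2]; rfl
    omega
  · obtain ⟨n, u, z, h⟩ := WreathedBasic.exists_wcoord h
    have key : ∀ x ∈ center S, orderOf x = 2 → x = u (2 ^ (n - 1)) (2 ^ (n - 1)) := by
      intro x hx hx2
      obtain ⟨a, rfl⟩ := (h.mem_center_iff x).1 hx
      rcases (h.orderOf_u_eq_two_iff a a).1 hx2 with ⟨h1, h2⟩ | ⟨h1, h2⟩ | ⟨h1, h2⟩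
      · exact absurd (h1 ▸ h2) (QDBasic.half_ne_zero n (by have := h.two_le; omega))
      · exact absurd (h1 ▸ h2).symm (QDBasic.half_ne_zero n (by have := h.two_le; omega))
      · rw [h1]
    rw [key x hx hx2, key y hy hy2]

theorem card_sylow {S : Type*} [Group S] (h : Cfsg.IsQuasiDihedral S ∨ Cfsg.IsWreathed S) :
    16 ∣ Nat.card S := by
  rcases h with ⟨n, hn, hc, _⟩ | ⟨n, hn, hc, _⟩
  · rw [hc]; exact pow_dvd_pow 2 (show 4 ≤ n + 1 by omega)
  · rw [hc]; exact pow_dvd_pow 2 (show 4 ≤ 2 * n + 1 by omega)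

variable {G : Type*} [Group G] [Finite G]

omit [Finite G] in
theorem index_ne_two [IsSimpleGroup G] (S : Sylow 2 G)
    (hS : Cfsg.IsQuasiDihedral (S : Subgroup G) ∨ Cfsg.IsWreathed (S : Subgroup G)) :
    ∀ H : Subgroup G, H.index ≠ 2 := by
  intro H hH
  have hn : H.Normal := Subgroup.normal_of_index_eq_two hH
  rcases hn.eq_bot_or_eq_top with h | h
  · rw [h, Subgroup.index_bot] at hH
    have h1 := (card_sylow hS).trans (Subgroup.card_subgroup_dvd_card (S : Subgroup G))
    rw [hH] at h1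
    norm_num at h1
  · rw [h, Subgroup.index_top] at hH
    norm_num at hH

/-- All involutions are conjugate. -/
theorem isConj_of_index (S : Sylow 2 G)
    (hS : Cfsg.IsQuasiDihedral (S : Subgroup G) ∨ Cfsg.IsWreathed (S : Subgroup G))
    (hG : ∀ H : Subgroup G, H.index ≠ 2) (a b : G) (ha : orderOf a = 2) (hb : orderOf b = 2) :
    IsConj a b := by
  have key : ∀ x : G, orderOf x = 2 → ∃ g : G, ∃ h : g * x * g⁻¹ ∈ (S : Subgroup G),
      (⟨g * x * g⁻¹, h⟩ : (S : Subgroup G)) ∈ center (S : Subgroup G) := by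
    intro x hx
    obtain ⟨R, hRcard, -, -⟩ := Cfsg.Agent.S1213.result S hS hG x hx
    -- the Sylow subgroup of `G`
    obtain ⟨T, hT⟩ := (R.2.map (Subgroup.centralizer ({x} : Set G)).subtype).exists_le_sylow
    have e1 : (S : Subgroup G) ≃* (T : Subgroup G) := Sylow.equiv S T
    have e2 : (R : Subgroup (Subgroup.centralizer ({x} : Set G))) ≃*
        ((R : Subgroup (Subgroup.centralizer ({x} : Set G))).map (Subgroup.centralizer ({x} : Set G)).subtype) :=
      Subgroup.equivMapOfInjective _ _ (Subgroup.subtype_injective _)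
    have h3 : ((R : Subgroup (Subgroup.centralizer ({x} : Set G))).map (Subgroup.centralizer ({x} : Set G)).subtype) = T := by
      apply Subgroup.eq_of_le_of_card_ge hT
      rw [← Nat.card_congr e1.toEquiv, ← Nat.card_congr e2.toEquiv]
      exact hRcard.ge
    -- `x` is in `T`
    have hTC : ∀ s ∈ (T : Subgroup G), s * x = x * s := by
      intro s hs
      rw [← h3] at hs
      obtain ⟨c, -, rfl⟩ := hs
      exact (Subgroup.mem_centralizer_singleton_iff.mp c.2)
    have hxT : x ∈ (T : Subgroup G) := by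
      have hn : zpowers x ≤ Subgroup.normalizer ((T : Subgroup G) : Set G) := by
        rw [zpowers_le]
        rw [Subgroup.mem_normalizer_iff]
        intro s
        constructor
        · intro hs
          rw [← hTC s hs, mul_inv_cancel_right]; exact hs
        · intro hs
          have := hTC _ hs
          have h4 : s * x = x * s := by
            have h5 : x * s * x⁻¹ * x = x * (x * s * x⁻¹) := this
            have h6 : x * s = x * (x * s * x⁻¹) := by rw [← h5]; group
            have h7 : s = x * s * x⁻¹ := mul_left_cancel h6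
            calc s * x = (x * s * x⁻¹) * x := by rw [← h7]
              _ = x * s := by group
          rw [← h4] at hs
          simpa using hs
      have hp : IsPGroup 2 (zpowers x) := by
        apply IsPGroup.of_card (n := 1)
        rw [Nat.card_zpowers, hx, pow_one]
      have h5 : IsPGroup 2 (((T : Subgroup G) ⊔ zpowers x : Subgroup G)) :=
        T.2.to_sup_of_normal_left' hp hn
      have h6 := T.3 h5 le_sup_left
      rw [← h6]
      exact (le_sup_right : zpowers x ≤ _) (mem_zpowers x)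
    obtain ⟨g, hg⟩ := MulAction.exists_smul_eq G T S
    have hmem : ∀ s : G, s ∈ (T : Subgroup G) ↔ g * s * g⁻¹ ∈ (S : Subgroup G) := by
      intro s
      rw [← hg, Sylow.coe_subgroup_smul, Subgroup.mem_pointwise_smul_iff_inv_smul_mem]
      simp [MulAut.smul_def, mul_assoc]
    refine ⟨g, (hmem x).1 hxT, ?_⟩
    rw [Subgroup.mem_center_iff]
    rintro ⟨s, hs⟩
    apply Subtype.ext
    have h7 : g * (g⁻¹ * s * g) * g⁻¹ = s := by group
    have h8 : g⁻¹ * s * g ∈ (T : Subgroup G) := (hmem _).2 (by rw [h7]; exact hs)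
    have h9 := hTC _ h8
    show s * (g * x * g⁻¹) = g * x * g⁻¹ * s
    calc s * (g * x * g⁻¹) = g * ((g⁻¹ * s * g) * x) * g⁻¹ := by group
      _ = g * (x * (g⁻¹ * s * g)) * g⁻¹ := by rw [h9]
      _ = g * x * g⁻¹ * s := by group
  obtain ⟨g, h1, h2⟩ := key a ha
  obtain ⟨g', h3, h4⟩ := key b hb
  have ho : ∀ (x g : G) (h : g * x * g⁻¹ ∈ (S : Subgroup G)), orderOf x = 2 →
      orderOf (⟨g * x * g⁻¹, h⟩ : (S : Subgroup G)) = 2 := by
    intro x g h hx
    rw [← Subgroup.orderOf_coe]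
    show orderOf (g * x * g⁻¹) = 2
    rw [← hx]
    exact orderOf_injective (MulAut.conj g).toMonoidHom (MulAut.conj g).injective x
  have h5 := eq_of_center hS h2 h4 (ho a g h1 ha) (ho b g' h3 hb)
  have h6 : g * a * g⁻¹ = g' * b * g'⁻¹ := congrArg Subtype.val h5
  rw [isConj_iff]
  refine ⟨g'⁻¹ * g, ?_⟩
  calc g'⁻¹ * g * a * (g'⁻¹ * g)⁻¹ = g'⁻¹ * (g * a * g⁻¹) * g' := by group
    _ = b := by rw [h6]; group

/-- The hypothesis on `C / O(C)` used in S1216. -/
def QHyp {H : Type*} [Group H] (S : Sylow 2 H) : Prop :=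
  (∃ K : Subgroup H, K.Normal ∧ (∃ a : ℕ, K.index = 2 ^ a) ∧ (∀ M : Subgroup ↥K, M.index ≠ 2) ∧
    (∀ P : Sylow 2 ↥K, ∃ m : ℕ, 1 ≤ m ∧ Nonempty ((P : Subgroup ↥K) ≃* QuaternionGroup (2 ^ m)))) ∧
  (∀ Z₀ : Subgroup H, Z₀ ≤ ((Subgroup.center (S : Subgroup H)).map (S : Subgroup H).subtype) →
    Cfsg.IsWeaklyClosed Z₀ (S : Subgroup H))

/-- Data of the quotient `C_G(t) / O(C_G(t))`. -/
theorem exists_quotient_data (S : Sylow 2 G)
    (hS : Cfsg.IsQuasiDihedral (S : Subgroup G) ∨ Cfsg.IsWreathed (S : Subgroup G))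
    (hG : ∀ H : Subgroup G, H.index ≠ 2) (t : G) (ht : orderOf t = 2) :
    ∃ S' : Sylow 2 (↥(Subgroup.centralizer ({t} : Set G)) ⧸
        Cfsg.oddCore ↥(Subgroup.centralizer ({t} : Set G))),
      Nonempty ((S : Subgroup G) ≃* (S' : Subgroup (↥(Subgroup.centralizer ({t} : Set G)) ⧸
        Cfsg.oddCore ↥(Subgroup.centralizer ({t} : Set G))))) ∧
      Cfsg.oddCore (↥(Subgroup.centralizer ({t} : Set G)) ⧸
        Cfsg.oddCore ↥(Subgroup.centralizer ({t} : Set G))) = ⊥ ∧ QHyp S' := by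
  have : Fact (Nat.Prime 2) := ⟨Nat.prime_two⟩
  obtain ⟨R, hRcard, hK, hW⟩ := Cfsg.Agent.S1213.result S hS hG t ht
  -- `R` is isomorphic to `S`
  have hRS : Nonempty ((S : Subgroup G) ≃* (R : Subgroup (Subgroup.centralizer ({t} : Set G)))) := by
    obtain ⟨T, hT⟩ := (R.2.map (Subgroup.centralizer ({t} : Set G)).subtype).exists_le_sylow
    have e1 : (S : Subgroup G) ≃* (T : Subgroup G) := Sylow.equiv S T
    have e2 : (R : Subgroup (Subgroup.centralizer ({t} : Set G))) ≃*
        ((R : Subgroup (Subgroup.centralizer ({t} : Set G))).map (Subgroup.centralizer ({t} : Set G)).subtype) :=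
      Subgroup.equivMapOfInjective _ _ (Subgroup.subtype_injective _)
    have h3 : ((R : Subgroup (Subgroup.centralizer ({t} : Set G))).map (Subgroup.centralizer ({t} : Set G)).subtype) = T := by
      apply Subgroup.eq_of_le_of_card_ge hT
      rw [← Nat.card_congr e1.toEquiv, ← Nat.card_congr e2.toEquiv]
      exact hRcard.ge
    rw [h3] at e2
    exact ⟨e1.trans e2.symm⟩
  obtain ⟨eRS⟩ := hRS
  let C : Subgroup G := Subgroup.centralizer ({t} : Set G)
  let f : C →* C ⧸ Cfsg.oddCore C := QuotientGroup.mk' (Cfsg.oddCore C)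
  have hf : Function.Surjective f := QuotientGroup.mk'_surjective _
  have hker : (Nat.card f.ker).Coprime 2 := by
    rw [QuotientGroup.ker_mk']; exact Cfsg.Agent.Lib.Cores.pPrimeCore_coprime 2
  let S' : Sylow 2 (C ⧸ Cfsg.oddCore C) := R.mapSurjective hf
  obtain ⟨e⟩ := QGroupQuotient.nonempty_equiv_map f (R : Subgroup C) (fun x hx hx1 =>
    QGroupQuotient.eq_one_of_isPGroup_of_coprime R.2 hker hx hx1)
  refine ⟨S', ⟨eRS.trans e⟩, Cfsg.Agent.Lib.Cores.pPrimeCore_quotient_pPrimeCore 2, ?_, ?_⟩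
  · exact QGroupQuotient.exists_normal f hf hker hK
  · exact QGroupQuotient.weaklyClosed f hf hker R hW

/-- The centre of `S'` is central in `C / O(C)`. -/
theorem central_of_center {H : Type*} [Group H] [Finite H] (S : Sylow 2 H)
    (hS : Cfsg.IsQuasiDihedral (S : Subgroup H) ∨ Cfsg.IsWreathed (S : Subgroup H))
    (hO : Cfsg.oddCore H = ⊥) (hQ : QHyp S) :
    ∀ z ∈ S, (∀ s ∈ S, z * s = s * z) → ∀ h : H, z * h = h * z := by
  intro z hz hzc h
  obtain ⟨o, ho, c, hc, rfl⟩ := Cfsg.Agent.S1215.result S hS hQ h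
  rw [hO, Subgroup.mem_bot] at ho
  rw [ho, one_mul]
  rw [Subgroup.mem_centralizer_iff] at hc
  refine hc z ⟨⟨z, hz⟩, ?_, rfl⟩
  rw [SetLike.mem_coe, Subgroup.mem_center_iff]
  rintro ⟨s, hs⟩
  exact Subtype.ext (hzc s hs).symm

end Cfsg.Agent.Classification.RTwo.Structure
end

-- part: Classification/RTwo/Main_mg
section
prune_inst 0x10004500140000000000000020000020000000020000000000000000000000220000200020000000080000004000000001000000420000000a000400000000000080000021000000000006000000000000000000000000000000000000000000000000000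
set_option linter.all false
open scoped Cfsg.Agent.FastGrp

-- part: Classification/RTwo/StructSD
section
/-!
# The structure of `C(t)/O(C(t))` in the solvable quasi-dihedral case: `GL(2,3)`
-/

set_option autoImplicit false

namespace Cfsg.Agent.Classification.RTwo.StructSD

open Subgroup Matrix Cfsg.Agent.Lib.SL2Mat Cfsg.Agent.Lib.AutSL2 Cfsg.Agent.TwoFusion
  Cfsg.Agent.TwoFusion.NormalSL2 Cfsg.Agent.Classification.RTwo.StructBasic

/-! ### Facts on `SL(2,3)` -/

theorem sl_conjD_ent (x : SL3) : conjGL D x = _root_.Cfsg.Agent.Lib.SL2Mat.mk (ent x 0 0) (-ent x 0 1) (-ent x 1 0) (ent x 1 1)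
    (by linear_combination det_eq x) := by
  rw [D, conjGL_dgl_ent]
  refine ext_ent ?_ ?_ ?_ ?_
  · rfl
  · simp
  · rw [mk_10, mk_10, div_neg, div_one]
  · rfl

theorem sl_mul_conjD_ne (x : SL3) : x * conjGL D x ≠ neg1 (ZMod 3) := by
  intro h
  rw [sl_conjD_ent] at h
  have h00 := congrArg (fun y => ent y 0 0) h
  have h01 := congrArg (fun y => ent y 0 1) h
  have h10 := congrArg (fun y => ent y 1 0) h
  have h11 := congrArg (fun y => ent y 1 1) h
  simp only [ent_mul, mk_00, mk_01, mk_10, mk_11, neg1_00, neg1_01, neg1_10, neg1_11] at h00 h01 h10 h11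
  have hd := det_eq x
  revert h00 h01 h10 h11 hd
  generalize ent x 0 0 = a
  generalize ent x 0 1 = b
  generalize ent x 1 0 = c
  generalize ent x 1 1 = d
  revert a b c d
  decide +kernel

theorem sl_sq (x : SL3) (h : x * x = 1) : x = 1 ∨ x = neg1 (ZMod 3) := by
  have h00 := congrArg (fun y => ent y 0 0) h
  have h01 := congrArg (fun y => ent y 0 1) h
  have h10 := congrArg (fun y => ent y 1 0) h
  have h11 := congrArg (fun y => ent y 1 1) h
  simp only [ent_mul, ent_one_00, ent_one_01, ent_one_10, ent_one_11] at h00 h01 h10 h11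
  have hd := det_eq x
  have key : ∀ a b c d : ZMod 3, a * d - b * c = 1 → a * a + b * c = 1 → a * b + b * d = 0 →
      c * a + d * c = 0 → c * b + d * d = 1 → (a = 1 ∧ b = 0 ∧ c = 0 ∧ d = 1) ∨
        (a = -1 ∧ b = 0 ∧ c = 0 ∧ d = -1) := by decide +kernel
  rcases key _ _ _ _ hd h00 h01 h10 h11 with ⟨h1, h2, h3, h4⟩ | ⟨h1, h2, h3, h4⟩
  · left; exact ext_ent h1 h2 h3 h4
  · right; exact ext_ent h1 h2 h3 h4

theorem sl_central (x : SL3) (h : ∀ y, x * y = y * x) : x = 1 ∨ x = neg1 (ZMod 3) := by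
  have h1 := h (up 1)
  have h2 := h (lo 1)
  have h01 := congrArg (fun y => ent y 0 1) h1
  have h00 := congrArg (fun y => ent y 0 0) h1
  have h00' := congrArg (fun y => ent y 0 0) h2
  simp only [ent_mul, up_00, up_01, up_10, up_11, lo_00, lo_01, lo_10] at h01 h00 h00'
  have hd := det_eq x
  have key : ∀ a b c d : ZMod 3, a * d - b * c = 1 → a * 1 + b * 1 = 1 * b + 1 * d →
      a * 1 + b * 0 = 1 * a + 1 * c → a * 1 + b * 1 = 1 * a + 0 * c → (a = 1 ∧ b = 0 ∧ c = 0 ∧ d = 1) ∨
        (a = -1 ∧ b = 0 ∧ c = 0 ∧ d = -1) := by decide +kernel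
  rcases key _ _ _ _ hd h01 h00 h00' with ⟨h1, h2, h3, h4⟩ | ⟨h1, h2, h3, h4⟩
  · left; exact ext_ent h1 h2 h3 h4
  · right; exact ext_ent h1 h2 h3 h4

/-! ### Consequences of the data -/

variable {H : Type*} [Group H] {L : Subgroup H} {e : L ≃* SL3} {d : H}

/-- the central involution of `L` -/
noncomputable def z0 (e : L ≃* SL3) : H := (e.symm (neg1 (ZMod 3)) : L)

theorem z0_mem (e : L ≃* SL3) : z0 e ∈ L := (e.symm (neg1 (ZMod 3))).2

theorem z0_mul (e : L ≃* SL3) : z0 e * z0 e = 1 := by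
  have h : e.symm (neg1 (ZMod 3)) * e.symm (neg1 (ZMod 3)) = 1 := by
    rw [← map_mul, neg1_mul_neg1, map_one]
  exact congrArg Subtype.val h

theorem z0_ne (e : L ≃* SL3) : z0 e ≠ 1 := by
  intro h
  have h1 : e.symm (neg1 (ZMod 3)) = 1 := Subtype.ext h
  rw [← map_one e.symm] at h1
  exact neg1_ne_one (by decide) (e.symm.injective h1)

theorem z0_central (h : Data L e d) (g : H) : z0 e * g = g * z0 e := by
  refine h.cent _ ?_ g
  intro l hl
  have h1 : e.symm (neg1 (ZMod 3)) * ⟨l, hl⟩ = ⟨l, hl⟩ * e.symm (neg1 (ZMod 3)) := by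
    apply e.injective
    rw [map_mul, map_mul, e.apply_symm_apply, neg1_comm]
  exact congrArg Subtype.val h1

theorem eq_of_central {c : H} (hcL : c ∈ L) (hc : ∀ g, c * g = g * c) : c = 1 ∨ c = z0 e := by
  rcases sl_central (e ⟨c, hcL⟩) (fun y => by
    have h1 : (⟨c, hcL⟩ : L) * e.symm y = e.symm y * ⟨c, hcL⟩ := Subtype.ext (hc _)
    have h2 := congrArg e h1
    rwa [map_mul, map_mul, e.apply_symm_apply] at h2) with h1 | h1
  · left
    have h2 : (⟨c, hcL⟩ : L) = 1 := e.injective (by rw [h1, map_one])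
    exact congrArg Subtype.val h2
  · right
    have h2 : (⟨c, hcL⟩ : L) = e.symm (neg1 (ZMod 3)) := e.injective (by rw [h1, e.apply_symm_apply])
    exact congrArg Subtype.val h2

theorem eq_of_sq {c : H} (hcL : c ∈ L) (hc : c * c = 1) : c = 1 ∨ c = z0 e := by
  rcases sl_sq (e ⟨c, hcL⟩) (by
    have h1 : (⟨c, hcL⟩ : L) * ⟨c, hcL⟩ = 1 := Subtype.ext hc
    rw [← map_mul, h1, map_one]) with h1 | h1
  · left
    have h2 : (⟨c, hcL⟩ : L) = 1 := e.injective (by rw [h1, map_one])
    exact congrArg Subtype.val h2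
  · right
    have h2 : (⟨c, hcL⟩ : L) = e.symm (neg1 (ZMod 3)) := e.injective (by rw [h1, e.apply_symm_apply])
    exact congrArg Subtype.val h2

theorem D_mul_D : D * D = 1 := by
  apply Units.ext
  change !![(-1 : ZMod 3), 0; 0, 1] * !![(-1 : ZMod 3), 0; 0, 1] = 1
  decide

theorem conj_mem (h : Data L e d) {l : H} (hl : l ∈ L) : d * l * d⁻¹ ∈ L := h.normal.conj_mem l hl d

theorem dd_central (h : Data L e d) (g : H) : (d * d) * g = g * (d * d) := by
  refine h.cent _ ?_ g
  intro l hl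
  have h1 : d * l * d⁻¹ = e.symm (conjGL D (e ⟨l, hl⟩)) := h.act ⟨l, hl⟩
  have h2 := h.act (e.symm (conjGL D (e ⟨l, hl⟩)))
  rw [e.apply_symm_apply, ← MulAut.mul_apply, ← map_mul, D_mul_D, map_one, MulAut.one_apply,
    e.symm_apply_apply, ← h1] at h2
  change d * (d * l * d⁻¹) * d⁻¹ = l at h2
  calc (d * d) * l = (d * (d * l * d⁻¹) * d⁻¹) * (d * d) := by group
    _ = l * (d * d) := by rw [h2]

/-- squares of elements outside -/
theorem sq_eq (l c d : H) (hc : ∀ g, c * g = g * c) :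
    (l * c * d) * (l * c * d) = (l * (d * l * d⁻¹)) * (c * c * (d * d)) := by
  have h1 : (l * c * d) * (l * c * d) = l * (c * (d * l * c * d)) := by group
  have h2 : l * (c * (d * l * c * d)) = l * (d * l * (c * d) * c) := by rw [hc]; group
  have h3 : l * (d * l * (c * d) * c) = l * (d * l) * (c * (d * c)) := by group
  rw [h1, h2, h3, hc (d * c)]
  have h4 : l * (d * l) * (d * c * c) = l * (d * l) * (d * (c * c)) := by group
  have h5 : d * (c * c) = c * c * d := by
    rw [← mul_assoc, ← hc d, mul_assoc, ← hc d, ← mul_assoc]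
  rw [h4, h5]
  have h6 : d⁻¹ * (c * c) = c * c * d⁻¹ := by
    rw [← mul_assoc, ← hc d⁻¹, mul_assoc, ← hc d⁻¹, ← mul_assoc]
  calc l * (d * l) * (c * c * d) = l * (d * l) * (c * c * (d⁻¹ * d) * d) := by group
    _ = l * (d * l) * ((c * c * d⁻¹) * (d * d)) := by group
    _ = l * (d * l) * ((d⁻¹ * (c * c)) * (d * d)) := by rw [h6]
    _ = _ := by group

theorem e_mul_conj (h : Data L e d) (l : L) :
    e ⟨(l : H) * (d * l * d⁻¹), mul_mem l.2 (conj_mem h l.2)⟩ = e l * conjGL D (e l) := by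
  have h1 : (⟨(l : H) * (d * l * d⁻¹), mul_mem l.2 (conj_mem h l.2)⟩ : L) =
      l * e.symm (conjGL D (e l)) := Subtype.ext (by
        change (l : H) * (d * l * d⁻¹) = l * (e.symm (conjGL D (e l)) : L)
        rw [h.act l])
  rw [h1, map_mul, e.apply_symm_apply]

/-- an involution of `L d` forces `d ^ 2 = 1` -/
theorem mul_conj_ne (h : Data L e d) (l : L) : (l : H) * (d * l * d⁻¹) ≠ z0 e := by
  intro h1
  have h2 := e_mul_conj h l
  have h3 : (⟨(l : H) * (d * l * d⁻¹), mul_mem l.2 (conj_mem h l.2)⟩ : L) = e.symm (neg1 (ZMod 3)) :=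
    Subtype.ext h1
  rw [h3, e.apply_symm_apply] at h2
  exact sl_mul_conjD_ne _ h2.symm

/-- `GL(2,3)`: if the centre has order two and some involution lies outside `L`. -/
theorem nonempty_mulEquiv_gl (h : Data L e d) (hcen : ∀ c : H, (∀ g, c * g = g * c) → c = 1 ∨ c = z0 e)
    (hinv : ∃ y, y ∉ L ∧ y * y = 1) : Nonempty (H ≃* GL (Fin 2) (ZMod 3)) := by
  have hLn := h.normal
  have hcenL : ∀ c : H, (∀ g, c * g = g * c) → c ∈ L := by
    intro c hc
    rcases hcen c hc with rfl | rfl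
    · exact one_mem _
    · exact z0_mem e
  have hcov : ∀ g : H, g ∈ L ∨ ∃ l ∈ L, g = l * d := by
    intro g
    obtain ⟨l, hl, c, hc, h1 | h1⟩ := h.cover g
    · left; rw [h1]; exact mul_mem hl (hcenL c hc)
    · right; exact ⟨l * c, mul_mem hl (hcenL c hc), h1⟩
  have hdL : d ∉ L := fun hd => h.not_mem d hd 1 (fun g => by rw [one_mul, mul_one]) (by rw [mul_one])
  -- `d ^ 2 = 1`
  have hdd : d * d = 1 := by
    rcases hcen _ (dd_central h) with h1 | h1
    · exact h1
    exfalso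
    obtain ⟨y, hyL, hy⟩ := hinv
    rcases hcov y with h2 | ⟨l, hl, rfl⟩
    · exact hyL h2
    · have h3 := sq_eq l 1 d (fun g => by rw [one_mul, mul_one])
      rw [mul_one, hy, one_mul, one_mul, h1] at h3
      apply mul_conj_ne h ⟨l, hl⟩
      have h4 : l * (d * l * d⁻¹) = (z0 e)⁻¹ := by
        rw [eq_inv_iff_mul_eq_one, ← h3]
      have h5 : (z0 e)⁻¹ = z0 e := inv_eq_of_mul_eq_one_right (z0_mul e)
      rw [h5] at h4
      exact h4
  let f : L →* GL (Fin 2) (ZMod 3) := (Matrix.SpecialLinearGroup.toGL).comp e.toMonoidHom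
  obtain ⟨F, hF, hFd⟩ := ExtHom.exists_ext_two L d f D hdL
    (by
      intro g
      rcases hcov g with h1 | ⟨l, hl, rfl⟩
      · exact Or.inl h1
      · right; rwa [mul_inv_cancel_right])
    (by
      intro n
      change Matrix.SpecialLinearGroup.toGL (e (MulAut.conjNormal d n)) =
        D * Matrix.SpecialLinearGroup.toGL (e n) * D⁻¹
      have h1 : MulAut.conjNormal d n = e.symm (conjGL D (e n)) := by
        apply Subtype.ext
        rw [MulAut.conjNormal_apply]
        exact h.act n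
      rw [h1, e.apply_symm_apply]
      apply Units.ext
      rfl)
    (by rw [sq, hdd]; exact one_mem _)
    (by
      have h1 : (⟨d ^ 2, by rw [sq, hdd]; exact one_mem _⟩ : L) = 1 := Subtype.ext (by
        change d ^ 2 = 1
        rw [sq, hdd])
      rw [h1, map_one, sq, D_mul_D])
  have hdetD : D.1.det = -1 := by
    change (!![(-1 : ZMod 3), 0; 0, 1]).det = -1
    rw [Matrix.det_fin_two_of]; decide
  have hinj : Function.Injective F := by
    rw [injective_iff_map_eq_one]
    intro g hg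
    rcases hcov g with h1 | ⟨l, hl, rfl⟩
    · have h2 := hF ⟨g, h1⟩
      rw [hg] at h2
      have h3 : e ⟨g, h1⟩ = 1 := by
        apply Subtype.ext
        exact (congrArg Units.val h2).symm
      have h4 : (⟨g, h1⟩ : L) = 1 := e.injective (by rw [h3, map_one])
      exact congrArg Subtype.val h4
    · exfalso
      rw [map_mul, hFd, hF ⟨l, hl⟩] at hg
      have h2 := congrArg (fun X : GL (Fin 2) (ZMod 3) => X.1.det) hg
      simp only [Units.val_mul, Matrix.det_mul, hdetD, Units.val_one, Matrix.det_one] at h2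
      have h3 : (f ⟨l, hl⟩).1.det = 1 := (e ⟨l, hl⟩).2
      rw [h3] at h2
      revert h2; decide
  have hsurj : Function.Surjective F := by
    intro X
    have hne : X.1.det ≠ 0 := (Matrix.GeneralLinearGroup.det X).ne_zero
    rcases zmod_cases X.1.det with h1 | h1 | h1
    · exact absurd h1 hne
    · obtain ⟨Y, hY⟩ : ∃ Y : SL3, Y.1 = X.1 := ⟨⟨X.1, h1⟩, rfl⟩
      refine ⟨e.symm Y, ?_⟩
      rw [hF]
      apply Units.ext
      change (e (e.symm Y)).1 = X.1
      rw [e.apply_symm_apply, hY]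
    · have h2 : (X * D).1.det = 1 := by
        rw [Units.val_mul, Matrix.det_mul, h1, hdetD]; decide
      obtain ⟨Y, hY⟩ : ∃ Y : SL3, Y.1 = (X * D).1 := ⟨⟨(X * D).1, h2⟩, rfl⟩
      refine ⟨(e.symm Y : L) * d, ?_⟩
      rw [map_mul, hF, hFd]
      have h3 : f (e.symm Y) = X * D := by
        apply Units.ext
        change (e (e.symm Y)).1 = (X * D).1
        rw [e.apply_symm_apply, hY]
      rw [h3, mul_assoc, D_mul_D, mul_one]
  exact ⟨MulEquiv.ofBijective F ⟨hinj, hsurj⟩⟩

theorem card_gl : Nat.card (GL (Fin 2) (ZMod 3)) = 48 := by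
  rw [Matrix.card_GL_field, ZMod.card]
  decide

/-- **The quasi-dihedral case.** -/
theorem exists_qd {H : Type*} [Group H] [Finite H] (hsolv : Group.IsSolvable H) (S : Sylow 2 H)
    (hS : Cfsg.IsQuasiDihedral (S : Subgroup H)) (hO : Cfsg.oddCore H = ⊥)
    (hQ : (∃ K : Subgroup H, K.Normal ∧ (∃ a : ℕ, K.index = 2 ^ a) ∧ (∀ M : Subgroup ↥K, M.index ≠ 2) ∧
      (∀ P : Sylow 2 ↥K, ∃ m : ℕ, 1 ≤ m ∧ Nonempty ((P : Subgroup ↥K) ≃* QuaternionGroup (2 ^ m)))) ∧
      (∀ Z₀ : Subgroup H, Z₀ ≤ ((Subgroup.center (S : Subgroup H)).map (S : Subgroup H).subtype) →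
        Cfsg.IsWeaklyClosed Z₀ (S : Subgroup H))) :
    Nat.card S = 16 ∧ Nat.card H = 48 ∧ Nonempty (H ≃* GL (Fin 2) (ZMod 3)) := by
  have : Fact (Nat.Prime 2) := ⟨Nat.prime_two⟩
  obtain ⟨L, e, d, hd, hcen⟩ := exists_data hsolv S (Or.inl hS) hO hQ
  obtain ⟨n, u, y, hc⟩ := QDBasic.exists_qdcoord hS
  have hne : Nonempty (H ≃* GL (Fin 2) (ZMod 3)) := by
    have key : ∀ c : (S : Subgroup H), (∀ g : H, (c : H) * g = g * c) ↔ c ∈ Subgroup.center (S : Subgroup H) := by
      intro c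
      rw [Subgroup.mem_center_iff]
      constructor
      · intro h1 s
        exact Subtype.ext (h1 s).symm
      · intro h1
        refine (hcen _).2 ⟨c.2, fun s hs => ?_⟩
        exact (congrArg Subtype.val (h1 ⟨s, hs⟩)).symm
    have hz : z0 e ∈ S ∧ ∀ s ∈ S, z0 e * s = s * z0 e := (hcen _).1 (z0_central hd)
    have hzu : (⟨z0 e, hz.1⟩ : (S : Subgroup H)) = u (2 ^ (n - 1)) := by
      rcases (QDStructure.mem_center_iff hc _).1 ((key ⟨z0 e, hz.1⟩).1 (z0_central hd)) with h1 | h1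
      · exfalso
        rw [hc.u_zero] at h1
        exact z0_ne e (congrArg Subtype.val h1)
      · exact h1
    refine nonempty_mulEquiv_gl hd ?_ ⟨(y : H), ?_, ?_⟩
    · intro c hcc
      have h1 := ((hcen c).1 hcc).1
      rcases (QDStructure.mem_center_iff hc _).1 ((key ⟨c, h1⟩).1 hcc) with h2 | h2
      · left
        rw [hc.u_zero] at h2
        exact congrArg Subtype.val h2
      · right
        rw [← hzu] at h2
        exact congrArg Subtype.val h2
    · intro hyL
      have hyy : (y : H) * y = 1 := congrArg Subtype.val hc.y_y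
      have h3 : y ∈ Subgroup.center (S : Subgroup H) := by
        rcases eq_of_sq (e := e) hyL hyy with h1 | h1
        · have : y = 1 := Subtype.ext h1
          rw [this]; exact one_mem _
        · rw [← key, h1]
          exact z0_central hd
      rcases (QDStructure.mem_center_iff hc _).1 h3 with h1 | h1
      · exact hc.u_ne 0 0 (by rw [hc.u_zero, one_mul, h1, hc.u_zero])
      · exact hc.u_ne (2 ^ (n - 1)) 0 (by rw [hc.u_zero, one_mul, h1])
    · exact congrArg Subtype.val hc.y_y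
  obtain ⟨E⟩ := hne
  have hH : Nat.card H = 48 := by rw [Nat.card_congr E.toEquiv, card_gl]
  refine ⟨?_, hH, ⟨E⟩⟩
  rw [S.card_eq_multiplicity, hH]
  have h16 : (48 : ℕ).factorization 2 = 4 := by
    rw [Nat.factorization_def _ Nat.prime_two]
    have : (48 : ℕ) = 2 ^ 4 * 3 := by norm_num
    rw [this, padicValNat.mul (by norm_num) (by norm_num), padicValNat.prime_pow]
    have h3 : padicValNat 2 3 = 0 := padicValNat.eq_zero_of_not_dvd (by norm_num)
    rw [h3]
  rw [h16]; norm_num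

end Cfsg.Agent.Classification.RTwo.StructSD
end

-- part: Classification/RTwo/Balance
section
/-!
# The balance condition for the core kill lemma

If every involution `v` of `G` has a homomorphism `π v` of its centralizer onto a group `Q` (with
`π v v = z`) with odd kernel and in `Q` the elements of odd order centralizing an involution other than
`z` are trivial, then `O(C(t)) ∩ C(s) ≤ O(C(s))` for all `2`-elements `s ≠ 1` of `C(t)`.
-/

set_option autoImplicit false

open Cfsg

namespace Cfsg.Agent.Classification.RTwo.Balance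

open Subgroup

section balance

variable {G : Type*} [Group G] [Finite G]

theorem le_pPrimeCore {H : Type*} [Group H] {p : ℕ} (N : Subgroup H) (hN : N.Normal)
    (hc : (Nat.card N).Coprime p) : N ≤ Cfsg.pPrimeCore p H :=
  le_sSup ⟨hN, hc⟩

omit [Finite G] in
theorem mem_cent_iff {v k : G} {p : ℕ} : k ∈ centralizerPPrimeCore p v ↔
    ∃ h : k ∈ Subgroup.centralizer ({v} : Set G),
      (⟨k, h⟩ : Subgroup.centralizer ({v} : Set G)) ∈ pPrimeCore p (Subgroup.centralizer ({v} : Set G)) := by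
  constructor
  · rintro ⟨⟨k, hk⟩, h, rfl⟩
    exact ⟨hk, h⟩
  · rintro ⟨h, h'⟩
    exact ⟨⟨k, h⟩, h', rfl⟩

theorem mem_of_zpowers {s v k : G} {p : ℕ} (hv : v ∈ zpowers s) (hk : k ∈ centralizerPPrimeCore p v)
    (hsk : s * k = k * s) : k ∈ centralizerPPrimeCore p s := by
  obtain ⟨hkv, hk'⟩ := mem_cent_iff.1 hk
  have hks : k ∈ Subgroup.centralizer ({s} : Set G) := by
    rw [Subgroup.mem_centralizer_singleton_iff]; exact hsk.symm
  have hle : Subgroup.centralizer ({s} : Set G) ≤ Subgroup.centralizer ({v} : Set G) := by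
    intro x hx
    rw [Subgroup.mem_centralizer_singleton_iff] at hx ⊢
    obtain ⟨m, rfl⟩ := mem_zpowers_iff.1 hv
    exact (Commute.zpow_right (show Commute x s from hx) m)
  refine mem_cent_iff.2 ⟨hks, ?_⟩
  let f : Subgroup.centralizer ({s} : Set G) →* Subgroup.centralizer ({v} : Set G) :=
    Subgroup.inclusion hle
  have hn : ((pPrimeCore p (Subgroup.centralizer ({v} : Set G))).comap f).Normal :=
    (Cfsg.Agent.Lib.Cores.pPrimeCore_normal p).comap f
  apply le_pPrimeCore _ hn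
  · have h1 : Nat.card ((pPrimeCore p (Subgroup.centralizer ({v} : Set G))).comap f) ∣
        Nat.card (pPrimeCore p (Subgroup.centralizer ({v} : Set G))) :=
      Subgroup.card_comap_dvd_of_injective _ f (Subgroup.inclusion_injective hle)
    exact Nat.Coprime.coprime_dvd_left h1 (Cfsg.Agent.Lib.Cores.pPrimeCore_coprime p)
  · exact hk'

/-- The balance condition. -/
theorem balance {Q : Type*} [Group Q] (z : Q)
    (hQ : ∀ a : Q, orderOf a = 2 → a ≠ z → ∀ k : Q, Odd (orderOf k) → k * a = a * k → k = 1)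
    (hπ : ∀ v : G, orderOf v = 2 → ∃ π : Subgroup.centralizer ({v} : Set G) →* Q,
      Odd (Nat.card π.ker) ∧ ∀ h : v ∈ Subgroup.centralizer ({v} : Set G), π ⟨v, h⟩ = z)
    (t : G) (_ht : orderOf t = 2) {S : Subgroup G} (hS : IsPGroup 2 S) (hSt : ∀ s ∈ S, s * t = t * s) :
    ∀ s ∈ S, s ≠ 1 → ∀ k ∈ centralizerPPrimeCore 2 t, s * k = k * s →
      k ∈ centralizerPPrimeCore 2 s := by
  intro s hs hs1 k hk hsk
  -- an involution in `⟨s⟩`
  obtain ⟨v, hvs, hv⟩ : ∃ v ∈ zpowers s, orderOf v = 2 := by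
    obtain ⟨m, hm⟩ := hS ⟨s, hs⟩
    have hm' : s ^ 2 ^ m = 1 := congrArg Subtype.val hm
    obtain ⟨n, hn, hn'⟩ := (Nat.dvd_prime_pow Nat.prime_two).1 (orderOf_dvd_of_pow_eq_one hm')
    have hn0 : n ≠ 0 := by
      rintro rfl
      rw [pow_zero, orderOf_eq_one_iff] at hn'
      exact hs1 hn'
    refine ⟨s ^ 2 ^ (n - 1), pow_mem (mem_zpowers s) _, ?_⟩
    rw [orderOf_pow' s (by positivity), hn',
      Nat.gcd_eq_right (pow_dvd_pow 2 (Nat.sub_le n 1)), Nat.pow_div (Nat.sub_le n 1) two_pos]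
    have : n - (n - 1) = 1 := by omega
    rw [this, pow_one]
  by_cases hvt : v = t
  · subst hvt
    exact mem_of_zpowers hvs hk hsk
  refine mem_of_zpowers hvs ?_ hsk
  obtain ⟨hkt, hk'⟩ := mem_cent_iff.1 hk
  rw [Subgroup.mem_centralizer_singleton_iff] at hkt
  have hkv : k * v = v * k := by
    obtain ⟨m, rfl⟩ := mem_zpowers_iff.1 hvs
    exact (Commute.zpow_right (show Commute k s from hsk.symm) m)
  have htv : t * v = v * t := by
    obtain ⟨m, rfl⟩ := mem_zpowers_iff.1 hvs
    exact (Commute.zpow_right (show Commute t s from (hSt s hs).symm) m)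
  have hkodd : Odd (orderOf k) := by
    have h1 : orderOf (⟨⟨k, mem_cent_iff.1 hk |>.1⟩, hk'⟩ :
        pPrimeCore 2 (Subgroup.centralizer ({t} : Set G))) = orderOf k := by
      rw [← Subgroup.orderOf_coe, ← Subgroup.orderOf_coe]
    rw [← h1]
    have h2 := _root_.orderOf_dvd_natCard (⟨⟨k, mem_cent_iff.1 hk |>.1⟩, hk'⟩ :
        pPrimeCore 2 (Subgroup.centralizer ({t} : Set G)))
    have h3 := Nat.Coprime.coprime_dvd_left h2
      (Cfsg.Agent.Lib.Cores.pPrimeCore_coprime (G := Subgroup.centralizer ({t} : Set G)) 2)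
    exact Nat.coprime_two_right.1 h3
  obtain ⟨π, hodd, hπz⟩ := hπ v hv
  have hvv : v ∈ Subgroup.centralizer ({v} : Set G) := by
    rw [Subgroup.mem_centralizer_singleton_iff]
  have hkC : k ∈ Subgroup.centralizer ({v} : Set G) := by
    rw [Subgroup.mem_centralizer_singleton_iff]; exact hkv
  have htC : t ∈ Subgroup.centralizer ({v} : Set G) := by
    rw [Subgroup.mem_centralizer_singleton_iff]; exact htv
  have ht1 : t * t = 1 := by rw [← sq, ← _ht, pow_orderOf_eq_one]
  have hv1 : v * v = 1 := by rw [← sq, ← hv, pow_orderOf_eq_one]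
  -- elements of the kernel of square one are trivial
  have hker : ∀ x : Subgroup.centralizer ({v} : Set G), π x = 1 → x * x = 1 → x = 1 := by
    intro x hx hx2
    have h1 : orderOf (⟨x, hx⟩ : π.ker) ∣ 2 :=
      orderOf_dvd_of_pow_eq_one (Subtype.ext (by rw [Subgroup.coe_pow, sq]; exact hx2))
    have h2 : orderOf (⟨x, hx⟩ : π.ker) ∣ Nat.card π.ker := _root_.orderOf_dvd_natCard _
    have h3 : orderOf (⟨x, hx⟩ : π.ker) ∣ Nat.gcd 2 (Nat.card π.ker) := Nat.dvd_gcd h1 h2
    have h4 : Nat.gcd 2 (Nat.card π.ker) = 1 := Nat.coprime_two_left.2 hodd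
    rw [h4, Nat.dvd_one, orderOf_eq_one_iff] at h3
    exact congrArg Subtype.val h3
  have hπt2 : π ⟨t, htC⟩ * π ⟨t, htC⟩ = 1 := by
    rw [← map_mul, ← map_one π]; congr 1; exact Subtype.ext ht1
  have hπt1 : π ⟨t, htC⟩ ≠ 1 := by
    intro h
    have h1 := hker _ h (Subtype.ext ht1)
    have h2 : t = 1 := congrArg Subtype.val h1
    rw [h2, orderOf_one] at _ht
    exact absurd _ht (by norm_num)
  have hπto : orderOf (π ⟨t, htC⟩) = 2 := orderOf_eq_prime (by rw [sq]; exact hπt2) hπt1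
  have hπtz : π ⟨t, htC⟩ ≠ z := by
    intro h
    have h1 : π (⟨t, htC⟩ * ⟨v, hvv⟩) = 1 := by
      rw [map_mul, hπz hvv, ← h]; exact hπt2
    have h2 := hker _ h1 (by
      apply Subtype.ext
      show (t * v) * (t * v) = 1
      calc t * v * (t * v) = t * (v * t) * v := by group
        _ = t * (t * v) * v := by rw [htv]
        _ = (t * t) * (v * v) := by group
        _ = 1 := by rw [ht1, hv1, one_mul])
    have h3 : t * v = 1 := congrArg Subtype.val h2
    apply hvt
    calc v = t * t * v := by rw [ht1, one_mul]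
      _ = t * (t * v) := by group
      _ = t := by rw [h3, mul_one]
  have hπk : π ⟨k, hkC⟩ = 1 := by
    apply hQ _ hπto hπtz
    · have h1 : orderOf (π ⟨k, hkC⟩) ∣ orderOf (⟨k, hkC⟩ : Subgroup.centralizer ({v} : Set G)) :=
        orderOf_map_dvd π _
      rw [← Subgroup.orderOf_coe] at h1
      exact hkodd.of_dvd_nat h1
    · rw [← map_mul, ← map_mul]
      congr 1
      exact Subtype.ext hkt
  refine mem_cent_iff.2 ⟨hkC, ?_⟩
  exact le_pPrimeCore π.ker inferInstance (Nat.coprime_two_right.2 hodd) hπk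

end balance

section matrices

variable {F : Type*} [Field F]

attribute [-instance] instNoNatZeroDivisorsOfIsAddTorsionFree instIsCharPOfIsLeftCancelAddOfCharP in
/-- A matrix commuting with an involution `A ≠ ±1` has the form `s + r A`. -/
theorem exists_eq (h2 : (2 : F) ≠ 0) (A K : Matrix (Fin 2) (Fin 2) F) (hA : A * A = 1) (hA1 : A ≠ 1)
    (hA2 : A ≠ -1) (h : K * A = A * K) : ∃ s r : F, K = s • (1 : Matrix (Fin 2) (Fin 2) F) + r • A := by
  have e00 := congrFun (congrFun hA 0) 0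
  have e01 := congrFun (congrFun hA 0) 1
  have e10 := congrFun (congrFun hA 1) 0
  have e11 := congrFun (congrFun hA 1) 1
  have k00 := congrFun (congrFun h 0) 0
  have k01 := congrFun (congrFun h 0) 1
  have k10 := congrFun (congrFun h 1) 0
  simp only [Matrix.mul_apply, Fin.sum_univ_two, Matrix.one_apply_eq, ne_eq, zero_ne_one,
    not_false_eq_true, Matrix.one_apply_ne, one_ne_zero] at e00 e01 e10 e11 k00 k01 k10
  have htr : A 0 0 + A 1 1 = 0 := by
    by_contra hne
    have h01 : A 0 1 = 0 := by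
      have : A 0 1 * (A 0 0 + A 1 1) = 0 := by linear_combination e01
      exact (mul_eq_zero.1 this).resolve_right hne
    have h10 : A 1 0 = 0 := by
      have : A 1 0 * (A 0 0 + A 1 1) = 0 := by linear_combination e10
      exact (mul_eq_zero.1 this).resolve_right hne
    rw [h01] at e00 e11
    have h3 : (A 0 0 - A 1 1) * (A 0 0 + A 1 1) = 0 := by linear_combination e00 - e11
    have h4 : A 0 0 = A 1 1 := sub_eq_zero.1 ((mul_eq_zero.1 h3).resolve_right hne)
    have h5 : (A 0 0 - 1) * (A 0 0 + 1) = 0 := by linear_combination e00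
    rcases mul_eq_zero.1 h5 with h6 | h6
    · apply hA1
      ext i j
      fin_cases i <;> fin_cases j
      · simpa using sub_eq_zero.1 h6
      · simpa using h01
      · simpa using h10
      · simpa [← h4] using sub_eq_zero.1 h6
    · apply hA2
      have h7 : A 0 0 = -1 := by linear_combination h6
      ext i j
      fin_cases i <;> fin_cases j
      · simpa using h7
      · simpa using h01
      · simpa using h10
      · simpa [← h4] using h7
  have h11 : A 1 1 = -A 0 0 := by linear_combination htr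
  rw [h11] at k01 k10
  refine ⟨(K 0 0 + K 1 1) / 2, ((K 0 0 - K 1 1) * A 0 0 + K 0 1 * A 1 0 + K 1 0 * A 0 1) / 2, ?_⟩
  ext i j
  fin_cases i <;> fin_cases j <;>
    simp only [Fin.zero_eta, Fin.mk_one, Matrix.add_apply, Matrix.smul_apply, smul_eq_mul,
      Matrix.one_apply_eq, ne_eq, zero_ne_one, not_false_eq_true, Matrix.one_apply_ne, one_ne_zero,
      Fin.isValue] <;> field_simp
  · clear hA hA1 hA2 h
    generalize A 0 0 = a at *
    generalize A 0 1 = b at *
    generalize A 1 0 = c at *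
    generalize K 0 0 = x at *
    generalize K 0 1 = y at *
    generalize K 1 0 = z at *
    generalize K 1 1 = w at *
    grobner
  · clear hA hA1 hA2 h
    generalize A 0 0 = a at *
    generalize A 0 1 = b at *
    generalize A 1 0 = c at *
    generalize K 0 0 = x at *
    generalize K 0 1 = y at *
    generalize K 1 0 = z at *
    generalize K 1 1 = w at *
    grobner
  · clear hA hA1 hA2 h
    generalize A 0 0 = a at *
    generalize A 0 1 = b at *
    generalize A 1 0 = c at *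
    generalize K 0 0 = x at *
    generalize K 0 1 = y at *
    generalize K 1 0 = z at *
    generalize K 1 1 = w at *
    grobner
  · clear hA hA1 hA2 h
    rw [h11]
    generalize A 0 0 = a at *
    generalize A 0 1 = b at *
    generalize A 1 0 = c at *
    generalize K 0 0 = x at *
    generalize K 0 1 = y at *
    generalize K 1 0 = z at *
    generalize K 1 1 = w at *
    grobner

theorem pow_three (h3 : (3 : F) = 0) (A : Matrix (Fin 2) (Fin 2) F) (hA : A * A = 1) (s r : F) :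
    (s • (1 : Matrix (Fin 2) (Fin 2) F) + r • A) ^ 3 =
      s ^ 3 • (1 : Matrix (Fin 2) (Fin 2) F) + r ^ 3 • A := by
  have h1 : (s • (1 : Matrix (Fin 2) (Fin 2) F) + r • A) * (s • (1 : Matrix (Fin 2) (Fin 2) F) + r • A) =
      (s ^ 2 + r ^ 2) • (1 : Matrix (Fin 2) (Fin 2) F) + (2 * s * r) • A := by
    simp only [mul_add, add_mul, smul_mul_smul_comm, mul_one, one_mul, hA]
    module
  rw [pow_succ, sq, h1]
  simp only [mul_add, add_mul, smul_mul_smul_comm, mul_one, one_mul, hA]
  have e1 : s ^ 3 = (s ^ 2 + r ^ 2) * s + 2 * s * r * r := by linear_combination (- s * r ^ 2) * h3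
  have e2 : r ^ 3 = (s ^ 2 + r ^ 2) * r + 2 * s * r * s := by linear_combination (- s ^ 2 * r) * h3
  rw [e1, e2]
  module

theorem pow_nine (h3 : (3 : F) = 0) (A : Matrix (Fin 2) (Fin 2) F) (hA : A * A = 1) (s r : F) :
    (s • (1 : Matrix (Fin 2) (Fin 2) F) + r • A) ^ 9 =
      s ^ 9 • (1 : Matrix (Fin 2) (Fin 2) F) + r ^ 9 • A := by
  rw [show (9 : ℕ) = 3 * 3 by norm_num, pow_mul, pow_three h3 A hA, pow_three h3 A hA, ← pow_mul,
    ← pow_mul]

theorem two_ne_zero' (h3 : (3 : F) = 0) : (2 : F) ≠ 0 := by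
  intro h2
  exact one_ne_zero (α := F) (by linear_combination h3 - h2)

/-- In `GL(2, F)`, `|F|` a power `3^m` with `x ^ q = x` on `F`, elements of odd order commuting with an
involution other than `-1` are trivial. -/
theorem odd_comm {m : ℕ} (h3 : (3 : F) = 0) (hm : ∀ x : F, x ^ (2 ^ m + 1) = x)
    (hpow : ∀ (A : Matrix (Fin 2) (Fin 2) F), A * A = 1 → ∀ s r : F,
      (s • (1 : Matrix (Fin 2) (Fin 2) F) + r • A) ^ (2 ^ m + 1) =
      s ^ (2 ^ m + 1) • (1 : Matrix (Fin 2) (Fin 2) F) + r ^ (2 ^ m + 1) • A)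
    (a k : Matrix.GeneralLinearGroup (Fin 2) F) (ha : orderOf a = 2) (ha' : a ≠ -1)
    (hk : Odd (orderOf k)) (hka : k * a = a * k) : k = 1 := by
  have h2 : a * a = 1 := by
    have := pow_orderOf_eq_one a
    rwa [ha, sq] at this
  have h1 : a ≠ 1 := by rintro rfl; simp at ha
  have h2' : a.1 * a.1 = 1 := congrArg Units.val h2
  obtain ⟨s, r, hsr⟩ := exists_eq (two_ne_zero' h3) a.1 k.1 h2'
    (fun h => h1 (Units.ext h)) (fun h => ha' (Units.ext h)) (congrArg Units.val hka)
  have h4 : k ^ (2 ^ m + 1) = k := by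
    apply Units.ext
    rw [Units.val_pow_eq_pow_val, hsr, hpow _ h2', hm, hm]
  have h5 : k ^ (2 ^ m) = 1 := by
    rw [pow_succ] at h4
    exact mul_eq_right.1 h4
  have h6 := orderOf_dvd_of_pow_eq_one h5
  obtain ⟨j, hj, hj'⟩ := (Nat.dvd_prime_pow Nat.prime_two).1 h6
  rw [hj'] at hk
  have h7 : j = 0 := by
    by_contra hj0
    obtain ⟨i, rfl⟩ := Nat.exists_eq_succ_of_ne_zero hj0
    rw [pow_succ] at hk
    exact (Nat.not_even_iff_odd.2 hk) (even_two.mul_left _)
  rw [h7, pow_zero, orderOf_eq_one_iff] at hj'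
  exact hj'

theorem gl_odd (a k : Matrix.GeneralLinearGroup (Fin 2) (ZMod 3)) (ha : orderOf a = 2) (ha' : a ≠ -1)
    (hk : Odd (orderOf k)) (hka : k * a = a * k) : k = 1 := by
  have h3 : (3 : ZMod 3) = 0 := by decide
  refine odd_comm (m := 1) h3 (by decide) ?_ a k ha ha' hk hka
  intro A hA s r
  exact pow_three h3 A hA s r

variable [Fintype F]

theorem gu_odd (hF : Fintype.card F = 3 ^ 2) (a k : Cfsg.GU 2 F 3) (ha : orderOf a = 2)
    (ha' : (a : Matrix.GeneralLinearGroup (Fin 2) F) ≠ -1)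
    (hk : Odd (orderOf k)) (hka : k * a = a * k) : k = 1 := by
  have h3 : (3 : F) = 0 := Recog.three_eq_zero hF
  apply Subtype.ext
  refine odd_comm (m := 3) h3 ?_ ?_ (a : Matrix.GeneralLinearGroup (Fin 2) F) k
    (by rw [Subgroup.orderOf_coe]; exact ha) ha' (by rw [Subgroup.orderOf_coe]; exact hk)
    (congrArg Subtype.val hka)
  · intro x
    have := FiniteField.pow_card x
    rw [hF] at this
    simpa using this
  · intro A hA s r
    exact pow_nine h3 A hA s r

end matrices

end Cfsg.Agent.Classification.RTwo.Balance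
end

-- part: Classification/RTwo/Main
section
/-!
# Simple groups with quasi-dihedral Sylow 2-subgroups and solvable centralizers of involutions

The centralizer of an involution is `GL(2,3)`.
-/

set_option autoImplicit false

open Cfsg

namespace Cfsg.Agent.Classification.RTwo.Main

open Subgroup

/-- A Sylow `2`-subgroup of `G` inside the centralizer of `t`. -/
theorem exists_sylow_le {G : Type*} [Group G] [Finite G] (S : Sylow 2 G)
    (hS : Cfsg.IsQuasiDihedral (S : Subgroup G) ∨ Cfsg.IsWreathed (S : Subgroup G))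
    (hG : ∀ H : Subgroup G, H.index ≠ 2) (t : G) (ht : orderOf t = 2) :
    ∃ R : Subgroup G, IsPGroup 2 R ∧ Nat.card R = Nat.card S ∧ ∀ s ∈ R, s * t = t * s := by
  obtain ⟨R, hRcard, -, -⟩ := Cfsg.Agent.S1213.result S hS hG t ht
  refine ⟨(R : Subgroup (Subgroup.centralizer ({t} : Set G))).map
    (Subgroup.centralizer ({t} : Set G)).subtype, R.2.map _, ?_, ?_⟩
  · rw [Subgroup.card_map_of_injective (Subgroup.subtype_injective _)]
    exact hRcard
  · rintro _ ⟨c, -, rfl⟩
    exact Subgroup.mem_centralizer_singleton_iff.mp c.2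

/-- The projection of `C(t)` onto a group isomorphic to `C(t)/O(C(t))`. -/
theorem exists_pi {G : Type*} [Group G] [Finite G] (t : G) {Q : Type*} [Group Q]
    (e : (↥(Subgroup.centralizer ({t} : Set G)) ⧸
        Cfsg.oddCore ↥(Subgroup.centralizer ({t} : Set G))) ≃* Q) :
    ∃ π : Subgroup.centralizer ({t} : Set G) →* Q, Function.Surjective π ∧
      π.ker = Cfsg.oddCore ↥(Subgroup.centralizer ({t} : Set G)) ∧ Odd (Nat.card π.ker) := by
  refine ⟨e.toMonoidHom.comp (QuotientGroup.mk' _), ?_, ?_, ?_⟩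
  · exact e.surjective.comp (QuotientGroup.mk'_surjective _)
  · ext x
    rw [MonoidHom.mem_ker]
    simp only [_root_.MulEquiv.toMonoidHom_eq_coe, _root_.MonoidHom.coe_comp, _root_.MonoidHom.coe_coe, _root_.QuotientGroup.coe_mk', _root_.Function.comp_apply, _root_.EmbeddingLike.map_eq_one_iff, _root_.QuotientGroup.eq_one_iff]
  · have h1 : (e.toMonoidHom.comp (QuotientGroup.mk'
        (Cfsg.oddCore ↥(Subgroup.centralizer ({t} : Set G))))).ker =
        Cfsg.oddCore ↥(Subgroup.centralizer ({t} : Set G)) := by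
      ext x
      rw [MonoidHom.mem_ker]
      simp only [_root_.MulEquiv.toMonoidHom_eq_coe, _root_.MonoidHom.coe_comp, _root_.MonoidHom.coe_coe, _root_.QuotientGroup.coe_mk', _root_.Function.comp_apply, _root_.EmbeddingLike.map_eq_one_iff, _root_.QuotientGroup.eq_one_iff]
    rw [h1]
    exact Nat.coprime_two_right.1 (Cfsg.Agent.Lib.Cores.pPrimeCore_coprime 2)

/-- The image of `t` under a surjection of `C(t)` with odd kernel is a central involution. -/
theorem map_t {G : Type*} [Group G] [Finite G] {t : G} (ht : orderOf t = 2) {Q : Type*} [Group Q]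
    (π : Subgroup.centralizer ({t} : Set G) →* Q) (hπ : Function.Surjective π)
    (hker : Odd (Nat.card π.ker)) (h : t ∈ Subgroup.centralizer ({t} : Set G)) :
    orderOf (π ⟨t, h⟩) = 2 ∧ ∀ x : Q, π ⟨t, h⟩ * x = x * π ⟨t, h⟩ := by
  have ht1 : t * t = 1 := by
    have := pow_orderOf_eq_one t
    rwa [ht, sq] at this
  constructor
  · apply orderOf_eq_prime
    · rw [← map_pow, ← map_one π]
      congr 1
      exact Subtype.ext (by rw [Subgroup.coe_pow, sq]; exact ht1)
    · intro h1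
      have h2 : orderOf (⟨⟨t, h⟩, h1⟩ : π.ker) ∣ Nat.card π.ker := _root_.orderOf_dvd_natCard _
      rw [← Subgroup.orderOf_coe, ← Subgroup.orderOf_coe] at h2
      have h3 : orderOf t ∣ Nat.card π.ker := h2
      rw [ht] at h3
      exact (Nat.not_even_iff_odd.2 hker) (even_iff_two_dvd.2 h3)
  · intro x
    obtain ⟨y, rfl⟩ := hπ x
    rw [← map_mul, ← map_mul]
    congr 1
    apply Subtype.ext
    exact (Subgroup.mem_centralizer_singleton_iff.mp y.2).symm

/-- A homomorphism with trivial kernel core. -/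
theorem nonempty_equiv_of_ker {C Q : Type*} [Group C] [Group Q] (π : C →* Q)
    (hπ : Function.Surjective π) (hker : π.ker = ⊥) : Nonempty (C ≃* Q) :=
  ⟨MulEquiv.ofBijective π ⟨(MonoidHom.ker_eq_bot_iff π).1 hker, hπ⟩⟩

section sd

variable {G : Type*} [Group G] [Finite G] [IsSimpleGroup G] (S : Sylow 2 G)
  (hS : Cfsg.IsQuasiDihedral (S : Subgroup G))
  (hsol : ∀ x : G, orderOf x = 2 → Group.IsSolvable (Subgroup.centralizer ({x} : Set G)))

include hS hsol

/-- The structure of the centralizer of an involution modulo its core. -/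
theorem sd_structure (t : G) (ht : orderOf t = 2) : Nat.card S = 16 ∧
    ∃ π : Subgroup.centralizer ({t} : Set G) →* Matrix.GeneralLinearGroup (Fin 2) (ZMod 3),
      Function.Surjective π ∧ π.ker = Cfsg.oddCore ↥(Subgroup.centralizer ({t} : Set G)) ∧
      Odd (Nat.card π.ker) ∧ ∀ h : t ∈ Subgroup.centralizer ({t} : Set G), π ⟨t, h⟩ = -1 := by
  have hG := Structure.index_ne_two S (Or.inl hS)
  obtain ⟨S', ⟨e⟩, hO, hQ⟩ := Structure.exists_quotient_data S (Or.inl hS) hG t ht
  have hsC := hsol t ht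
  obtain ⟨h16, -, ⟨e'⟩⟩ := StructSD.exists_qd (H := ↥(Subgroup.centralizer ({t} : Set G)) ⧸
    Cfsg.oddCore ↥(Subgroup.centralizer ({t} : Set G))) inferInstance S'
    (Cfsg.Agent.TwoFusion.SylowTypeTransfer.isQuasiDihedral_of_mulEquiv e hS) hO hQ
  refine ⟨by rw [← h16]; exact Nat.card_congr e.toEquiv, ?_⟩
  obtain ⟨π, h1, h2, h3⟩ := exists_pi t e'
  refine ⟨π, h1, h2, h3, fun h => ?_⟩
  obtain ⟨h4, h5⟩ := map_t ht π h1 h3 h
  exact Cfsg.Agent.Characters.GL23.eq_neg_one_of_central _ h4 h5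

/-- **The quasi-dihedral case.** -/
theorem sd (t : G) (ht : orderOf t = 2) :
    Nonempty (Subgroup.centralizer ({t} : Set G) ≃* Matrix.GeneralLinearGroup (Fin 2) (ZMod 3)) := by
  have : Fact (Nat.Prime 2) := ⟨Nat.prime_two⟩
  have hG := Structure.index_ne_two S (Or.inl hS)
  have hone := Structure.isConj_of_index S (Or.inl hS) hG
  obtain ⟨h16, π, h1, h2, h3, h4⟩ := sd_structure S hS hsol t ht
  obtain ⟨M, hM⟩ := Cfsg.Agent.Blocks.ExistsModular.exists_isPModular Nat.prime_two
  obtain ⟨χ, hχ, hdeg⟩ := SDChar.main ht (fun x hx => hone t x ht hx) π h1 h3 hM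
  obtain ⟨R, hR, hRc, hRt⟩ := exists_sylow_le S (Or.inl hS) hG t ht
  have hbal := Balance.balance (-1 : Matrix.GeneralLinearGroup (Fin 2) (ZMod 3))
    (fun a ha ha' k hk hka => Balance.gl_odd a k ha ha' hk hka)
    (fun v hv => by
      obtain ⟨-, πv, -, -, g3, g4⟩ := sd_structure S hS hsol v hv
      exact ⟨πv, g3, g4⟩) t ht hR hRt
  have hcore : Cfsg.pPrimeCore 2 (Subgroup.centralizer ({t} : Set G)) = ⊥ := by
    rcases hdeg with hd | hd
    · refine (CoreKill.core_eq_bot hM t hR hRt hbal hχ ?_ (d := 10) (by rw [hd]; norm_num)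
        (by rw [hRc, h16]; norm_num)).2
      intro h
      rw [h] at hd
      norm_num at hd
    · refine (CoreKill.core_eq_bot hM t hR hRt hbal hχ ?_ (d := 12) (by rw [hd]; norm_num)
        (by rw [hRc, h16]; norm_num)).2
      intro h
      rw [h] at hd
      norm_num at hd
  exact nonempty_equiv_of_ker π h1 (by rw [h2]; exact hcore)

end sd

end Cfsg.Agent.Classification.RTwo.Main
end

-- part: Classification/RTwo/EndSD
section
/-!
# Simple groups with an involution centralizer `GL₂(3)`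
-/

set_option autoImplicit false

namespace Cfsg.Agent.Classification.RTwo.EndSD

open Matrix
open scoped MatrixGroups

theorem two_ne : (2 : ZMod 3) ≠ 0 := by decide

theorem card_gl : Nat.card (GL (Fin 2) (ZMod 3)) = 48 := by
  rw [Matrix.card_GL_field]
  simp only [Fin.prod_univ_two, _root_.ZMod.card, _root_.Nat.reducePow, _root_.Fin.isValue, _root_.Fin.coe_ofNat_eq_mod, _root_.Nat.zero_mod, _root_.pow_zero, _root_.Nat.add_one_sub_one, _root_.Nat.mod_succ, _root_.pow_one, _root_.Nat.reduceSub, _root_.Nat.reduceMul]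

/-- A simple group with one class of involutions, `C(t) ≃ GL₂(3)`: `PSL₃(3)` or order 7920. -/
theorem psl_three_or_m11 {G : Type*} [Group G] [Finite G] [IsSimpleGroup G] (t : G) (ht : orderOf t = 2)
    (hone : ∀ s : G, orderOf s = 2 → IsConj t s)
    (e : Subgroup.centralizer ({t} : Set G) ≃* Matrix.GeneralLinearGroup (Fin 2) (ZMod 3)) :
    Nonempty (G ≃* Matrix.ProjectiveSpecialLinearGroup (Fin 3) (ZMod 3)) ∨ Cfsg.IsM11 G := by
  have p3 : Fact (Nat.Prime 3) := ⟨Nat.prime_three⟩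
  rcases Cfsg.Agent.S0197.result t ht e with h | h
  · left
    refine Cfsg.Agent.Classification.IdL3.Final.psl3_of_index (F := ZMod 3) two_ne ⊥ bot_le
      (by simp) ht (e.trans (QuotientGroup.quotientBot (G := GL (Fin 2) (ZMod 3))).symm) ?_ ?_
    · intro s hs
      obtain ⟨g, hg⟩ := isConj_iff.1 (hone s hs)
      exact ⟨g, hg⟩
    · have hc : Nat.card (Subgroup.centralizer ({t} : Set G)) = 48 := by
        rw [Nat.card_congr e.toEquiv]; exact card_gl
      have h1 := Subgroup.card_mul_index (Subgroup.centralizer ({t} : Set G))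
      rw [hc, h] at h1
      rw [Nat.card_zmod]
      omega
  · exact Or.inr ⟨inferInstance, h⟩

end Cfsg.Agent.Classification.RTwo.EndSD
end

private theorem dce_268b46b9ad28 : _root_.True := by
  try have : _root_.True := by simp only [_root_.Cfsg.Agent.Classification.RTwo.StructBasic.D.eq_1]
  exact _root_.True.intro
end
end
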