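import Mathlib
import Cfsg.Prelude.Def_Classical
import Cfsg.Prelude.Def_CaseTheorems
import Cfsg.Agent.S0279
import Cfsg.Agent.LieClassical.FieldTransfer
import Cfsg.Agent.LieClassical.GUOrder
set_option linter.all false

/-!
# `PSU₃(3)` is not a minimal simple group

The group `SU₃(3)` contains a perfect proper subgroup (`≅ PSL₂(7)`), generated by two explicit matrices `A`, `B` with
`A² = B³ = (AB)⁷ = 1`; it preserves an explicit set of 42 vectors.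
-/

set_option autoImplicit false

namespace Cfsg.Agent.Classification.RTwo.UThreeThree

open Matrix Cfsg

/-! ### Groups generated by a `(2,3,7)`-pair are not solvable -/

theorem eq_one_of_comm {A : Type*} [CommGroup A] {x y : A} (hx : x ^ 2 = 1) (hy : y ^ 3 = 1)
    (hxy : (x * y) ^ 7 = 1) : x = 1 ∧ y = 1 := by
  have h1 : x * y = 1 := by
    have h : (x * y) ^ 7 = (x ^ 2) ^ 3 * (y ^ 3) ^ 2 * (x * y) := by
      rw [mul_pow, ← pow_mul, ← pow_mul]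
      have e1 : x ^ 7 = x ^ 6 * x := pow_succ x 6
      have e2 : y ^ 7 = y ^ 6 * y := pow_succ y 6
      rw [e1, e2]
      norm_num
      rw [mul_mul_mul_comm]
    rw [h, hx, hy] at hxy
    simpa using hxy
  have h2 : y = x⁻¹ := eq_inv_of_mul_eq_one_right h1
  have h3 : y ^ 2 = 1 := by rw [h2, inv_pow, hx, inv_one]
  have h4 : y = 1 := by
    have : y ^ 3 = y ^ 2 * y := pow_succ y 2
    rw [hy, h3, one_mul] at this
    exact this.symm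
  refine ⟨?_, h4⟩
  rw [h4, mul_one] at h1
  exact h1

/-- The group generated by `a`, `b` with `a² = b³ = (ab)⁷ = 1` and `a ≠ 1` is not solvable. -/
theorem not_isSolvable_closure {G : Type*} [Group G] {a b : G} (ha : a ^ 2 = 1) (hb : b ^ 3 = 1)
    (hab : (a * b) ^ 7 = 1) (hne : a ≠ 1) :
    ¬ Group.IsSolvable (Subgroup.closure ({a, b} : Set G)) := by
  intro hs
  set H := Subgroup.closure ({a, b} : Set G) with hH
  have haH : a ∈ H := Subgroup.subset_closure (by simp)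
  have hbH : b ∈ H := Subgroup.subset_closure (by simp)
  let a' : H := ⟨a, haH⟩
  let b' : H := ⟨b, hbH⟩
  have : Nontrivial H := ⟨⟨a', 1, fun h => hne (congrArg Subtype.val h)⟩⟩
  have hlt := Group.IsSolvable.commutator_lt_top_of_nontrivial H
  have key := eq_one_of_comm (A := Abelianization H) (x := Abelianization.of a') (y := Abelianization.of b')
    (by rw [← map_pow, ← map_one (Abelianization.of (G := H))]; congr 1; exact Subtype.ext ha)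
    (by rw [← map_pow, ← map_one (Abelianization.of (G := H))]; congr 1; exact Subtype.ext hb)
    (by rw [← map_mul, ← map_pow, ← map_one (Abelianization.of (G := H))]; congr 1; exact Subtype.ext hab)
  have ha1 : a' ∈ commutator H := by
    have := key.1
    rwa [← MonoidHom.mem_ker, Abelianization.ker_of] at this
  have hb1 : b' ∈ commutator H := by
    have := key.2
    rwa [← MonoidHom.mem_ker, Abelianization.ker_of] at this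
  have htop : commutator H = ⊤ := by
    have hle : H ≤ (commutator H).map H.subtype := by
      conv_lhs => rw [hH]
      rw [Subgroup.closure_le]
      rintro x (rfl | rfl)
      · exact ⟨a', ha1, rfl⟩
      · exact ⟨b', hb1, rfl⟩
    rw [eq_top_iff]
    rintro ⟨x, hx⟩ -
    obtain ⟨y, hy, hyx⟩ := hle hx
    have : y = ⟨x, hx⟩ := Subtype.ext hyx
    rwa [this] at hy
  exact hlt.ne htop

/-! ### The field with nine elements, the matrices -/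

/-- The field with nine elements, as `𝔽₃[i]`. -/
abbrev K9 := QuadraticAlgebra (ZMod 3) (-1) 0

instance k9Fact : Fact (∀ r : ZMod 3, r ^ 2 ≠ -1 + 0 * r) := ⟨by decide⟩

noncomputable instance k9Fintype : Fintype K9 :=
  Fintype.ofEquiv _ (QuadraticAlgebra.equivProd (-1 : ZMod 3) 0).symm

theorem card_k9 : Fintype.card K9 = 9 := by
  rw [Fintype.card_congr (QuadraticAlgebra.equivProd (-1 : ZMod 3) 0)]
  rfl

theorem card_k9' : Fintype.card K9 = 3 ^ 2 := card_k9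

/-- The involution. -/
def matA : Matrix (Fin 3) (Fin 3) K9 :=
  !![⟨0, 0⟩, ⟨1, 2⟩, ⟨2, 1⟩; ⟨1, 1⟩, ⟨1, 0⟩, ⟨1, 0⟩; ⟨2, 2⟩, ⟨1, 0⟩, ⟨1, 0⟩]

/-- The element of order 3. -/
def matB : Matrix (Fin 3) (Fin 3) K9 :=
  !![⟨0, 0⟩, ⟨0, 0⟩, ⟨1, 0⟩; ⟨1, 0⟩, ⟨0, 0⟩, ⟨0, 0⟩; ⟨0, 0⟩, ⟨1, 0⟩, ⟨0, 0⟩]

/-- A diagonal matrix. -/
def matD : Matrix (Fin 3) (Fin 3) K9 :=
  !![⟨0, 1⟩, ⟨0, 0⟩, ⟨0, 0⟩; ⟨0, 0⟩, ⟨0, 2⟩, ⟨0, 0⟩; ⟨0, 0⟩, ⟨0, 0⟩, ⟨1, 0⟩]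

theorem matA_sq : matA * matA = 1 := by decide +kernel

theorem matB_cube : matB * matB * matB = 1 := by decide +kernel

theorem matAB : (matA * matB) * (matA * matB) * (matA * matB) * (matA * matB) * (matA * matB) *
    (matA * matB) * (matA * matB) = 1 := by decide +kernel

/-- Determinant and unitarity, as a decidable condition. -/
def IsGood (M : Matrix (Fin 3) (Fin 3) K9) : Prop :=
  (M 0 0 * M 1 1 * M 2 2 - M 0 0 * M 1 2 * M 2 1 - M 0 1 * M 1 0 * M 2 2 + M 0 1 * M 1 2 * M 2 0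
    + M 0 2 * M 1 0 * M 2 1 - M 0 2 * M 1 1 * M 2 0 = 1) ∧
  ∀ i j : Fin 3, M 0 i * (M 0 j * M 0 j * M 0 j) + M 1 i * (M 1 j * M 1 j * M 1 j)
      + M 2 i * (M 2 j * M 2 j * M 2 j) = if i = j then 1 else 0

instance (M : Matrix (Fin 3) (Fin 3) K9) : Decidable (IsGood M) := by
  unfold IsGood; infer_instance

theorem isGood_A : IsGood matA := by decide +kernel
theorem isGood_B : IsGood matB := by decide +kernel
theorem isGood_D : IsGood matD := by decide +kernel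

theorem IsGood.det {M : Matrix (Fin 3) (Fin 3) K9} (h : IsGood M) : M.det = 1 := by
  rw [Matrix.det_fin_three]
  exact h.1

theorem IsGood.unitary {M : Matrix (Fin 3) (Fin 3) K9} (h : IsGood M) :
    Mᵀ * M.map (LieClassical.GUOrder.frob card_k9') = 1 := by
  refine Matrix.ext fun i j => ?_
  rw [Matrix.mul_apply, Fin.sum_univ_three, Matrix.one_apply, ← h.2 i j]
  simp only [Matrix.transpose_apply, Matrix.map_apply, LieClassical.GUOrder.frob_apply, pow_succ,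
    pow_zero, one_mul]

/-- The element of `SU₃(3)` given by a good matrix. -/
def IsGood.su {M : Matrix (Fin 3) (Fin 3) K9} (h : IsGood M) : Cfsg.SU 3 K9 3 :=
  ⟨⟨M, h.det⟩, (LieClassical.GUOrder.mul_map_eq_one_iff card_k9' M).2 h.unitary⟩

theorem su_ext {x y : Cfsg.SU 3 K9 3}
    (h : ((x : Matrix.SpecialLinearGroup (Fin 3) K9) : Matrix (Fin 3) (Fin 3) K9) =
      ((y : Matrix.SpecialLinearGroup (Fin 3) K9) : Matrix (Fin 3) (Fin 3) K9)) : x = y :=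
  Subtype.ext (Subtype.ext h)

theorem su_A_sq : isGood_A.su ^ 2 = 1 := by
  apply su_ext
  rw [pow_two]
  exact matA_sq

theorem su_B_cube : isGood_B.su ^ 3 = 1 := by
  apply su_ext
  rw [pow_succ, pow_two]
  exact matB_cube

theorem su_AB : (isGood_A.su * isGood_B.su) ^ 7 = 1 := by
  apply su_ext
  rw [pow_succ, pow_succ, pow_succ, pow_succ, pow_succ, pow_succ, pow_one]
  exact matAB

theorem su_A_ne : isGood_A.su ≠ 1 := by
  intro h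
  have h1 : matA = 1 := congrArg (fun x : Cfsg.SU 3 K9 3 =>
    ((x : Matrix.SpecialLinearGroup (Fin 3) K9) : Matrix (Fin 3) (Fin 3) K9)) h
  have h2 : matA 0 0 = 1 := by rw [h1]; rfl
  revert h2
  decide +kernel

/-- The 42 vectors. -/
def vecs : List (K9 × K9 × K9) :=
  [(⟨0, 0⟩, ⟨0, 0⟩, ⟨1, 0⟩), (⟨0, 0⟩, ⟨0, 0⟩, ⟨2, 0⟩), (⟨0, 0⟩, ⟨1, 0⟩, ⟨0, 0⟩), (⟨0, 0⟩, ⟨1, 1⟩, ⟨1, 1⟩),
   (⟨0, 0⟩, ⟨1, 1⟩, ⟨2, 2⟩), (⟨0, 0⟩, ⟨2, 0⟩, ⟨0, 0⟩), (⟨0, 0⟩, ⟨2, 2⟩, ⟨1, 1⟩), (⟨0, 0⟩, ⟨2, 2⟩, ⟨2, 2⟩),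
   (⟨1, 0⟩, ⟨0, 0⟩, ⟨0, 0⟩), (⟨1, 0⟩, ⟨1, 0⟩, ⟨1, 2⟩), (⟨1, 0⟩, ⟨1, 0⟩, ⟨2, 1⟩), (⟨1, 0⟩, ⟨1, 2⟩, ⟨1, 0⟩),
   (⟨1, 0⟩, ⟨1, 2⟩, ⟨2, 0⟩), (⟨1, 0⟩, ⟨2, 0⟩, ⟨1, 2⟩), (⟨1, 0⟩, ⟨2, 0⟩, ⟨2, 1⟩), (⟨1, 0⟩, ⟨2, 1⟩, ⟨1, 0⟩),
   (⟨1, 0⟩, ⟨2, 1⟩, ⟨2, 0⟩), (⟨1, 1⟩, ⟨0, 0⟩, ⟨1, 1⟩), (⟨1, 1⟩, ⟨0, 0⟩, ⟨2, 2⟩), (⟨1, 1⟩, ⟨1, 1⟩, ⟨0, 0⟩),
   (⟨1, 1⟩, ⟨2, 2⟩, ⟨0, 0⟩), (⟨1, 2⟩, ⟨1, 0⟩, ⟨1, 0⟩), (⟨1, 2⟩, ⟨1, 0⟩, ⟨2, 0⟩), (⟨1, 2⟩, ⟨2, 0⟩, ⟨1, 0⟩),
   (⟨1, 2⟩, ⟨2, 0⟩, ⟨2, 0⟩), (⟨2, 0⟩, ⟨0, 0⟩, ⟨0, 0⟩), (⟨2, 0⟩, ⟨1, 0⟩, ⟨1, 2⟩), (⟨2, 0⟩, ⟨1, 0⟩, ⟨2, 1⟩),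
   (⟨2, 0⟩, ⟨1, 2⟩, ⟨1, 0⟩), (⟨2, 0⟩, ⟨1, 2⟩, ⟨2, 0⟩), (⟨2, 0⟩, ⟨2, 0⟩, ⟨1, 2⟩), (⟨2, 0⟩, ⟨2, 0⟩, ⟨2, 1⟩),
   (⟨2, 0⟩, ⟨2, 1⟩, ⟨1, 0⟩), (⟨2, 0⟩, ⟨2, 1⟩, ⟨2, 0⟩), (⟨2, 1⟩, ⟨1, 0⟩, ⟨1, 0⟩), (⟨2, 1⟩, ⟨1, 0⟩, ⟨2, 0⟩),
   (⟨2, 1⟩, ⟨2, 0⟩, ⟨1, 0⟩), (⟨2, 1⟩, ⟨2, 0⟩, ⟨2, 0⟩), (⟨2, 2⟩, ⟨0, 0⟩, ⟨1, 1⟩), (⟨2, 2⟩, ⟨0, 0⟩, ⟨2, 2⟩),
   (⟨2, 2⟩, ⟨1, 1⟩, ⟨0, 0⟩), (⟨2, 2⟩, ⟨2, 2⟩, ⟨0, 0⟩)]

/-- The action of a matrix on triples. -/
def app (M : Matrix (Fin 3) (Fin 3) K9) (x : K9 × K9 × K9) : K9 × K9 × K9 :=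
  (M 0 0 * x.1 + M 0 1 * x.2.1 + M 0 2 * x.2.2, M 1 0 * x.1 + M 1 1 * x.2.1 + M 1 2 * x.2.2,
    M 2 0 * x.1 + M 2 1 * x.2.1 + M 2 2 * x.2.2)

theorem app_mul (M N : Matrix (Fin 3) (Fin 3) K9) (x : K9 × K9 × K9) :
    app (M * N) x = app M (app N x) := by
  simp only [app, Matrix.mul_apply, Fin.sum_univ_three]
  refine Prod.ext ?_ (Prod.ext ?_ ?_) <;> ring

theorem app_one (x : K9 × K9 × K9) : app 1 x = x := by
  simp [app]

theorem stable_A : ∀ x ∈ vecs, app matA x ∈ vecs := by decide +kernel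
theorem stable_B : ∀ x ∈ vecs, app matB x ∈ vecs := by decide +kernel
theorem not_stable_D : ¬ ∀ x ∈ vecs, app matD x ∈ vecs := by decide +kernel

/-- The matrix of an element. -/
abbrev mt (x : Cfsg.SU 3 K9 3) : Matrix (Fin 3) (Fin 3) K9 :=
  ((x : Matrix.SpecialLinearGroup (Fin 3) K9) : Matrix (Fin 3) (Fin 3) K9)

theorem mt_mul (x y : Cfsg.SU 3 K9 3) : mt (x * y) = mt x * mt y := rfl

/-- The elements preserving the set of 42 vectors. -/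
def stab : Subgroup (Cfsg.SU 3 K9 3) where
  carrier := {g | (∀ x ∈ vecs, app (mt g) x ∈ vecs) ∧ ∀ x ∈ vecs, app (mt g⁻¹) x ∈ vecs}
  mul_mem' := by
    rintro a b ⟨ha, ha'⟩ ⟨hb, hb'⟩
    refine ⟨fun x hx => ?_, fun x hx => ?_⟩
    · rw [mt_mul, app_mul]
      exact ha _ (hb _ hx)
    · rw [_root_.mul_inv_rev, mt_mul, app_mul]
      exact hb' _ (ha' _ hx)
  one_mem' := by
    refine ⟨fun x hx => ?_, fun x hx => ?_⟩
    · have h : mt (1 : Cfsg.SU 3 K9 3) = 1 := rfl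
      rw [h, app_one]
      exact hx
    · have h : mt (1⁻¹ : Cfsg.SU 3 K9 3) = 1 := by rw [inv_one]; rfl
      rw [h, app_one]
      exact hx
  inv_mem' := by
    rintro a ⟨ha, ha'⟩
    exact ⟨ha', by rw [inv_inv]; exact ha⟩

theorem A_mem : isGood_A.su ∈ stab := by
  have h : isGood_A.su⁻¹ = isGood_A.su := by
    rw [inv_eq_iff_mul_eq_one, ← pow_two]
    exact su_A_sq
  refine ⟨stable_A, ?_⟩
  rw [h]
  exact stable_A

theorem B_mem : isGood_B.su ∈ stab := by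
  have h : isGood_B.su⁻¹ = isGood_B.su * isGood_B.su := by
    rw [inv_eq_iff_mul_eq_one, ← mul_assoc, ← pow_two, ← pow_succ]
    exact su_B_cube
  refine ⟨stable_B, ?_⟩
  rw [h]
  intro x hx
  rw [mt_mul, app_mul]
  exact stable_B _ (stable_B _ hx)

theorem D_not_mem : isGood_D.su ∉ stab := fun h => not_stable_D h.1

/-- `SU₃(3)` has a non-solvable proper subgroup. -/
theorem exists_subgroup_SU : ∃ H : Subgroup (Cfsg.SU 3 K9 3), H ≠ ⊤ ∧ ¬ Group.IsSolvable H := by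
  refine ⟨Subgroup.closure {isGood_A.su, isGood_B.su}, ?_,
    not_isSolvable_closure su_A_sq su_B_cube su_AB su_A_ne⟩
  intro h
  apply D_not_mem
  have h1 : Subgroup.closure {isGood_A.su, isGood_B.su} ≤ stab := by
    rw [Subgroup.closure_le]
    rintro x (rfl | rfl)
    · exact A_mem
    · exact B_mem
  apply h1
  rw [h]
  exact Subgroup.mem_top _

theorem center_SU {F : Type*} [Field F] [Fintype F] (hF : Fintype.card F = 9) :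
    Subgroup.center (Cfsg.SU 3 F 3) = ⊥ := by
  have h := Cfsg.Agent.S0279.result (F := F) (q := 3) (n := 3) (by rw [hF]; norm_num) (by norm_num)
  have h1 : Nat.card (Subgroup.center (Cfsg.SU 3 F 3)) = 1 := by
    rw [h]
    norm_num
  exact Subgroup.card_eq_one.1 h1

/-- `PSU₃(3) ≃* SU₃(3)`. -/
noncomputable def psuEquiv {F : Type*} [Field F] [Fintype F] (hF : Fintype.card F = 9) :
    Cfsg.PSU 3 F 3 ≃* Cfsg.SU 3 F 3 :=
  (QuotientGroup.quotientMulEquivOfEq (center_SU hF)).trans QuotientGroup.quotientBot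

theorem exists_subgroup_of_mulEquiv {G H : Type*} [Group G] [Group H] (e : G ≃* H)
    (h : ∃ K : Subgroup H, K ≠ ⊤ ∧ ¬ Group.IsSolvable K) :
    ∃ K : Subgroup G, K ≠ ⊤ ∧ ¬ Group.IsSolvable K := by
  obtain ⟨K, hK, hs⟩ := h
  refine ⟨K.comap e.toMonoidHom, ?_, ?_⟩
  · intro h1
    apply hK
    rw [← Subgroup.map_comap_eq_self_of_surjective (f := e.toMonoidHom) e.surjective K, h1]
    exact Subgroup.map_top_of_surjective _ e.surjective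
  · intro h1
    apply hs
    let f : (K.comap e.toMonoidHom) →* K :=
      (e.toMonoidHom.comp (Subgroup.subtype _)).codRestrict K (fun x => x.2)
    refine Group.isSolvable_of_surjective (f := f) ?_
    rintro ⟨y, hy⟩
    refine ⟨⟨e.symm y, ?_⟩, ?_⟩
    · rw [Subgroup.mem_comap]
      simpa using hy
    · apply Subtype.ext
      change e (e.symm y) = y
      simp

/-- Two fields with 9 elements are isomorphic. -/
theorem exists_subgroup_PSU {F : Type*} [Field F] [Fintype F] (hF : Fintype.card F = 9) :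
    ∃ H : Subgroup (Cfsg.PSU 3 F 3), H ≠ ⊤ ∧ ¬ Group.IsSolvable H := by
  have hcard : Fintype.card F = Fintype.card K9 := by rw [hF, card_k9]
  obtain ⟨e⟩ : Nonempty (F ≃+* K9) := ⟨FiniteField.ringEquivOfCardEq hcard⟩
  exact exists_subgroup_of_mulEquiv ((psuEquiv hF).trans (LieClassical.FieldTransfer.suCongr 3 3 e))
    exists_subgroup_SU

/-- A group isomorphic to `PSU₃(3)` is not minimal simple. -/
theorem not_isMinimalSimple {G : Type*} [Group G] {F : Type*} [Field F] [Fintype F]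
    (hF : Fintype.card F = 9) (hG : Nonempty (G ≃* Cfsg.PSU 3 F 3)) : ¬ Cfsg.IsMinimalSimple G := by
  obtain ⟨e⟩ := hG
  rintro ⟨-, -, h⟩
  obtain ⟨K, hK, hs⟩ := exists_subgroup_of_mulEquiv e (exists_subgroup_PSU hF)
  exact hs (h K hK)

end Cfsg.Agent.Classification.RTwo.UThreeThree
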