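import Cfsg.Agent.SporadicRecognition.CosetCert
import Mathlib
import Cfsg.Agent.SporadicRecognition.CosetCertHyp
import Cfsg.Agent.Classification.RTwo.UThreeThree
import Cfsg.Prelude.Def_LieClassical
import Cfsg.Agent.LieClassical.GUOrder
import Cfsg.Agent.TwoFusion.GUTwo
import Cfsg.Agent.S0278
import Cfsg.Agent.S0283
import Cfsg.Agent.SporadicRecognition.HypFast
import Cfsg.Agent.SporadicRecognition.CertFast
import Cfsg.Agent.FastGrp
import Cfsg.Agent.Prune
set_option linter.all false
prune_inst 0x7ffefcfbeff8bddfffff7e7ffedfdffffbfdffffffdffbfbffedf3ffbfdf6b6ff9e5abadffec58ffbed662be30f87b53fffeeeffee6fdc7ffffdfff45fffff9fbfefbd8d71f7ac3e1ffe6ffffbf97fce7f3ffffffffffffffffffffffffffffffffdffffffff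
open scoped Cfsg.Agent.FastGrp

/-- decoders of the packed data (elaboration time only) -/
private noncomputable def pk61d (b S i : Nat) : Nat := Nat.mod (Nat.shiftRight S (Nat.mul b i)) (Nat.shiftLeft (nat_lit 1) b)
private noncomputable def pk61c {α : Type} (t : Nat) (a : α) (f : Nat → α) : α := Nat.rec a (fun k _ => f k) t
private noncomputable def pk61f {α : Type} (t : Nat) (f : Nat → α) : α := Nat.rec (f Nat.zero) (fun k _ => f (Nat.succ k)) t
private noncomputable def pk61l {α : Type} (f : Nat → α) (s e : Nat) (tl : List α) : List α :=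
  pk61f e fun e => Nat.rec tl (fun k ih => List.cons (pk61f (Nat.sub e (Nat.succ k)) f) ih) (Nat.sub e s)
private noncomputable def pk61r {α : Type} (F : (Nat → α) → Nat → α) (d : α) (n : Nat) : Nat → α :=
  Nat.rec (fun _ => d) (fun _ ih => F ih) n


-- part: Classification/RTwo/USixCert
section
/-!
Coset enumeration certificates (generated by `tools/cosetcert/gen.cpp`) for the identification of `PSU₃(3)`.
Letters: `0 = e`, `1 = e⁻¹`, `2 = w = w⁻¹`, `3 = x`, `4 = x⁻¹`, `5 = d`, `6 = d⁻¹`, `7 = 1`
(in `K`: `5 = 1`).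
-/

set_option autoImplicit false
set_option maxRecDepth 100000

namespace Cfsg.Agent.Classification.RTwo.USixCert

open Cfsg.Agent.SporadicRecognition.CosetCert

namespace K

noncomputable def tree : Tr := beta% (fun (N : Nat → Tr → Tr → Tr) (L : Nat → Tr) => (N 48 (N 16 (L
  0xffff128414914e33160a4c324ffff4a314730462f41ac11840ffff1893442e432d1084412c1ffff100c0e833f2b3e2a3d293ffff0d830f8d3c281e973a274ffff362634250c83332431232ffff0c090a821993302215903ffff09820b8a2f212c202b1f4ffff271e261d0882251c241b2ffff221a21192018068208031ffff060504811e171d161c153ffff038105861b14181317124ffff141113100281120f110e2ffff0f0d0e0c0d0b078701810ffff0b0a0a090908008107071ffff05060405030402030102f)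
  (N 32 (L
  0xffff78c82d1b2e1a91ce2b890ffff9a50994f6ec22a89914e1ffff281d268829928f4d894c3ffff2588279e34a5291a874b4ffff7d4a53b67a4974c624880ffff2ca078487647238874461ffff231921872da07345289d3ffff2087229a72443fab70434ffff6b424eb31f876a4168402ffff663f31a31d8649301f0c2ffff643e59b957b862bd1c860ffff390b38a6381d1b86623d1ffff5d3c5c3b1a855b3a59392ffff44ae190e1a0a52b617850ffff563855372a1e168552361ffff151013843aa7513550343)
  (L
  0xffff468f4ab193ce482748974ffff96438d34458f9e4f7ac92ffff438e4513d9dec4dabad84ffffdb5f9845428eb15576c72ffffc24bc3595fbc408e420f1ffffd65e68c03e8db85740192ffff8dc7c5da8c4cd0dd3d8d0ffff6e186dc26d103c8dd05d1ffffcc5cc95b3b8cbd58c45a2ffff8acc7c493b11398c47b01ffff3725358b70c3be599fd033795338b36a6351dffffffff4ffffb958b5579f4fb2d6328b0ffff321766bfafd5308bb2561ffffad55a1d19cd04cb22f8a0ffffa854a5532e89a452a1512)))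
  (N 80 (N 64 (L
  0xffff692bd6de81be6798eae21ffff6723659785c8dcdfed633ffff65396396824082c7aed53ffff8fcde962a2d1619563161ffff5e3b5c94602ccddca9d43ffff5b945dbcbbd85f38e2e0460b1ffffffffffffffff5a940ffff5a1664bed2dd589484481ffff57375592581681425ebb3ffff549256b87fc17f499bcf4ffff541c7dcab6d7519253131ffffd546d1dde3e0e5e150910ffff8caf974394c54f91e56116ca94f186bc24d90ffffffff2ffffe060b3d6dddf4b904d221ffff4b30498fa5d384c861143)
  (L
  0xffff9b4f999f9d22a026a7533ffff989f9ad09ea49c379daf4ffff9341eee39430909f92201ffffe9e2903dc0d9cb5b8e9e0ffff8a498b278baa889ec9db1ffffbfd9c1acc6da869d88451ffff7e367c9ce7e1d7deac213ffff7ba789cc799c7b2f7eb72ffff779b7920863f83b985314ffffc85a8e2a759b772d833e2ffffd45dd4b5aad4739b751c1ffff97addbdf953487cb729a0fffff264e6e17199ede3df5f2ffff96b495af71266f99b5d71ffff6c336a986f1fe1e080b83ffffefe392ce8037ec6269980))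
  (N 96 (L
  0xffffe156dfb2e435e33be2423ffffdc45daadde32dec4dd3f3ffffd740d5abda2ed951d84a3ffffd235d3c6d339cfa9d12a1ffffcd5bcba8cf56f3e4ce3c3ffffc8a8ccdcf0e3ca4ccacd4ffffc62ac7c7c74bc3a8c52e1ffffc2acc04bc14dbf53bda60ffffba57b8a4bc3bbb2ebca83ffffb4a4b9d8b736b643b7ab4ffffb432e0e0cedcb1a3b3241ffffae51aca2b023af3eb0ad3ffffa953a7a1ab46aa3cf4e43ffffa4a1a8d4a631a6d0bed94abcaffffffffffffffffa3a10ffffa222add5a33da0a1d8de1)
  (L
  0xfffff361f1c4f662f554f45c3ffffef4ef041f15becbfee441ffffe8bdea4df5e4eb40ebc14ffffe744f2e4e84ae4b4e6351)))))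
  Tr.N Tr.L

noncomputable def wtree : WT :=
  (by
  refine (?fq9001 : ((pk61r (fun r0 j => pk61f j fun i1 => (pk61f (pk61d (nat_lit 5) 
    (nat_lit 0x737ace3bcbef56ae714bda728d6909c9ee8c1ed62d4e6a58b41d49320e520cc51106100820) i1) fun u7 => (pk61f (pk61d (nat_lit 1) 
    (nat_lit 0x7c993931e4c9c98) i1) fun t1_0 => (pk61c (Nat.div t1_0 (nat_lit 1)) (_root_.Cfsg.Agent.SporadicRecognition.CosetCert.WT.L (pk61d (nat_lit 3) 
    (nat_lit 0x1a45a909402a9812a68a80b) u7) ((fun g1 : Nat → Nat => pk61l (fun i2 => (pk61d (nat_lit 3) 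
    (nat_lit 0x1166129b4e440281452288b21145044a6d081381368228a28208a2820904114da6898136229100a440224b3226c409b6894d84d80145226c42cc864464458024) i2)) (g1 u7) (g1 (Nat.succ u7)) List.nil) fun j => (pk61d (nat_lit 8) 
    (nat_lit 0xaaa59e97908b847d78736c655e57504a433c3934322c252019140f0a050200) j))) fun _ => (_root_.Cfsg.Agent.SporadicRecognition.CosetCert.WT.N (pk61d (nat_lit 5) 
    (nat_lit 0xfb6b9dde337952b3844eb6b9895206531022) u7) (r0 (Nat.sub i1 (pk61d (nat_lit 5) 
    (nat_lit 0x1e82082110424104220a08208441090410882) u7))) (r0 (Nat.sub i1 (nat_lit 1)))))))) (_root_.Cfsg.Agent.SporadicRecognition.CosetCert.WT.L (nat_lit 0) List.nil) (nat_lit 6) (nat_lit 58)) : WT)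
    = ?xq9001 → (WT)) ?hq9001; (case hq9001 => (set_option maxRecDepth 1000000 in conv => lhs; reduce)); intro _; exact ?xq9001 : WT)

noncomputable def stree : _root_.Cfsg.Agent.SporadicRecognition.CosetCert.ST := (.L 5 [] [])

noncomputable def C : Cert where
  data := tree
  lm := 15
  rb := 100
  fb := 16
  mask := 65535
  B := 128
  k := 5
  N := 100
  inv := fun x => bif Nat.beq x 0 then 1 else bif Nat.beq x 1 then 0 else bif Nat.beq x 2 then 2 else bif Nat.beq x 3 then 4 else bif Nat.beq x 4 then 3 else x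
  words := wtree
  subs := stree

def rels : List (List Nat) := [[3,3,3], [0,0,0,0], [4,0,3,3,2,0], [0,2,0,2,1,2,1,2], [2,3,2,3,3,2,1,1]]

def subw : List (List Nat) := []


private theorem alC : Cfsg.Agent.SporadicRecognition.CertFast.al (Nat.succ C.lm) C.data = true := by decide +kernel

theorem c0 : _root_.Cfsg.Agent.SporadicRecognition.CosetCert.Part C 0 64 61 := Cfsg.Agent.SporadicRecognition.CertFast.part_fast C alC 61 (by decide +kernel : Cfsg.Agent.SporadicRecognition.CertFast.runF C 11 2047 0x400c81801166008008632a60080100100450c1183300460c0080200400401153046004019b300408c000000000000080200618c00802004004010020460040193300408c01003106004010020e638c098010660089980100400801801000000010731c60040100200220c09b9400200cc18021860080100100448c008021c604c11802004004011130040087180100400839801004008b987300404c00b24648c90008020040080080200458c010020022cc010010c6008598010060080000000400801013002008019b3002008010731c604c00802004004010021460080101300200801103002008010010c60080100100620c010020041cc010130020cc0100200200801001086008118010060082980200434c0080200400839801004008010731c604c00a44488910008020040080080200428c01002026004010020040040100200218c0100200200c010020040080100202600419802004004010020020080100200200c010530040080100100400801001086008118010060080100200400800802004008010020020080100100400801001006008010020040080080200400801002026004010020040040100200400801002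 8 255 0xf3000000000000930000000000000000000000000093000000000000000000000000000000000000000000000000000000000000000000000000 0 64 = 62)

theorem c1 : _root_.Cfsg.Agent.SporadicRecognition.CosetCert.Part C 64 100 35 := Cfsg.Agent.SporadicRecognition.CertFast.part_fast C alC 35 (by decide +kernel : Cfsg.Agent.SporadicRecognition.CertFast.runF C 11 2047 0x40040100200400801002002008008021c6008618020060080080200400401002004008008020a600801001004008010020e600800802004004011530040040186300430c010730040040103300400801001004004010022260040180200430c010031c600401002002008010c3004004010020460040180234630c000000000000080200600800823004004010020040040193300430c01073004004010a300470c01001004008218011660cce9863002008010010c654e8a0330e6004010b30020080115300400801001004008010031c600401173006008098010041cc008130045ccc98020022cc0100100454c119630e600801001 8 255 0xf30000000000000000000000000000000000 64 36 = 36)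

theorem all : _root_.Cfsg.Agent.SporadicRecognition.CosetCert.Part C 0 100 96 := (c0).append C c1

theorem part : _root_.Cfsg.Agent.SporadicRecognition.CosetCert.Part C 0 C.N 96 := all

end K

namespace P0

noncomputable def tree : Tr := beta% (fun (N : Nat → Tr → Tr → Tr) (L : Nat → Tr) => (N 32 (N 16 (L
  0xa116b187fff94c82b22584106da3914a70a4d38943a9df4fbc4f2bfff944b5a68c431c987a49d4838462c9067fff6a40ffffc763201b3e343e3084490095a20a371bfff9cd938b03d3474511ce6a48c36286629a57fffe4538a07948f5a08e2f146a598552fa84e3c6440e4c6ad05fffc56217132d242e207e6904d5b0022913fff9551fffe2d249270c4a6a6064b3c88707460d0623144e308443ab8a3c3470606030e0e22183e28a074ad86342c60505840984241c4a207863aa062c2454404820a8a171040389854af040d0814086c70c8c0f0820184435af8206041818505fffe0e0c12102026fffe0b0c0e10141020203040408041f)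
  (L
  0x9c0aaf41650fffffffeb387fffb1276a89332f25bdffff531eae4554d2b1c39f9f1eea33ca78f543ea35942ca9134b10312e215ba51c489c984d34e259a3b48305da07aa3ce49ba977156fa6dd4a28afcd1eb9a09a3f9a855516b21103b282f0c9d989ecd40b67e492aeaa5f4ac86e9c1c779d583918795d3ac281e3b202deb9b569c0c3a327860ee9a7194b402d7b1a959ad634167a651291bd43aa86ceabfff99cb352ea278da8a31b49d9ac7a187398d43014866d0ea19523a58cbd99772978a312a6650dcba2154ac0bfffffffffff2d9299754af1d983a508b78ffff96492ea67d68c8aa2974b083fffffff95d02a10ad7d1a81b163))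
  (N 48 (L
  0xb583fffdd0cfffffffffffe69e7fff5b702e267ffffffffffee5b1cf2ffff6b783fffdbac7ffffffee0b5e397fff5b802d963ffffffffffedfb9b95c3776b503fffdacbfffffffee4bffffffff5b682d35fffffffffffeeac3fffb6ed69e8ad0a59ab4af3ffff1ae5a5342365ab0ccc599f57fffffff20ea1fbb56b69d18c99d8cafffffffef6cd972403459b0cc2559147ffffffeffd18b047396a988bf9578a4a75fffec19645d346a5b302ba517d349a593cac099f39b9af6a389fffd729ffffffff0bde2bc32a85ae87fffd6c97ffffffeedc5c377fff5a789fffd6a8ffffffff2eedb167fff5a00ffffd6087ffffffeb481711bcf25)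
  (L
  0xa811fffe62ffffffffffffffffcd7059e092c7e67e7fffffff2f8bfffffff69f1dfffe3af7fffffff21a64bb48e659b8f187a3fd7fffffff1babfffcc3b6a18f14de22efffffffffffffffc5a45b183097627c7fffffff0c921d6c4296a90dfffe08e7fffffff07d7fffc93a5b6030273fffffff944d06dbfffffff69c8cfecdf6dfffffffffffe03445f85a31af46dfba7fff9555fffdf18bea56ae07fffdded7ffffffffffffffbcae5b382eb6bffffffffffeee8ffffbdf36))))
  Tr.N Tr.L

noncomputable def wtree : WT :=
  (by
  refine (?fq9002 : ((pk61r (fun r0 j => pk61f j fun i1 => (pk61f (pk61d (nat_lit 5) 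
    (nat_lit 0x5ab49caf6ac6149c9ee6c60f62dcd629283ad4931507310622906100820) i1) fun u7 => (pk61f (pk61d (nat_lit 1) 
    (nat_lit 0x7c638c78c718) i1) fun t1_0 => (pk61c (Nat.div t1_0 (nat_lit 1)) (_root_.Cfsg.Agent.SporadicRecognition.CosetCert.WT.L (pk61d (nat_lit 3) 
    (nat_lit 0xedc40028a04a2132a8) u7) ((fun g1 : Nat → Nat => pk61l (fun i2 => (pk61d (nat_lit 3) 
    (nat_lit 0x15e750410434b33af3a514515a59a04d852201579d410410d2cd2bce94514569668a44012599120822800d129ba82d55c823545220145222cc9026e445c880524c11572db5456) i2)) (g1 u7) (g1 (Nat.succ u7)) List.nil) fun j => (pk61d (nat_lit 8) 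
    (nat_lit 0xbb959089645d5a554e4b443f3c362f28231e1912100a070500) j))) fun _ => (_root_.Cfsg.Agent.SporadicRecognition.CosetCert.WT.N (pk61d (nat_lit 5) 
    (nat_lit 0x3255b5e747c22d7192a59d0321422) u7) (r0 (Nat.sub i1 (pk61d (nat_lit 5) 
    (nat_lit 0x61862088231044130c41104620882) u7))) (r0 (Nat.sub i1 (nat_lit 1)))))))) (_root_.Cfsg.Agent.SporadicRecognition.CosetCert.WT.L (nat_lit 0) List.nil) (nat_lit 6) (nat_lit 46)) : WT)
    = ?xq9002 → (WT)) ?hq9002; (case hq9002 => (set_option maxRecDepth 1000000 in conv => lhs; reduce)); intro _; exact ?xq9002 : WT)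

noncomputable def stree : _root_.Cfsg.Agent.SporadicRecognition.CosetCert.ST := (.N 1 (.L 0 [] []) (.N 2 (.L 2 [] []) (.L 3 [] [])))

noncomputable def C : Cert where
  data := tree
  lm := 15
  rb := 124
  fb := 15
  mask := 32767
  B := 64
  k := 7
  N := 60
  inv := fun x => bif Nat.beq x 0 then 1 else bif Nat.beq x 1 then 0 else bif Nat.beq x 2 then 2 else bif Nat.beq x 3 then 4 else bif Nat.beq x 4 then 3 else bif Nat.beq x 5 then 6 else bif Nat.beq x 6 then 5 else x
  words := wtree
  subs := stree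

def rels : List (List Nat) :=
  (by
  refine (?fq9003 : ((pk61l (fun i1 => ((fun g1 : Nat → Nat => pk61l (fun i2 => (pk61d (nat_lit 3) 
    (nat_lit 0xebcea08208696695e74a28a2b4b3129b4d228a08045518541609b12aa8002dadb) i2)) (g1 i1) (g1 (Nat.succ i1)) List.nil) fun j => (pk61d (nat_lit 7) 
    (nat_lit 0x15d8a94268a0e1418180) j))) (nat_lit 0) (nat_lit 10) List.nil) : List (List Nat))
    = ?xq9003 → (List (List Nat))) ?hq9003; (case hq9003 => (set_option maxRecDepth 1000000 in set_option simprocs false in conv => lhs; reduce; dsimp only)); intro _; exact ?xq9003 : List (List Nat))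

def subw : List (List Nat) := [[0], [2], [3]]


private theorem alC : Cfsg.Agent.SporadicRecognition.CertFast.al (Nat.succ C.lm) C.data = true := by decide +kernel

theorem c0 : _root_.Cfsg.Agent.SporadicRecognition.CosetCert.Part C 0 60 1 := Cfsg.Agent.SporadicRecognition.CertFast.part_fast C alC 1 (by decide +kernel : Cfsg.Agent.SporadicRecognition.CertFast.runF C 9 511 0x40000000000401098000002000000001000000402010042600000080003010040000000000401098000002010080001000000400598040000a988c000001004000000009660109802c600010080001000000000010040000000080003000040000000cc00010000000020100000010000004330000400000008c04030000400006180000010000000230000c04010100186025980426000008da6030100400006180966010980000230100c04010100004335980427430108da603000040000618cd66000080000c31980000010000186330000002000000866b30084c00001180006020100002020100804020090c040291808040200a0d4602010080243299cc04020100802833980804020090c047331808040200a0c05130100802432980a06020100802025180804000090dc602010080402008092602010080243299cc04000000002020118c04000090dc67301000000200ccde663010000243299cc04020080804020000802130100804020000002020100804020080004021180806020080800c319acc02130100846020180002020100866b300800040011b4c06020100802835180804020090ca602010080402008092663010080243299cc0402008080402198080213010004602018080402128540405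 20 1048575 0xfa571b8071b857166071730703767129070352716627173670a0070321703b0701857031070361702117028071b8271296716657001761291703207127170a0170fa2711f27166170fa671b8670375700d371735701a4711d1700b3700a4712957166671941711d071940700f0711f67506675065712727173179c4677c45711d3700917194371791711d47a44470a0270a05700000 0 60 = 2)

theorem all : _root_.Cfsg.Agent.SporadicRecognition.CosetCert.Part C 0 60 1 := c0

theorem part : _root_.Cfsg.Agent.SporadicRecognition.CosetCert.Part C 0 C.N 1 := all

end P0

namespace P1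

noncomputable def tree : Tr := beta% (fun (N : Nat → Tr → Tr → Tr) (L : Nat → Tr) => (N 32 (N 16 (L
  0xac08b087fff94c82b22584106da3914a711fffc963a99f4f3c4f2bfff944b5ab10431c9a7a45dfffe462c90612886b383fffc763201b3e343e3084490095ae08371bfff9cd938b03d3474511ce6aa9036286629a57fffe4538a07948f5b10230146a598552fa84e3ffff8e4c6b303fffc58217132d242f207e6904d5ab8e2a13fff9551fffe2e249270c8a6ad0a4c3c88707860d86241450308043ac883c3470606430e8e23184428a474ad86342c62505c40a04251c4c208463af842d2456404820b0a18103e389c54af040d0814087070d0c0f0820184435b0020604181854509880e0c12102026fffe0b0c0e10141020203040408041f)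
  (L
  0x9d20ae41630fffffffeb287fffb2e96a6a3fffffffffff529ead4556d2a5c39cad1be62dc274f53bea25940ca8d349f2b0fde13b24dc481c974d32e255a3a19d01d5f7a23ce493a967150fa69d4a632f6cddf9209a3f9a855516b21103ae86eac5c981ecd40b67e4928eaa9f4a7a3fffdbd79d583918795d38c27de3b283fffffff9c0c3a327860ee9a6d94a998dbb9b169ad634167a651291b543a3a0d4b3fff99cb352ea178de8a31b4a910cea995498d43014866d0ea19523a09cc6a1893978a312a6650d8ba2154a5a2c1997b2ffff2d92987548f1d983aa16b9916b196492ea67d68c8aa2974a89dfffffff95d02a10ac7d1a81b963))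
  (N 48 (L
  0xa21ce36bfffffff9266e691d17bcb26b182dd67ffffffffffee0b9c53b9f06b203fffdb4bfffffffedfbffffffff5a2a2d75db977ffffffffffffffffff698c0d6ada6b7fffffff17e3fffc1b559b40d259ab67fffffff1de619b366d699b9fffd9aac9a5fffef0c9a333e3359eb6c9559f54b2393e2f7cd99046786a423fffd8aa7ffffffec89e3fcffff5b082c353ffffffffffec7a1e79386f69fbffffd809ffffffff0ada25bb42a59e28bc4d8534b62ffff10dd7f1bf346a537fffd7097ffffffee5c3fffaee15a82eb44bfffcab195d2ebc56f12fa569da4b347fffffff974bfffdfda2da369c3dfffd5e87ffffffffffd7523b715)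
  (L
  0x9871fffe34f7fffffff1eaffffc82859bbd157a39cffffffff18b3fffcd686a125fffe1ceffffffff1197fffc4e65a3370877fffffffffff0b9bfffc36b697d303d200e7fffffff05d20f6487959966fa7205affffffff04d5fb2bfe269a2bfffdeadc970fffffffdf3545375a038ee6ffffc8b291e4f1abfffbd276a4a3fffdd2d4a2994c6ec8ffffffff5))))
  Tr.N Tr.L

noncomputable def wtree : WT :=
  (by
  refine (?fq9004 : ((pk61r (fun r0 j => pk61f j fun i1 => (pk61f (pk61d (nat_lit 5) 
    (nat_lit 0x19c5ed5d6698bce56ad2307ce4e8c1ac7b9ab5250c59d4931507310622906100820) i1) fun u7 => (pk61f (pk61d (nat_lit 1) 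
    (nat_lit 0x1f263931e4c718) i1) fun t1_0 => (pk61c (Nat.div t1_0 (nat_lit 1)) (_root_.Cfsg.Agent.SporadicRecognition.CosetCert.WT.L (pk61d (nat_lit 3) 
    (nat_lit 0x1e371c40028a04a0532a8) u7) ((fun g1 : Nat → Nat => pk61l (fun i2 => (pk61d (nat_lit 3) 
    (nat_lit 0x1129b4cc88a01453086bce94514569660cd79d410410d2a2536826c1af3a820821a598435e74a28a2b4b308a44012599120822800d129ba82d55c823545220145222cc9222e04dc880524c11572db5456) i2)) (g1 u7) (g1 (Nat.succ u7)) List.nil) fun j => (pk61d (nat_lit 8) 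
    (nat_lit 0xd6cec9c299928d645d5a554e4b443f3c362f28231e1912100a070500) j))) fun _ => (_root_.Cfsg.Agent.SporadicRecognition.CosetCert.WT.N (pk61d (nat_lit 5) 
    (nat_lit 0x1b4be758ada129c5cf3256c51d0321422) u7) (r0 (Nat.sub i1 (pk61d (nat_lit 5) 
    (nat_lit 0x38e410422090410882720821104620882) u7))) (r0 (Nat.sub i1 (nat_lit 1)))))))) (_root_.Cfsg.Agent.SporadicRecognition.CosetCert.WT.L (nat_lit 0) List.nil) (nat_lit 6) (nat_lit 52)) : WT)
    = ?xq9004 → (WT)) ?hq9004; (case hq9004 => (set_option maxRecDepth 1000000 in conv => lhs; reduce)); intro _; exact ?xq9004 : WT)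

noncomputable def stree : _root_.Cfsg.Agent.SporadicRecognition.CosetCert.ST := (.N 1 (.L 0 [] []) (.N 2 (.L 2 [] []) (.L 3 [] [])))

noncomputable def C : Cert where
  data := tree
  lm := 15
  rb := 124
  fb := 15
  mask := 32767
  B := 64
  k := 7
  N := 57
  inv := fun x => bif Nat.beq x 0 then 1 else bif Nat.beq x 1 then 0 else bif Nat.beq x 2 then 2 else bif Nat.beq x 3 then 4 else bif Nat.beq x 4 then 3 else bif Nat.beq x 5 then 6 else bif Nat.beq x 6 then 5 else x
  words := wtree
  subs := stree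

def rels : List (List Nat) :=
  (by
  refine (?fq9005 : ((pk61l (fun i1 => ((fun g1 : Nat → Nat => pk61l (fun i2 => (pk61d (nat_lit 3) 
    (nat_lit 0x19af3a820821a598435e74a28a2b4b3129b4d228a08045518541609b12aa8002dadb) i2)) (g1 i1) (g1 (Nat.succ i1)) List.nil) fun j => (pk61d (nat_lit 7) 
    (nat_lit 0x16d8a94268a0e1418180) j))) (nat_lit 0) (nat_lit 10) List.nil) : List (List Nat))
    = ?xq9005 → (List (List Nat))) ?hq9005; (case hq9005 => (set_option maxRecDepth 1000000 in set_option simprocs false in conv => lhs; reduce; dsimp only)); intro _; exact ?xq9005 : List (List Nat))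

def subw : List (List Nat) := [[0], [2], [3]]


private theorem alC : Cfsg.Agent.SporadicRecognition.CertFast.al (Nat.succ C.lm) C.data = true := by decide +kernel

theorem c0 : _root_.Cfsg.Agent.SporadicRecognition.CosetCert.Part C 0 57 1 := Cfsg.Agent.SporadicRecognition.CertFast.part_fast C alC 1 (by decide +kernel : Cfsg.Agent.SporadicRecognition.CertFast.runF C 10 1023 0x4000000200002004130000000800e1000004000000200002004000000000800008020040000002008b3004130000008c02008000040200000008b30040050c0200800008000040260c020000000400001530080200c01000000000200803000010000030c000000104c000000000000008010000030c002cc0104c000002334c030000158c0030c022cc0104c025cc230080300001000000083300001000000002334c03000010000030c332cc0104d930002300803000010000030c00008010000210c23008030040000002000d300c0000400000000ccb3004130000008c0000c0000000004020080200802004430080248c02008020048328c02008020044314c6300802008020048318c020080200443008631cc00008020048300913000000044314c0240c02008020040228c02008000044338c0200802008020040224c02008020044314c6300802008000040200873008020044338c630080000002005333cc73008000044314c630080000402008020000200413008000080200800004020080200802004000080208c0200c0200402000c30ccb3004130080208c0000c0000402008020ccb3004000080008cd300c02008020048328c02008020044314c0200802008020040224c73008020044314c630080200402008020cc02004130080208c0200c02008020941500805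 20 1048575 0xa3407e3757532073ea17001a6a3427a34676e9273e0075324702f1702c573ea07a3417df827d2857533273f707031076e917533173e0174610753307adf277eb673dd37adf57a5b075321774f1709c073df0701207364173ea27364076e9473dd0736427851371a8073dd473645701a371a847364470134701237364671a827a06171a8377023709c2709c5700000 0 57 = 2)

theorem all : _root_.Cfsg.Agent.SporadicRecognition.CosetCert.Part C 0 57 1 := c0

theorem part : _root_.Cfsg.Agent.SporadicRecognition.CosetCert.Part C 0 C.N 1 := all

end P1

namespace P2

noncomputable def tree : Tr := beta% (fun (N : Nat → Tr → Tr → Tr) (L : Nat → Tr) => (N 32 (N 16 (L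
  0xffff5ea15da02d082f113010469b4c114ffff298e2807589f549e2a8a2c8b2b8b5ffff2407290f4e1d4d1c258b268c27886ffff208c1f06451b431a218c238922895ffff1d06200d3e993d98210d1e8a260e6ffff1c8a1b0539973896250e2b0f2c0f5ffff19051c0b351534142a0f1a881e0c6ffff17881604321331121888220d230d5ffff150417092e912d901809270e1a0a6ffff288f248e0f060d831205140610043ffff1f8d1d8c0c830e871186110514874ffff1b8b198a0b840a021287130410863ffff1689158809020b050c040f8713854ffff068205010e070d060782080308835ffff030106030a8509840703048204026ffff0583038202810201018101010081f)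
  (L
  0xffff5d105f21d120d1a06021b93e722a6ffffbabfb6be599e580f5c915b9a5a9c3ffffafbdacbc540f591f5696559957134ffffa7bba3ba4f1c4d8e5113521c501a3ffff9fb99cb84c8e4e9d509c5a1f529d4ffff98b794b6461a448d47954a9647103ffff8fb58cb4428d459b44124f9d5b1f4ffff88b385b23f983e0c41975398551e3ffff81b17fb03d0c3f194118409353194ffff7caf7aae3a96390b421949923b943ffff77ad76ac380b3a17561e3c914b1b4ffff73ab71aa3614348a481b489437123ffff6ea96da8338a359537943b1749154ffff6ba769a633123189519d579e40183ffff66a564a430893293439a36954a174ffff62a361a22f902e085c1f4b903c163))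
  (N 48 (L
  0xffff7f188231cf3fcc21833180aea53a6ffff7dae7c17bf22c12d86328b337ea35ffff7a177d2fd7a7c7248a337bac80306ffff78ac7716c1afc322ad3c79a9a2395ffff7616782dd9acd92cb13da63a7b2e6ffff74aa7315cebdc53c953675a79b375ffff7115742bdca3d4a89a3772a0ae3c6ffff6fa86e14d33ac4b470a8b23d792d5ffff6d146f29d42ab5237029973687326ffff6ca66b13d524d72ea43aaa3b752b5ffff69136c27c9a6c926a93b6aa49d386ffff67a46612d0a5d0258d34843168a15ffff64126725c7aed5a7913565a26a266ffff63a26211b5a8dc2ab73e7e2fbe3f5ffff61116323c3adbfafbc3f9e3865246ffff5fa05e10ccb0c23f60a0682593355)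
  (L
  0xffffbbbeba1fc2a1cfb0bca2bea3bdb35ffffb61fbb3fc0b8c8b5b7a3b8bcb9a06ffffb0bcaf1ed8bcce2bb1acb3b9b2a95ffffac1eb03dc5abd83dadadaeaab83e6ffffa8baa71ddb36cd31a9a6abb7aaa75ffffa31da83bd234d3a9a4a7a5b0a6ac6ffffa0b89f1cca39cab9a1b8a2adb33d5ffff9c1ca039c6b5c03ea1399da69ea26ffff99b6981bd6b7d6379aaa9babab3b5ffff941b9937dab1dbbb95ab96b497a86ffff90b48f1ac83ec63891a493a192b15ffff8c1a9035c429d2ba8da58eb296366ffff89b28819cb33cbb38aaebd3f8baf5ffff85198933b432b4b286af87a88e346ffff82b08118cdbbda3683b0923584a55))))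
  Tr.N Tr.L

noncomputable def wtree : WT :=
  (by
  refine (?fq9006 : ((pk61r (fun r0 j => pk61f j fun i1 => (pk61f (pk61d (nat_lit 6) 
    (nat_lit 0x207de75c6e181f69e75961c6d76995955185d359549151341244f38d30b40f38a34c2482ca1c92061441c60c5102043080040) i1) fun u7 => (pk61f (pk61d (nat_lit 1) 
    (nat_lit 0x7e264e4c9f1327264) i1) fun t1_0 => (pk61c (Nat.div t1_0 (nat_lit 1)) (_root_.Cfsg.Agent.SporadicRecognition.CosetCert.WT.L (pk61d (nat_lit 3) 
    (nat_lit 0x1b91c71b71c40028a04a0532a8) u7) ((fun g1 : Nat → Nat => pk61l (fun i2 => (pk61d (nat_lit 3) 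
    (nat_lit 0x1662c579d28a28ad2cc60af3a820821b182bce94514569662c579d410410d2881362058b15e74a28a2b4b3182bcea08208695b88b26445488048b32cc58af3a820821a598c15e74a28a2b22536826c0af3a820821a598c15e74a28a2b4b318a44012599120822800d129ba82d55c823545220145222cc9222e04dc880524c11572db5456) i2)) (g1 u7) (g1 (Nat.succ u7)) List.nil) fun j => (pk61d (nat_lit 9) 
    (nat_lit 0x57e6d0d8440db4d869b398ec24ca491a642e968aa4e259107e3c1b0bc50230f06424100501c0a00) j))) fun _ => (_root_.Cfsg.Agent.SporadicRecognition.CosetCert.WT.N (pk61d (nat_lit 6) 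
    (nat_lit 0x1165d7e085e6dc6955d859351220c38f40d28b2441871420c1) u7) (r0 (Nat.sub i1 (pk61d (nat_lit 6) 
    (nat_lit 0x2248a18408210208810208408248a184082102088102084082) u7))) (r0 (Nat.sub i1 (nat_lit 1)))))))) (_root_.Cfsg.Agent.SporadicRecognition.CosetCert.WT.L (nat_lit 0) List.nil) (nat_lit 7) (nat_lit 66)) : WT)
    = ?xq9006 → (WT)) ?hq9006; (case hq9006 => (set_option maxRecDepth 1000000 in conv => lhs; reduce)); intro _; exact ?xq9006 : WT)

noncomputable def stree : _root_.Cfsg.Agent.SporadicRecognition.CosetCert.ST := (.N 1 (.L 0 [] []) (.N 2 (.L 2 [] []) (.L 3 [] [])))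

noncomputable def C : Cert where
  data := tree
  lm := 15
  rb := 132
  fb := 16
  mask := 65535
  B := 128
  k := 7
  N := 63
  inv := fun x => bif Nat.beq x 0 then 1 else bif Nat.beq x 1 then 0 else bif Nat.beq x 2 then 2 else bif Nat.beq x 3 then 4 else bif Nat.beq x 4 then 3 else bif Nat.beq x 5 then 6 else bif Nat.beq x 6 then 5 else x
  words := wtree
  subs := stree

def rels : List (List Nat) :=
  (by
  refine (?fq9007 : ((pk61l (fun i1 => ((fun g1 : Nat → Nat => pk61l (fun i2 => (pk61d (nat_lit 3) 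
    (nat_lit 0x58af3a820821a598c15e74a28a2b4b3129b4d228a08045518541609b12aa8002dadb) i2)) (g1 i1) (g1 (Nat.succ i1)) List.nil) fun j => (pk61d (nat_lit 7) 
    (nat_lit 0x16d8a94268a0e1418180) j))) (nat_lit 0) (nat_lit 10) List.nil) : List (List Nat))
    = ?xq9007 → (List (List Nat))) ?hq9007; (case hq9007 => (set_option maxRecDepth 1000000 in set_option simprocs false in conv => lhs; reduce; dsimp only)); intro _; exact ?xq9007 : List (List Nat))

def subw : List (List Nat) := [[0], [2], [3]]


private theorem alC : Cfsg.Agent.SporadicRecognition.CertFast.al (Nat.succ C.lm) C.data = true := by decide +kernel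

theorem c0 : _root_.Cfsg.Agent.SporadicRecognition.CosetCert.Part C 0 63 63 := Cfsg.Agent.SporadicRecognition.CertFast.part_fast C alC 63 (by decide +kernel : Cfsg.Agent.SporadicRecognition.CertFast.runF C 10 1023 0x2004020080200802004130080200802008020040274c020080200413008430080200c02005e364c02008020041378c0200802008020056300802008b3004130097308c02008020040280c02008b300413008020080200802005c36cc02008020041368c020080200c02005a3008020cc020041350c020080200c020040264c020cc020041370db308c0200c020056360cc30cc02004130099308c0200c020040210cc3008b3004130099308cd300c020040264cc3008b3004130080208c0200c02005f3008020ccb30041358d5308cd300c020056374cc30ccb3004130095308c0200c020040254cc30cc02004130080208c0200c020040284cc30ccb3004130080208cd300c020040264c020ccb30041358c0208cd300c0200802004020080200802004430080248c02008020048328c02008020044314c6300802008020048318c020080200443008631cc02008020048300913008020044314c0240c02008020040228c02008020044338c0200802008020040224c02008020044314c6300802008020040200873008020044338c630080200802005333cc73008020044314c630080200402008020080200413008020080200802004020080200802004130080208c0200c0200402008c30ccb3004130080208c0200c0200402008020ccb3004130080208cd300c02008020048328c02008020044314c0200802008020040224c73008020044314c630080200402008020cc02004130080208c0200c02008020941500805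 1 1 0 0 63 = 64)

theorem all : _root_.Cfsg.Agent.SporadicRecognition.CosetCert.Part C 0 63 63 := c0

theorem part : _root_.Cfsg.Agent.SporadicRecognition.CosetCert.Part C 0 C.N 63 := all

end P2

namespace P3

noncomputable def tree : Tr := beta% (fun (N : Nat → Tr → Tr → Tr) (L : Nat → Tr) => (N 32 (N 16 (L
  0xbe10ac87fff94482a22564102dffff4b4124b38903a8df4dbc4d2bfff93cb5b510411c947a39dfffe442c8c67fff6c283fffc7031f9b3d343c308048f895b49034187469c5937b03b346e5114e6af92332860299d7fffe43389c7940f5aa902c1464597d52ea84c3c5e40d8c6bf91fffc50216932c242b207a68fcd5c0082713fff94d1fffe2a248e70b8a6c088493c84706c60c0621144a307443c30239346a605830d0e20183e289874b588312c5a505040884221c46207863c1042927fff8402098a151038389054c185fffc14086470b8c0d081c183c35c2020607fff8485fffe0c0c12102026fffe0b0c0e10141020203040408041f)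
  (L
  0xbc22aa415b0fffffffeaf87fffb3ea6aa37fffffffffff511ea9454ed295c3af252ff653e268ffffe9f593aca8134ac3321ee33d241c469c944d2ce249a3b32115e623c230e47ba937148fa5dd4b12709de03b201a3e9a835512b20903b1a4fbd5eba1e4d3fb67c4922ea99f4b3a2f2cdd991cd83818775d32c271e3aea0e7c5c981b8c39327660ea9a6194a826dfbdb771a56331678650e91ad43a924d9b7fff994b342e9e78da8a29b4a622d2ad9d518542f14846d0aa18d23a9a0caa5914170a302a6450d4ba1954bd90c49d8137fff2c92957542f1d183bca0bb956f215c92da67b68c4aa2174bf10b38d63115502910a87d1681b163))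
  (N 48 (L
  0xad50e363ffffffffffee8c7fffc73a6a5cee1b9bcbfffffffeedc9e79ffff5a8ccda5dc17fffffffffffdbb639706b24bfffdb0b7fffffff2af3fffc5f95b0c8d75bfffcfe19e6531f63dd372e6a546d4a9a2affffa47702d9ad3c3b75a6c4cd55a75d03aa2ef0cdda104b3c6b2c3fffd92a7ffffffecca267effff5b040c753ffffffffffecba60db3bf26b74ac699869ffffffff1aea49db56b5be90bf4d8b3fffffffffffd85244b86ba49fffd7494ea4fffef6d1d58afa15bac0b649792db209dcafcd573130666bba0b589648fffffffffffdc57ffff5adc2b045691fffffffffffe27c2e246bd26ae815684e729f59fffd7b2ffff5)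
  (L
  0xb7cbfffe5cf7fffffff32b3fffcd295ab49287a61ed270a15f2bb65b57fff6a76723ea40ed1ebfffffffe4fbc9675a7e5187645dd0f7a0d51b9e3b847ec6b843fffe28e7ffffffffffffffcd7d5abc11073fffffffffff16e7fffffff6ae590bda10dd1aaa2750daa1f5c9bb5b9cd006e15bffffffff03ae0ba41e86b6cbfffdf4d7ffffffefd93fffbff15acd8f46bfffcdb49be8f795f3941366b947fffde2cfffffffffffffffffff5b8c2eb67fffcf6c9c42eebde143e346bb43fffdccc7ffffffee9c1fdaffff5))))
  Tr.N Tr.L

noncomputable def wtree : WT :=
  (by
  refine (?fq9008 : ((pk61r (fun r0 j => pk61f j fun i1 => (pk61f (pk61d (nat_lit 5) 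
    (nat_lit 0x6b38bdb7aae7149ded5946149be517360f7316a4b5885a8e64a0e520cc51106100820) i1) fun u7 => (pk61f (pk61d (nat_lit 1) 
    (nat_lit 0x7c98e4c7931c98) i1) fun t1_0 => (pk61c (Nat.div t1_0 (nat_lit 1)) (_root_.Cfsg.Agent.SporadicRecognition.CosetCert.WT.L (pk61d (nat_lit 3) 
    (nat_lit 0xf1c71c40028a14940a650) u7) ((fun g1 : Nat → Nat => pk61l (fun i2 => (pk61d (nat_lit 3) 
    (nat_lit 0x14a28a2b4b300c9af3a820821a598084d79a6894d4880464449af3a820821a598064d79d28a28ad2cc022536826c135e750410434b30109af3a514515a59808a44012599120822800d129ba82d55c8237651488051488b32488b813722014930455cb5456) i2)) (g1 u7) (g1 (Nat.succ u7)) List.nil) fun j => (pk61d (nat_lit 9) 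
    (nat_lit 0x10b6eb599eca4ea5922642e968aa4e259107e3c1b0d05a26108702e10070200a00) j))) fun _ => (_root_.Cfsg.Agent.SporadicRecognition.CosetCert.WT.N (pk61d (nat_lit 5) 
    (nat_lit 0x3ab8d6f36bc67493e07531ab4246531022) u7) (r0 (Nat.sub i1 (pk61d (nat_lit 5) 
    (nat_lit 0x71c820844120821104e410422090410882) u7))) (r0 (Nat.sub i1 (nat_lit 1)))))))) (_root_.Cfsg.Agent.SporadicRecognition.CosetCert.WT.L (nat_lit 0) List.nil) (nat_lit 6) (nat_lit 54)) : WT)
    = ?xq9008 → (WT)) ?hq9008; (case hq9008 => (set_option maxRecDepth 1000000 in conv => lhs; reduce)); intro _; exact ?xq9008 : WT)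

noncomputable def stree : _root_.Cfsg.Agent.SporadicRecognition.CosetCert.ST := (.N 1 (.L 0 [] []) (.N 2 (.L 2 [] []) (.L 3 [] [])))

noncomputable def C : Cert where
  data := tree
  lm := 15
  rb := 124
  fb := 15
  mask := 32767
  B := 64
  k := 7
  N := 61
  inv := fun x => bif Nat.beq x 0 then 1 else bif Nat.beq x 1 then 0 else bif Nat.beq x 2 then 2 else bif Nat.beq x 3 then 4 else bif Nat.beq x 4 then 3 else bif Nat.beq x 5 then 6 else bif Nat.beq x 6 then 5 else x
  words := wtree
  subs := stree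

def rels : List (List Nat) :=
  (by
  refine (?fq9009 : ((pk61l (fun i1 => ((fun g1 : Nat → Nat => pk61l (fun i2 => (pk61d (nat_lit 3) 
    (nat_lit 0x326bcea08208696602135e74a28a2b4b3129b4d228a08045518541609b12aa8002dadb) i2)) (g1 i1) (g1 (Nat.succ i1)) List.nil) fun j => (pk61d (nat_lit 7) 
    (nat_lit 0x17d8a94268a0e1418180) j))) (nat_lit 0) (nat_lit 10) List.nil) : List (List Nat))
    = ?xq9009 → (List (List Nat))) ?hq9009; (case hq9009 => (set_option maxRecDepth 1000000 in set_option simprocs false in conv => lhs; reduce; dsimp only)); intro _; exact ?xq9009 : List (List Nat))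

def subw : List (List Nat) := [[0], [2], [3]]


private theorem alC : Cfsg.Agent.SporadicRecognition.CertFast.al (Nat.succ C.lm) C.data = true := by decide +kernel

theorem c0 : _root_.Cfsg.Agent.SporadicRecognition.CosetCert.Part C 0 61 1 := Cfsg.Agent.SporadicRecognition.CertFast.part_fast C alC 1 (by decide +kernel : Cfsg.Agent.SporadicRecognition.CertFast.runF C 10 1023 0x4000000200002004a360d930080200002005830000000802004a368c0200802008000040000000000b3004000000004c00000020040200802008b3004a30000000802008000040000002000020040050c020080200c0000400000000000000400009530080200c00004000000208c00004000000004c0000c0200400000c308c00004a3000000000200c0000400000c3000b3004000097304cd300c0200400008c3008b3004a360c3304c0200c00004000000208c00004000000004cd300c0200400000c308cb3004a3000000000200c0000563000c308c02004a3ed00204c0200c02004000000008c00004a300000000d300c02004020cc0008c00004a30000004c0000c0000000004020080200802004000080248c02008020047324c02008020043310c5300802008020047314c0200802004330085318c02008020047300913008020043310c0240c02008020040224c02008000043338c0200802008020040220c02008020043310c5300802008000040200863008020043338c530080200802005333cc63008000043310c5300002004020080200002004a3008000080200000004020080200802004a30080204c0200c0200402000c308cb3004a30080204c0200c00004020080208cb3004000080004cd300c02008020047324c02008020043310c0200802008020040220c63008000043310c5300800004020080208c02004000080004c0200c02008020941500805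 20 1048575 0x8fb5786907ba617ba6277f727a6117c79478f307ee327e710741c6741c577ef27c7917aa2179ae674556796d17001b38aa673d36796d078fb3743667ce3378f34782157c793743627860675102759217cba5749e07455075512779227592079ae57510078aa574141743637d90071d707d904749e372471701a371c90749637414375c7271d7677431700b671c9670dd472812704a6700000 0 61 = 2)

theorem all : _root_.Cfsg.Agent.SporadicRecognition.CosetCert.Part C 0 61 1 := c0

theorem part : _root_.Cfsg.Agent.SporadicRecognition.CosetCert.Part C 0 C.N 1 := all

end P3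

namespace I0

noncomputable def tree : Tr := beta% (fun (N : Nat → Tr → Tr → Tr) (L : Nat → Tr) => (N 32 (N 16 (L
  0x9698ac85550138828a25340fcdffff4958ffffc8e3a81f4c3c4a2bfff930b5990c401ffffa2ddfffe432c8a67fff6970dfffc6e31edb3bb43b307e48f4959d0633187269b9936303a346c5110e69c0632285e29917fffe4238967934f59b862c1462597152d28493ffff8d4c6a083fffc50215d32aa42b207868f8d59e042713fff9411fffe2a248c70b8a6980a483c82706c60c0621144a307443998a383468605830d0e20183e2898749b06302c5a505040884221c4620786398862927fff8402098a1510383890549d85fffc14086470b8c0d081c183c359e820607fff8485fffe0c0c12102026fffe0b0c0e10141020203040408041f)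
  (L
  0x90a2a9415b0fffffffffffffffffff6938d26464a8289e4f9ea8454cd291c3960705ea07ca5cf50be9c5934ca75349788fee1f1ba35c451c914d26e23da3940ef3d9e3aa24e463a907146fa51d49a84eed1d799f5a3d1a80550cb1fd03948ae6c9c389d8d3e3679491cea95f49f82dbc1ab79c183698745d2cc265e3a103fffffff9acc37b27360e49a5594a002d1b99f69996319675650891a1439c86ccb1955988b32ae9b78d48a1db4a182c6a989497942d94816d04a18123a202bea1793964a2eaa6150ceba0d549f03fffffffffff2b1292753cf1c5839a0ab79567215092c267868beaa1574950dfffd61114902790a77d1081a563))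
  (N 48 (L
  0x8853fffdb4cfffffffedeb7fffffff585aad465b987ffffffed7b9b33b931687b7fffda0bfffffffed6bdbf834e358cbcce5fffffffffffeddc3fffffff689abfffd96b7ffffffffffffffbdb658d32c95bfffffffffff06e9f7bffff688b3fffd8aafffffffffffd9137fff58c2cc357ffffffffffffffffffffff686a8c09d7aa7ffffffec29e11d336c58528bb517f47ffffffec1a1d99b62f68db1fffd749fffffffef9ddffc31ea58ab5fffd6c97ffffffee2c7fffae6159238b24bffffffffffffffd6b17fff68ba1fffd628fffffffffffda577fff5903eaf47ffffffffffffffffffad2468fbeae815687ffffffffffd712ba325)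
  (L
  0x8a2ffffe08f7fffffff07affffc26858eb7027bffffffffffffffffffffff68e27fffdfaefffffffffffffffc02659130f777ffffffffffefa9bfffbf2b68f25fffde4e7ffffffef5d7fffffff591b4f073ffffffffffef4dbfffffff6895bfffddadfffffffffffffffc0785862eea6ddfa7ffffffffffffffffff68b49fffdcad7ffffffffffdd30ffff58724e069cf97ffffffee397fffffff6))))
  Tr.N Tr.L

noncomputable def wtree : WT :=
  (by
  refine (?fq9010 : ((pk61r (fun r0 j => pk61f j fun i1 => (pk61f (pk61d (nat_lit 5) 
    (nat_lit 0x52728c2b49bdd28c1ac5bdcd5316941cca4a0a4398a31048310020) i1) fun u7 => (pk61f (pk61d (nat_lit 1) 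
    (nat_lit 0x7c6389e31c4) i1) fun t1_0 => (pk61c (Nat.div t1_0 (nat_lit 1)) (_root_.Cfsg.Agent.SporadicRecognition.CosetCert.WT.L (pk61d (nat_lit 3) 
    (nat_lit 0x3f40028a14940a650) u7) ((fun g1 : Nat → Nat => pk61l (fun i2 => (pk61d (nat_lit 3) 
    (nat_lit 0x79d28a28ad2ccabcea082086966572af3a820821a599579d28a28ad2c8a44012599120822800d129ba82d55c8237651488051488b32488b813722014930455cb5456) i2)) (g1 u7) (g1 (Nat.succ u7)) List.nil) fun j => (pk61d (nat_lit 8) 
    (nat_lit 0xb08a645d5a554e4b443f3c36342d26211c17100e080500) j))) fun _ => (_root_.Cfsg.Agent.SporadicRecognition.CosetCert.WT.N (pk61d (nat_lit 5) 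
    (nat_lit 0xb84e958c9ae7b0a84a8c710c81) u7) (r0 (Nat.sub i1 (pk61d (nat_lit 5) 
    (nat_lit 0x1661882208c4109862088231042) u7))) (r0 (Nat.sub i1 (nat_lit 1)))))))) (_root_.Cfsg.Agent.SporadicRecognition.CosetCert.WT.L (nat_lit 0) List.nil) (nat_lit 6) (nat_lit 42)) : WT)
    = ?xq9010 → (WT)) ?hq9010; (case hq9010 => (set_option maxRecDepth 1000000 in conv => lhs; reduce)); intro _; exact ?xq9010 : WT)

noncomputable def stree : _root_.Cfsg.Agent.SporadicRecognition.CosetCert.ST := (.N 1 (.L 0 [] []) (.N 2 (.L 2 [] []) (.L 3 [] [])))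

noncomputable def C : Cert where
  data := tree
  lm := 15
  rb := 124
  fb := 15
  mask := 32767
  B := 64
  k := 7
  N := 58
  inv := fun x => bif Nat.beq x 0 then 1 else bif Nat.beq x 1 then 0 else bif Nat.beq x 2 then 2 else bif Nat.beq x 3 then 4 else bif Nat.beq x 4 then 3 else bif Nat.beq x 5 then 6 else bif Nat.beq x 6 then 5 else x
  words := wtree
  subs := stree

def rels : List (List Nat) :=
  (by
  refine (?fq9011 : ((pk61l (fun i1 => ((fun g1 : Nat → Nat => pk61l (fun i2 => (pk61d (nat_lit 3) 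
    (nat_lit 0xabcea08208696655e74a28a2b4b3129b4d228a08045518541609b12aa8002dadb) i2)) (g1 i1) (g1 (Nat.succ i1)) List.nil) fun j => (pk61d (nat_lit 7) 
    (nat_lit 0x15d8a94268a0e1418180) j))) (nat_lit 0) (nat_lit 10) List.nil) : List (List Nat))
    = ?xq9011 → (List (List Nat))) ?hq9011; (case hq9011 => (set_option maxRecDepth 1000000 in set_option simprocs false in conv => lhs; reduce; dsimp only)); intro _; exact ?xq9011 : List (List Nat))

def subw : List (List Nat) := [[0], [2], [3]]


private theorem alC : Cfsg.Agent.SporadicRecognition.CertFast.al (Nat.succ C.lm) C.data = true := by decide +kernel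

theorem c0 : _root_.Cfsg.Agent.SporadicRecognition.CosetCert.Part C 0 58 1 := Cfsg.Agent.SporadicRecognition.CertFast.part_fast C alC 1 (by decide +kernel : Cfsg.Agent.SporadicRecognition.CertFast.runF C 10 1023 0x100000008000080100000000000000000001000000000000801000000000200002000010000000800000010000000013000000000100000000002cc0128c0000000000000000100000000020000128c0000002000000000100000008000000128c000000200803000010000030c23008010000000013000000000100000000002cc01000000001334c00000010000000002000010000000000000000080100000008232cc0128c000001334c03000010000030c232cc0000400000c30000200400000000000200000004000000008c0000400000000000000c02004000000008cb3004a300000000000020481002004020080200802004330080248c02008020047324c02008020043310c5300802008020047314c0200802004330085318c02008020047300913000000043310c0240c02008020040224c02008020043338c0200802008020040220c02008020043310c5300800000000040200863008020043338c530080000802005333cc63008020043310c530000000402008020000200400008000080200000004020080200802004a30080204c0200c0200402000c308cb3004a30080204c0000c00004020080208cb3004000080004cd300c02008020047324c02008020043310c0200802008020040220c63008000043310c5300800004020080208c02004000080004c0200c02008020941500805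 20 1048575 0x4e717cdd577730762a1752b07475275b2574e6174705752e0752e574e60752e2756f274e707bd557b94676ad174e627001466291747027d51576ad07c63176640788f570015315e4719b0715e071193715e1701d1701c5701d6709007011170093701d0719b6715e2715e5715e3719b477856709017644676445700c070903719b276c6571194719b37090270905700000 0 58 = 2)

theorem all : _root_.Cfsg.Agent.SporadicRecognition.CosetCert.Part C 0 58 1 := c0

theorem part : _root_.Cfsg.Agent.SporadicRecognition.CosetCert.Part C 0 C.N 1 := all

end I0

namespace I1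

noncomputable def tree : Tr := (.L
  0x90bfff847ffffff8aa8ebfff592a7a7fffffffffffffff82869c9fff706ffffff76cffffff5968686fffffffff74d6eafff6aa1fff645ffffff7eefff8cf5a815c5fffffffff88f6286cc6a61fff564fffffffff78dfff5a41524fffffffff5a980e60a694586f7ce3c6363485506404398472d6ac3233a7466445fff4a2166b5ea2e42824a74c44263a015895482422c53043e74e549a21a21413873461e220322359e10c11832a52641c31221026fff1630e20a1081061041021f)

noncomputable def wtree : WT :=
  (by
  refine (?fq9012 : ((pk61r (fun r0 j => pk61f j fun i1 => (pk61f (pk61d (nat_lit 4) 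
    (nat_lit 0xdcbaed9cb87a96875436524310210) i1) fun u7 => (pk61f (pk61d (nat_lit 1) 
    (nat_lit 0x1e4c9c98) i1) fun t1_0 => (pk61c (Nat.div t1_0 (nat_lit 1)) (_root_.Cfsg.Agent.SporadicRecognition.CosetCert.WT.L (pk61d (nat_lit 3) 
    (nat_lit 0x1c144a0532a8) u7) ((fun g1 : Nat → Nat => pk61l (fun i2 => (pk61d (nat_lit 3) 
    (nat_lit 0x28a28ad2cc4d79d410410d2cc0579dc8236a0b55545220145222cc9222e04dc880524c11572db5456) i2)) (g1 u7) (g1 (Nat.succ u7)) List.nil) fun j => (pk61d (nat_lit 7) 
    (nat_lit 0xd911f396cbd4233c64910141c280) j))) fun _ => (_root_.Cfsg.Agent.SporadicRecognition.CosetCert.WT.N (pk61d (nat_lit 4) 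
    (nat_lit 0x7bdec9a8356412) u7) (r0 (Nat.sub i1 (pk61d (nat_lit 5) 
    (nat_lit 0x208208441090410882) u7))) (r0 (Nat.sub i1 (nat_lit 1)))))))) (_root_.Cfsg.Agent.SporadicRecognition.CosetCert.WT.L (nat_lit 0) List.nil) (nat_lit 5) (nat_lit 28)) : WT)
    = ?xq9012 → (WT)) ?hq9012; (case hq9012 => (set_option maxRecDepth 1000000 in conv => lhs; reduce)); intro _; exact ?xq9012 : WT)

noncomputable def stree : _root_.Cfsg.Agent.SporadicRecognition.CosetCert.ST := (.N 1 (.L 0 [] []) (.N 2 (.L 2 [] []) (.L 3 [] [])))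

noncomputable def C : Cert where
  data := tree
  lm := 15
  rb := 100
  fb := 12
  mask := 4095
  B := 32
  k := 7
  N := 15
  inv := fun x => bif Nat.beq x 0 then 1 else bif Nat.beq x 1 then 0 else bif Nat.beq x 2 then 2 else bif Nat.beq x 3 then 4 else bif Nat.beq x 4 then 3 else bif Nat.beq x 5 then 6 else bif Nat.beq x 6 then 5 else x
  words := wtree
  subs := stree

def rels : List (List Nat) :=
  (by
  refine (?fq9013 : ((pk61l (fun i1 => ((fun g1 : Nat → Nat => pk61l (fun i2 => (pk61d (nat_lit 3) 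
    (nat_lit 0x15e750410434b3135e74a28a2b4b3129b4d228a08045518541609b12aa8002dadb) i2)) (g1 i1) (g1 (Nat.succ i1)) List.nil) fun j => (pk61d (nat_lit 7) 
    (nat_lit 0x1658a94268a0e1418180) j))) (nat_lit 0) (nat_lit 10) List.nil) : List (List Nat))
    = ?xq9013 → (List (List Nat))) ?hq9013; (case hq9013 => (set_option maxRecDepth 1000000 in set_option simprocs false in conv => lhs; reduce; dsimp only)); intro _; exact ?xq9013 : List (List Nat))

def subw : List (List Nat) := [[0], [2], [3]]


private theorem alC : Cfsg.Agent.SporadicRecognition.CertFast.al (Nat.succ C.lm) C.data = true := by decide +kernel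

theorem c0 : _root_.Cfsg.Agent.SporadicRecognition.CosetCert.Part C 0 15 1 := Cfsg.Agent.SporadicRecognition.CertFast.part_fast C alC 1 (by decide +kernel : Cfsg.Agent.SporadicRecognition.CertFast.runF C 8 255 0x1000002020001000000000002000100000200000100000023020000010000b300d301000000230203000100000033000100000023c3030202020183a302020201435302000202020102937302020143536302020102020233020113020223020302020225150205 17 131071 0x38f944eeb27d4838119c08ae036701abd395d880e0147009ba18dc82ae0000 0 15 = 2)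

theorem all : _root_.Cfsg.Agent.SporadicRecognition.CosetCert.Part C 0 15 1 := c0

theorem part : _root_.Cfsg.Agent.SporadicRecognition.CosetCert.Part C 0 C.N 1 := all

end I1

namespace I2

noncomputable def tree : Tr := beta% (fun (N : Nat → Tr → Tr → Tr) (L : Nat → Tr) => (N 32 (N 16 (L
  0x9f85fffffff940829a2554102dffff49917fffc8e3a8df4dbc4b289e5934b59798401c927a39dfffe432c8a67fff69a97fffc7031f9b3d343b307e48f4959996341bfff9c5937b03a346e5110e69b94332860299d732ac4238987938f59c102c1464597952e284a3c5e40d8c6a103fffc50216532ba42b207868f8d59d0a2713fff9491fffe2a248c70b8a69e88483c82706c60c0621144a3074439d8a39346a605830d0e20183e2898749e08312c5a505040884221c462078639f042927fff8402098a151038389054a005fffc14086470b8c0d081c183c35a0820607fff8485fffe0c0c12102026fffe0b0c0e10141020203040408041f)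
  (L
  0x8fb4ac455f0fffffffffffde9affff692ad214a40da95e511eab4552d29dc3942304e603c268f523e9f593aca813496b2fcddedb241c469c944d2ce249a39337fffde7aa30e47ba93714cfa5dd495b0eed1d79a01a3e9a835512b2090393a2e6c9c389e4d3fb67c4922eaa1f49816dcc1ad79cd83818775d32c271e39a16d3b9a169b8c39327660ea9a6194949eccb19159a56331678650e91ad439726c5a9874990b342e9e78da8a29b49b0abfa17b398142e94846d0aa189239c90b8996d296ca2faa6350d4ba1954989ffffffffffff2c12957542f1d1839617fffd65115892d267b68c2aa21749516ae87fff95102890aa7d1681b163))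
  (N 48 (L
  0x86aedebdb6cfffffffffffffffffff584a8d565bb87ffffffed8b1b52b93168c2dfffda4c7ffffffffffdd197fff58e3ccf63ffffffffffffffffffffff68629fffd96bfffffffed7bdbf833a1589b2c75fffffffffffffffd954b46d68abdfffd88b7ffffffffffffffffff58eb0c25bfffffffffff05e5f3b326b68935fffd7cafffffffffffd8323c7458f22bc57ffffffffffffffffffc0b868733fffd6ea7ffffffebb960fcb1aa585aeb5517337ffffffeba9bfffb66f68dbbfffd689fffffffef7d9fbbb02858837fffd6697ffffffee2c5a977fff58d3eb14bffffffffffffffffffffff68a2ab0815a8fffffffffffd9b67fff5)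
  (L
  0x8b31fffe06f7fffffff06a7fffc22658cad007bffffffffffffffffffffff69139fffdf6efffffffffffffffbfa4591a6f577ffffffffffef893fffbea96923af273ffffffffffffffffffffff68bc4f0cddadfffffffffffffffbff7587a4ea6ddfa7ffffffffffffffffff688cffffdcad7ffffffffffffffba6e5852ae069cf97ffffffee38ffffbb336))))
  Tr.N Tr.L

noncomputable def wtree : WT :=
  (by
  refine (?fq9014 : ((pk61r (fun r0 j => pk61f j fun i1 => (pk61f (pk61d (nat_lit 5) 
    (nat_lit 0x52728c2b49bdd28c1ac5bdcd5316941cca4a0a4398a31048310020) i1) fun u7 => (pk61f (pk61d (nat_lit 1) 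
    (nat_lit 0x7c6389e31c4) i1) fun t1_0 => (pk61c (Nat.div t1_0 (nat_lit 1)) (_root_.Cfsg.Agent.SporadicRecognition.CosetCert.WT.L (pk61d (nat_lit 3) 
    (nat_lit 0x3f40028a14940a650) u7) ((fun g1 : Nat → Nat => pk61l (fun i2 => (pk61d (nat_lit 3) 
    (nat_lit 0x79d28a28ad2cc50af3a820821a598a17142bcea08208696628579d28a28ad2c8a44012599120822800d129ba82d55c8237651488051488b32488b813722014930455cb5456) i2)) (g1 u7) (g1 (Nat.succ u7)) List.nil) fun j => (pk61d (nat_lit 8) 
    (nat_lit 0xb88e645d5a554e4b443f3c36342d26211c17100e080500) j))) fun _ => (_root_.Cfsg.Agent.SporadicRecognition.CosetCert.WT.N (pk61d (nat_lit 5) 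
    (nat_lit 0xb84e958c9ae7b0a84a8c710c81) u7) (r0 (Nat.sub i1 (pk61d (nat_lit 5) 
    (nat_lit 0x1661882208c4109862088231042) u7))) (r0 (Nat.sub i1 (nat_lit 1)))))))) (_root_.Cfsg.Agent.SporadicRecognition.CosetCert.WT.L (nat_lit 0) List.nil) (nat_lit 6) (nat_lit 42)) : WT)
    = ?xq9014 → (WT)) ?hq9014; (case hq9014 => (set_option maxRecDepth 1000000 in conv => lhs; reduce)); intro _; exact ?xq9014 : WT)

noncomputable def stree : _root_.Cfsg.Agent.SporadicRecognition.CosetCert.ST := (.N 1 (.L 0 [] []) (.N 2 (.L 2 [] []) (.L 3 [] [])))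

noncomputable def C : Cert where
  data := tree
  lm := 15
  rb := 124
  fb := 15
  mask := 32767
  B := 64
  k := 7
  N := 57
  inv := fun x => bif Nat.beq x 0 then 1 else bif Nat.beq x 1 then 0 else bif Nat.beq x 2 then 2 else bif Nat.beq x 3 then 4 else bif Nat.beq x 4 then 3 else bif Nat.beq x 5 then 6 else bif Nat.beq x 6 then 5 else x
  words := wtree
  subs := stree

def rels : List (List Nat) :=
  (by
  refine (?fq9015 : ((pk61l (fun i1 => ((fun g1 : Nat → Nat => pk61l (fun i2 => (pk61d (nat_lit 3) 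
    (nat_lit 0x50af3a820821a598a15e74a28a2b4b3129b4d228a08045518541609b12aa8002dadb) i2)) (g1 i1) (g1 (Nat.succ i1)) List.nil) fun j => (pk61d (nat_lit 7) 
    (nat_lit 0x16d8a94268a0e1418180) j))) (nat_lit 0) (nat_lit 10) List.nil) : List (List Nat))
    = ?xq9015 → (List (List Nat))) ?hq9015; (case hq9015 => (set_option maxRecDepth 1000000 in set_option simprocs false in conv => lhs; reduce; dsimp only)); intro _; exact ?xq9015 : List (List Nat))

def subw : List (List Nat) := [[0], [2], [3]]


private theorem alC : Cfsg.Agent.SporadicRecognition.CertFast.al (Nat.succ C.lm) C.data = true := by decide +kernel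

theorem c0 : _root_.Cfsg.Agent.SporadicRecognition.CosetCert.Part C 0 57 1 := Cfsg.Agent.SporadicRecognition.CertFast.part_fast C alC 1 (by decide +kernel : Cfsg.Agent.SporadicRecognition.CertFast.runF C 10 1023 0x400000020000200400000000000000000004000000000002004000000000800008010000000000000000080100000000002cc0128c0000000000000000100000000000080128c0000002000030080100000000000000128c00000020080300001000000002300001000000000000000000010000030c230080100000000000080300001000000000000001000000001334c030000100000000022cc010000000000000030000100000008232cc0128c000001300003000010000030c232cc0000400000c308c0000400000000000000002004000000008c00004a300000000d300334cd002004020080200802004330080248c02008020047324c02000020043310c5300802008020047314c0200802004330085318c02008020047300913008020043310c0240c02008020040224c02008020043338c0200802008020040220c02008020043310c5300800000000040200863000020043338c530080200002005333cc63000000043310c5300000004020080200802004a3008000080200000004020080200802004000080204c0200c0200402008c308cb3004a30080204c0200c00004020080208cb3004000080004cd300c02008020047324c02008020043310c0200802008020040220c63008000043310c5300800004020080208c02004000080004c0200c02008020941500805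 20 1048575 0x62517c66077b3077232765f174725753007530574ee074ee57001466a21762a074ee27916576250762a17c146781457b93674ee176671753027667074eb075206700153795275db0755e0755e5755e175db5729937795375db1729957749372990755e6755e470501764a175db472994764a272996725d170114725d4758427584071161711637401270506700000 0 57 = 2)

theorem all : _root_.Cfsg.Agent.SporadicRecognition.CosetCert.Part C 0 57 1 := c0

theorem part : _root_.Cfsg.Agent.SporadicRecognition.CosetCert.Part C 0 C.N 1 := all

end I2

namespace I3

noncomputable def tree : Tr := beta% (fun (N : Nat → Tr → Tr → Tr) (L : Nat → Tr) => (N 32 (N 16 (L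
  0xa005fffffff95882ca25b410cda45149905fffc9e3aa5f50bc522bfff950b59b86471ffffa51dfffe4a2c986138869c8e40307a320db3fb442308c4910959c0a39187e69d993a30413478512ce69a8c38286a29b17fffe4938a67954f59a0e31146e599153128513c6840ecc6a3822e2056217d32ea43020866914d5a10829105a49611fffe2f249a70cca69e04503c90707460d0623144e307c43a2043e3474606030e0e22184228a074a086362c64505840984241c4a208063a3022c2454404420a8a17103c389854a185fffc14086c70c8c0e081e184035a2820604181850509080d0c12102026fffe0b0c0e10141020203040408041f)
  (L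
  0x913dfffd6487ffffffffffd7f23b715970b2b86548aade541eb1455ed2b5c399890ee3fffa80f553ea55946ca99349b0f09de07b259c499c9a4d38e261a3978d00d5fba248e4aba997158fa75d49d8af8cde19215a411a88551cb21d039808ebc5cf81f8d423681492eeab9f4a402e3bdbb71e183a987c5d3ec289e3a583fffffff9ccc3bb27b60f49a79949e90d9b5ab61b9635967d651891c1439f84d2affff9a8b36aea478e48a3db4a502cda7fff99943194896d14a1a123a482c9a18f3984a32aa6950deba2d549f12c39bfffffff2f129b754ef1e5839d08be91751970930268068ceaa3574988eb68969096902b90b07d2081c563))
  (N 48 (L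
  0x8aaee669d98fffffffee993fffbcf2690c7fffdc4cfffffffffffffffffff58ca4dc65c97fffffffedfb5c33ffff68e35fffdb0bfffffffedeb9cb7b6e2593a6d45fffffffffffffffdaf57fff68fa1fffda2b7ffffffffffffffc075591bcd05bfffffffffff0fe20db35ac68b29fffd98afffffffef1c99f33ef358c37fffd90a7ffffffecb9e23c34eb58a2ac653ffffffffffecaa1eb9382e68eaec595849ffffffff04da15bb3a959434c14d8937ffffffffffffffbfb468d33fffd7a97ffffffee8c3fffb020592bab94bffffffffffffffd790ffff6923eb8856a8fffffffffffdb56ffff59638b3456f17ffffffffffffffaee36)
  (L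
  0x902dfffe1af7fffffff10abfffc4a858f25fffe10efffffffffffffffc2e6593330277fffffffffff059bfffc1ea694a3fffdfee7ffffffffffffffffff596befc73ffffffffffffffffffffff68baafac9eedfffffffffffffffc337589a8ef6df39fffffffef2a5e983da768dd9fffdd4d7ffffffffffddd07fff5))))
  Tr.N Tr.L

noncomputable def wtree : WT :=
  (by
  refine (?fq9016 : ((pk61r (fun r0 j => pk61f j fun i1 => (pk61f (pk61d (nat_lit 5) 
    (nat_lit 0x52728c2b49bdd28c1ac5bdcd5316941cca4a0a4398a31048310020) i1) fun u7 => (pk61f (pk61d (nat_lit 1) 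
    (nat_lit 0x7c6389e31c4) i1) fun t1_0 => (pk61c (Nat.div t1_0 (nat_lit 1)) (_root_.Cfsg.Agent.SporadicRecognition.CosetCert.WT.L (pk61d (nat_lit 3) 
    (nat_lit 0x3f40028a04a0532a8) u7) ((fun g1 : Nat → Nat => pk61l (fun i2 => (pk61d (nat_lit 3) 
    (nat_lit 0x28a28ad2cc11af3a820821a598235e77046bcea08208696608d79d28a28ad2c8a44012599120822800d129ba82d55c823545220145222cc9222e04dc880524c11572db5456) i2)) (g1 u7) (g1 (Nat.succ u7)) List.nil) fun j => (pk61d (nat_lit 8) 
    (nat_lit 0xb88e645d5a554e4b443f3c362f28231e1912100a070500) j))) fun _ => (_root_.Cfsg.Agent.SporadicRecognition.CosetCert.WT.N (pk61d (nat_lit 5) 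
    (nat_lit 0xb84e958c9ae7b0a84a8c710c81) u7) (r0 (Nat.sub i1 (pk61d (nat_lit 5) 
    (nat_lit 0x1661882208c4109862088231042) u7))) (r0 (Nat.sub i1 (nat_lit 1)))))))) (_root_.Cfsg.Agent.SporadicRecognition.CosetCert.WT.L (nat_lit 0) List.nil) (nat_lit 6) (nat_lit 42)) : WT)
    = ?xq9016 → (WT)) ?hq9016; (case hq9016 => (set_option maxRecDepth 1000000 in conv => lhs; reduce)); intro _; exact ?xq9016 : WT)

noncomputable def stree : _root_.Cfsg.Agent.SporadicRecognition.CosetCert.ST := (.N 1 (.L 0 [] []) (.N 2 (.L 2 [] []) (.L 3 [] [])))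

noncomputable def C : Cert where
  data := tree
  lm := 15
  rb := 124
  fb := 15
  mask := 32767
  B := 64
  k := 7
  N := 56
  inv := fun x => bif Nat.beq x 0 then 1 else bif Nat.beq x 1 then 0 else bif Nat.beq x 2 then 2 else bif Nat.beq x 3 then 4 else bif Nat.beq x 4 then 3 else bif Nat.beq x 5 then 6 else bif Nat.beq x 6 then 5 else x
  words := wtree
  subs := stree

def rels : List (List Nat) :=
  (by
  refine (?fq9017 : ((pk61l (fun i1 => ((fun g1 : Nat → Nat => pk61l (fun i2 => (pk61d (nat_lit 3) 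
    (nat_lit 0x11af3a820821a598235e74a28a2b4b3129b4d228a08045518541609b12aa8002dadb) i2)) (g1 i1) (g1 (Nat.succ i1)) List.nil) fun j => (pk61d (nat_lit 7) 
    (nat_lit 0x16d8a94268a0e1418180) j))) (nat_lit 0) (nat_lit 10) List.nil) : List (List Nat))
    = ?xq9017 → (List (List Nat))) ?hq9017; (case hq9017 => (set_option maxRecDepth 1000000 in set_option simprocs false in conv => lhs; reduce; dsimp only)); intro _; exact ?xq9017 : List (List Nat))

def subw : List (List Nat) := [[0], [2], [3]]


private theorem alC : Cfsg.Agent.SporadicRecognition.CertFast.al (Nat.succ C.lm) C.data = true := by decide +kernel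

theorem c0 : _root_.Cfsg.Agent.SporadicRecognition.CosetCert.Part C 0 56 1 := Cfsg.Agent.SporadicRecognition.CertFast.part_fast C alC 1 (by decide +kernel : Cfsg.Agent.SporadicRecognition.CertFast.runF C 10 1023 0x100000008000080000400000000000200400000000080000800004000000000000004000000000000000020040000000000b30041300000008020080000400000000080000413000000080000c000040000000000000041300000008020000000400000c30cc02004000000000002000000040000000000b3004000000008cd300c0000400000c3008b30000100000008332cc01000000002334c03008010000030c332cc0104c000000000003000010000030c00008010000000000008000080100000000330000104c0000000000030000100000000332ce1485002004020080200800004430080248c02008020048328c02008020044314c6300802008020048318c020080200443008631cc02008020048300913000000044314c0240c02008020040228c02008000044338c0200802000020040224c02008020044314c6300802000000040200873008020044338c630080200802005333cc73000000044314c630080000402008020000200400008000080200802004020080200802004130080208c0200c0200402000c30ccb3004130080208c0200c0200402008020ccb3004130080008cd300c02008020048328c02008020044314c0200802008020040224c73008020044314c630080000402008020cc02004130080208c0200c02008020941500805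 20 1048575 0x6a717532075a5273ea07664074f157001465af574f11746d5752607bd667956576a707c2b174f127c53674f1074e8175a5675af2766c1766c0772217623070015311e4715b0711e070d93711e1701d1700b370d9570500700947009370d9670d92711e270501711e3715b476c5676c557784677845701d07050370d947050570502700e37401470506700000 0 56 = 2)

theorem all : _root_.Cfsg.Agent.SporadicRecognition.CosetCert.Part C 0 56 1 := c0

theorem part : _root_.Cfsg.Agent.SporadicRecognition.CosetCert.Part C 0 C.N 1 := all

end I3

namespace I4

noncomputable def tree : Tr := beta% (fun (N : Nat → Tr → Tr → Tr) (L : Nat → Tr) => (N 32 (N 16 (L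
  0x8b02aa8551014882ba2544106da39148517fffc963a95f4ebc4e2bfff940b58494431ffffa45dfffe462c906128868593fffc763201b3e343e30844900958210371bfff9cd938b03d3474511ce68a83fffc6a29a5733ac45389e7944f58a023217fff98152f284d3ffff8e4c689822f2058216d32ca431207e6904d589022a105c4959129a030249270d0a6868a4c3c88707860d8624145030804386083c3470606430e8e23184428a4748882362c66505c40a04251c4c20846388022d2456404820b0a18103e389c5487040d0814087070d0c0f082018443587820604181854509880e0c12102026fffe0b0c0e10141020203040408041f)
  (L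
  0x8f02a743fffbdf57a68ab85e59afe8680affffddb9ffff521ffffffffffff382adfffdd19270ffffea1593eca8934802bfffdc38a4dc481c974d32e255a38429fffffffa3ce493a9673fffffff481a6dcc1ad7a09a3f9a855516b2110383a5fffffff9ecd40b67e4928effff48123fffffff9d583918795d36c279e37ea0d1b99b69c0c3a327860ee9a69948e83fffd9761ad634167a651291b5438e02c7ad8b5198b352ea078de8a31b48d82c1a57d418942f94866d0ea191238d02ba9d713174a30aa6550d8ba21548c82b4956527fff2d12987546f1d9838c02af8ffff96092e267d68c6aa29748b82ad8bfffffff2a90a67d1a81b963))
  (N 48 (L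
  0x7fcadebdb6dfffffffffffffffffff58348d56dbb87ffffffed8a7fffb6a667e43fffda0c7ffffffed3b7fffffff57cc0cc63ffffffffffed2b99f6393169502ca5fffffffffffffffffffb3ad69483fffd8cb7ffffffee9c9933ffff59402c45bffffffffffffffdcb8ffff69383fffd80afffffffed7bd872ffff59302bd57ffffffffffedfc3fffbaf269283fffd72a7ffffffebc9bfffb22b59202b753ffffffffffebb9db37ffff69182b691669fffffffee2c7fffb0a959102b14d6b2fffffffffffffffffff69083fffd5c97ffffffffffda977fff59003fffd588fffffffeeecffffffff58f83fffd5287ffffffffffd611ffff5)
  (L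
  0x9603fffffffffff7b41fffffffffff39583fffffffbce07c6af5d3fffffff47dd8ec7fffffffffffeef89e397fff67f54e77bffffffffffeeaaffffbc3367d50e077ffffffffffee397fffb9aa6))))
  Tr.N Tr.L

noncomputable def wtree : WT :=
  (by
  refine (?fq9018 : ((pk61r (fun r0 j => pk61f j fun i1 => (pk61f (pk61d (nat_lit 5) 
    (nat_lit 0x52728c2b49bdd28c1ac5bdcd5316941cca4a0a4398a31048310020) i1) fun u7 => (pk61f (pk61d (nat_lit 1) 
    (nat_lit 0x7c6389e31c4) i1) fun t1_0 => (pk61c (Nat.div t1_0 (nat_lit 1)) (_root_.Cfsg.Agent.SporadicRecognition.CosetCert.WT.L (pk61d (nat_lit 3) 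
    (nat_lit 0x3a00148a04a0532a8) u7) ((fun g1 : Nat → Nat => pk61l (fun i2 => (pk61d (nat_lit 3) 
    (nat_lit 0x225369c5220092cc8904114006894dbaf3a514515a59a275e750410434b34a82d55c823545220145222cc9222e04dc880524c11572db5456) i2)) (g1 u7) (g1 (Nat.succ u7)) List.nil) fun j => (pk61d (nat_lit 8) 
    (nat_lit 0x958d86837e77746d443f3c362f28231e1912100a070500) j))) fun _ => (_root_.Cfsg.Agent.SporadicRecognition.CosetCert.WT.N (pk61d (nat_lit 5) 
    (nat_lit 0xb84e958c9ae7b0a84a8c710c81) u7) (r0 (Nat.sub i1 (pk61d (nat_lit 5) 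
    (nat_lit 0x1661882208c4109862088231042) u7))) (r0 (Nat.sub i1 (nat_lit 1)))))))) (_root_.Cfsg.Agent.SporadicRecognition.CosetCert.WT.L (nat_lit 0) List.nil) (nat_lit 6) (nat_lit 42)) : WT)
    = ?xq9018 → (WT)) ?hq9018; (case hq9018 => (set_option maxRecDepth 1000000 in conv => lhs; reduce)); intro _; exact ?xq9018 : WT)

noncomputable def stree : _root_.Cfsg.Agent.SporadicRecognition.CosetCert.ST := (.N 1 (.L 0 [] []) (.N 2 (.L 2 [] []) (.L 3 [] [])))

noncomputable def C : Cert where
  data := tree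
  lm := 15
  rb := 124
  fb := 15
  mask := 32767
  B := 64
  k := 7
  N := 53
  inv := fun x => bif Nat.beq x 0 then 1 else bif Nat.beq x 1 then 0 else bif Nat.beq x 2 then 2 else bif Nat.beq x 3 then 4 else bif Nat.beq x 4 then 3 else bif Nat.beq x 5 then 6 else bif Nat.beq x 6 then 5 else x
  words := wtree
  subs := stree

def rels : List (List Nat) :=
  (by
  refine (?fq9019 : ((pk61l (fun i1 => ((fun g1 : Nat → Nat => pk61l (fun i2 => (pk61d (nat_lit 3) 
    (nat_lit 0x113af3a820821a59a275e74a28a2b4b3129b4d228a08045518541609b12aa8002dadb) i2)) (g1 i1) (g1 (Nat.succ i1)) List.nil) fun j => (pk61d (nat_lit 7) 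
    (nat_lit 0x16d8a94268a0e1418180) j))) (nat_lit 0) (nat_lit 10) List.nil) : List (List Nat))
    = ?xq9019 → (List (List Nat))) ?hq9019; (case hq9019 => (set_option maxRecDepth 1000000 in set_option simprocs false in conv => lhs; reduce; dsimp only)); intro _; exact ?xq9019 : List (List Nat))

def subw : List (List Nat) := [[0], [2], [3]]


private theorem alC : Cfsg.Agent.SporadicRecognition.CertFast.al (Nat.succ C.lm) C.data = true := by decide +kernel

theorem c0 : _root_.Cfsg.Agent.SporadicRecognition.CosetCert.Part C 0 53 1 := Cfsg.Agent.SporadicRecognition.CertFast.part_fast C alC 1 (by decide +kernel : Cfsg.Agent.SporadicRecognition.CertFast.runF C 9 511 0x80000000000002437180000010000000020100002000000004000180400000000800020100400000000000010980000020000800010000004000000400000008c04030080000000000006000080000c30100002000000000d30000002000030c0400008000000118000600008000002002cc02000000046d30000802000030c00b30084c000000000000000800000019800000100001860000000020000000660000800040211b4c060001000020000000000200800040299800040200a0d46020000002432980000020100802833180800000090c046300000000200a0c05230100802432980a26000100802025180804020090de6020100804020080926020100802432998c0402010000202011cc04000090de66301008000000d0e06730100802437198c04000080804020000802000100004020100002020100804020080004021180806000080804c319acc02000100846000180802020100866b30084c040211b4c06020100802835180804020090ca6020100804020080926730100802432998c0402008080402198080213010084602018080402128540405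 20 1048575 0x1f4701f37b1f17c27077ec07c272792f677ec2700156016570156701557014670145701367013570126701257011670106700f6700f57af267a71679f06751c175cf1751c073d7077ec6700a4700a3700947009370084700837007470073759e3751c3749a373d7470046700457003670035724d671cb6700147001370c5470815700000 0 53 = 2)

theorem all : _root_.Cfsg.Agent.SporadicRecognition.CosetCert.Part C 0 53 1 := c0

theorem part : _root_.Cfsg.Agent.SporadicRecognition.CosetCert.Part C 0 C.N 1 := all

end I4

namespace I5

noncomputable def tree : Tr := beta% (fun (N : Nat → Tr → Tr → Tr) (L : Nat → Tr) => (N 32 (N 16 (L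
  0x8d83fffffff94c82b22584104da2d1491824d38943a91f4e3c4f2bfff944b5840e421c987a3dd46b8452c8e612486838c3b307031fdb3db43d308248fc957f0c34187469c9938303c346e5118e69103fffc6629a57fffe4438a07948f5848a3017fff989530284e3ffff8d8c687862d2054217132d242f207c6900d58b8629105849551fffe2e249070c8a687064b3c86707460d0623144e3084438f8239346a606030e0e22183e28a0748807fffc62505840984241c4a2078638a862b27fff84820a8a1710403898548c040d0814086c70c8c0f08201844358c8206041818505fffe0e0c12102026fffe0b0c0e10141020203040408041f)
  (L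
  0x7d92aa455b0fffffffef5cdc57ac226868af2cddf97fff519ffffd4cd2a1c38f03fffffffa6cffffea0593cca8534860eeac7fffa45c471c954d2ee24da37f8ce5c1bf7a30e483a94714efa61d49082dbb9ad6a05a3f1a845510b20d039002d1b19b59e8d40367d4924ea95f48586c9abfff9d183898785d34c275e3850ec4a58141bcc39b27760ec9a65949403fffffff9ad6341679650c91b9438d03fffffff99cb352e9f7bfffa25b49282bc9bfff99143094856ffffffff39203fffffff97ca31aa6650dabffff48310b9956d217922d92967544f1d583898cb38d5f116492ea67c68caaa1d748190ac87fff95d02a10a97d1481b163))
  (N 48 (L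
  0x7e99fffdc8e7ffffffee8bffffffff57d1ade71cd87ffffffee7c1c3238e068e02ddb5b4dfffffffffffffffbb3159582d56db977ffffffffffdb35ffff6888cd3ada0d7ffffffffffffffffff59482cc69a567ffffffecf8ffffb62d68a07fffd90cfffffffecb9ded9ffff59383fffd86c7ffffffec6a3fffffff59302bf63ffffffffffec5a5853ffff69502be5fffffffffffecaabfffb06868e83fffd76afffffffed7b7fffffff58289fffd709fffffffffffffffaf6657e12b54d752fffffffeebc7fffb82f6890dfffd6497ffffffecead8f4ffff5801aae49691fffffffed4b16302de468109fffd568fffffffef0cbfffbe335)
  (L 0x8090f4c9e2ffffffffffffdf30bdea58b06ee7de79fffffffffffffffffff68211fffdd2efffffffffffddb77fff5)))) Tr.N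
  Tr.L

noncomputable def wtree : WT :=
  (by
  refine (?fq9020 : ((pk61r (fun r0 j => pk61f j fun i1 => (pk61f (pk61d (nat_lit 5) 
    (nat_lit 0x139460fa4e4e6c60f62d4e6b12b520e62a507218a31048310020) i1) fun u7 => (pk61f (pk61d (nat_lit 1) 
    (nat_lit 0x1f18e2789c4) i1) fun t1_0 => (pk61c (Nat.div t1_0 (nat_lit 1)) (_root_.Cfsg.Agent.SporadicRecognition.CosetCert.WT.L (pk61d (nat_lit 3) 
    (nat_lit 0x740028a04a2132a8) u7) ((fun g1 : Nat → Nat => pk61l (fun i2 => (pk61d (nat_lit 3) 
    (nat_lit 0xaf3a514515a599932bcea0820869666048a44012599120822800d129ba82d55c823545220145222cc9026e445c880524c11572db5456) i2)) (g1 u7) (g1 (Nat.succ u7)) List.nil) fun j => (pk61d (nat_lit 8) 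
    (nat_lit 0x90645d5a554e4b443f3c362f28231e1912100a070500) j))) fun _ => (_root_.Cfsg.Agent.SporadicRecognition.CosetCert.WT.N (pk61d (nat_lit 5) 
    (nat_lit 0x53e53a422c6b9653a12610c81) u7) (r0 (Nat.sub i1 (pk61d (nat_lit 5) 
    (nat_lit 0xb30c4110462084a3104231042) u7))) (r0 (Nat.sub i1 (nat_lit 1)))))))) (_root_.Cfsg.Agent.SporadicRecognition.CosetCert.WT.L (nat_lit 0) List.nil) (nat_lit 6) (nat_lit 40)) : WT)
    = ?xq9020 → (WT)) ?hq9020; (case hq9020 => (set_option maxRecDepth 1000000 in conv => lhs; reduce)); intro _; exact ?xq9020 : WT)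

noncomputable def stree : _root_.Cfsg.Agent.SporadicRecognition.CosetCert.ST := (.N 1 (.L 0 [] []) (.N 2 (.L 2 [] []) (.L 3 [] [])))

noncomputable def C : Cert where
  data := tree
  lm := 15
  rb := 124
  fb := 15
  mask := 32767
  B := 64
  k := 7
  N := 51
  inv := fun x => bif Nat.beq x 0 then 1 else bif Nat.beq x 1 then 0 else bif Nat.beq x 2 then 2 else bif Nat.beq x 3 then 4 else bif Nat.beq x 4 then 3 else bif Nat.beq x 5 then 6 else bif Nat.beq x 6 then 5 else x
  words := wtree
  subs := stree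

def rels : List (List Nat) :=
  (by
  refine (?fq9021 : ((pk61l (fun i1 => ((fun g1 : Nat → Nat => pk61l (fun i2 => (pk61d (nat_lit 3) 
    (nat_lit 0x302579d410410d2ccc995e74a28a2b4b3129b4d228a08045518541609b12aa8002dadb) i2)) (g1 i1) (g1 (Nat.succ i1)) List.nil) fun j => (pk61d (nat_lit 7) 
    (nat_lit 0x1758a94268a0e1418180) j))) (nat_lit 0) (nat_lit 10) List.nil) : List (List Nat))
    = ?xq9021 → (List (List Nat))) ?hq9021; (case hq9021 => (set_option maxRecDepth 1000000 in set_option simprocs false in conv => lhs; reduce; dsimp only)); intro _; exact ?xq9021 : List (List Nat))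

def subw : List (List Nat) := [[0], [2], [3]]


private theorem alC : Cfsg.Agent.SporadicRecognition.CertFast.al (Nat.succ C.lm) C.data = true := by decide +kernel

theorem c0 : _root_.Cfsg.Agent.SporadicRecognition.CosetCert.Part C 0 51 1 := Cfsg.Agent.SporadicRecognition.CertFast.part_fast C alC 1 (by decide +kernel : Cfsg.Agent.SporadicRecognition.CertFast.runF C 9 511 0x20080000000100802130000000000000002000000004000000400000100000010980000230100804010000000005980426000000004000100400000000000010980000020000c00010000004330000002000000800000080000001180800010000000230000c00010000186000000002000000000b30084c00001180006000080000c31980002130000046020180002000030c00b30084c000011b4c060201000020001008000000800040291808000200a0d4602010080243299cc04020100802833980804020090c047331808000200a0c05130100802432980a06000000802025180800000090dc600010080002008080000000000243299cc00020100802020118c04020090dc67301008000200ccde663000000243299cc04020080804020000802130100804020100802020100804020084c04021180806000080800c319acc02000100846000180802020100866b30084c040011b4c06020100802835180804020090ca602010000402008092663010000243299cc0402008080402198080213010004602018080402128540405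 20 1048575 0x21f271f2672232732e27001460301702d671612702b671f207017670175702927024072235732e171615721f0721f5732e0715b170121715b0732e6700c4700c3714b4714b3701827010070094700937223671616721f670101700d5714b0716f2732e5700d2714b17161070a00715b4701247845171f2170a0270a05700000 0 51 = 2)

theorem all : _root_.Cfsg.Agent.SporadicRecognition.CosetCert.Part C 0 51 1 := c0

theorem part : _root_.Cfsg.Agent.SporadicRecognition.CosetCert.Part C 0 C.N 1 := all

end I5

namespace I6

noncomputable def tree : Tr := (.N 16 (.L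
  0xc01ffffff9689f1a30ffffff4acbfff8a7ffffff90a94bfff5a6a807fffffffff86bffffff6a89fff726ffffff78cfff7c95a486a6fffffffff76d70a88e6be1fff665ffffff84efff92f5bc15e5fffffffff8ef6486ec6ba1fff564ffffff5c87ad7ed5b81524fff9d19905a9fff62a6ae58cf82e3c63634854c64443aa474d6cc3233a7466405fff4b6168b60a2e42824a74e43e63b415895482422c53044275054b021a21413873461e22032235b210c11832a52641c31221026fff1630e20a1081061041021f)
  (.L 0xc21ffffffa109a8fffffffff3))

noncomputable def wtree : WT :=
  (by
  refine (?fq9022 : ((pk61r (fun r0 j => pk61f j fun i1 => (pk61f (pk61d (nat_lit 4) 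
    (nat_lit 0xcba9dc8ba769875436524310210) i1) fun u7 => (pk61f (pk61d (nat_lit 1) 
    (nat_lit 0x7931c98) i1) fun t1_0 => (pk61c (Nat.div t1_0 (nat_lit 1)) (_root_.Cfsg.Agent.SporadicRecognition.CosetCert.WT.L (pk61d (nat_lit 3) 
    (nat_lit 0x3a04a2132a8) u7) ((fun g1 : Nat → Nat => pk61l (fun i2 => (pk61d (nat_lit 3) 
    (nat_lit 0x15e750410434b31313af3a514515a59a2755c823428a44a29102cc9026e445c880524c11572db5456) i2)) (g1 u7) (g1 (Nat.succ u7)) List.nil) fun j => (pk61d (nat_lit 7) 
    (nat_lit 0x1b5fbc6cbd4233c64910141c280) j))) fun _ => (_root_.Cfsg.Agent.SporadicRecognition.CosetCert.WT.N (pk61d (nat_lit 4) 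
    (nat_lit 0x7acdb89356412) u7) (r0 (Nat.sub i1 (pk61d (nat_lit 4) 
    (nat_lit 0xe842242842242) u7))) (r0 (Nat.sub i1 (nat_lit 1)))))))) (_root_.Cfsg.Agent.SporadicRecognition.CosetCert.WT.L (nat_lit 0) List.nil) (nat_lit 5) (nat_lit 26)) : WT)
    = ?xq9022 → (WT)) ?hq9022; (case hq9022 => (set_option maxRecDepth 1000000 in conv => lhs; reduce)); intro _; exact ?xq9022 : WT)

noncomputable def stree : _root_.Cfsg.Agent.SporadicRecognition.CosetCert.ST := (.N 1 (.L 0 [] []) (.N 2 (.L 2 [] []) (.L 3 [] [])))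

noncomputable def C : Cert where
  data := tree
  lm := 15
  rb := 100
  fb := 12
  mask := 4095
  B := 32
  k := 7
  N := 17
  inv := fun x => bif Nat.beq x 0 then 1 else bif Nat.beq x 1 then 0 else bif Nat.beq x 2 then 2 else bif Nat.beq x 3 then 4 else bif Nat.beq x 4 then 3 else bif Nat.beq x 5 then 6 else bif Nat.beq x 6 then 5 else x
  words := wtree
  subs := stree

def rels : List (List Nat) :=
  (by
  refine (?fq9023 : ((pk61l (fun i1 => ((fun g1 : Nat → Nat => pk61l (fun i2 => (pk61d (nat_lit 3) 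
    (nat_lit 0x11302bcea08208696626275e74a28a2b4b3129b4d228a08045518541609b12aa8002dadb) i2)) (g1 i1) (g1 (Nat.succ i1)) List.nil) fun j => (pk61d (nat_lit 7) 
    (nat_lit 0x17d8a94268a0e1418180) j))) (nat_lit 0) (nat_lit 10) List.nil) : List (List Nat))
    = ?xq9023 → (List (List Nat))) ?hq9023; (case hq9023 => (set_option maxRecDepth 1000000 in set_option simprocs false in conv => lhs; reduce; dsimp only)); intro _; exact ?xq9023 : List (List Nat))

def subw : List (List Nat) := [[0], [2], [3]]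


private theorem alC : Cfsg.Agent.SporadicRecognition.CertFast.al (Nat.succ C.lm) C.data = true := by decide +kernel

theorem c0 : _root_.Cfsg.Agent.SporadicRecognition.CosetCert.Part C 0 17 1 := Cfsg.Agent.SporadicRecognition.CertFast.part_fast C alC 1 (by decide +kernel : Cfsg.Agent.SporadicRecognition.CertFast.runF C 8 255 0x201000000000001435300000001000002020001000000020000000100000200020100000023020300010000c300b301000000230203000100000233b30100020223000302020201839302020201435302000202020102a36302020143537302020102020233020113020223020302020225150205 17 131071 0x747039bea49dd60eeb27006b0119c08ae036701abcb59dd6ce0147009b9951c82ae0000 0 17 = 2)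

theorem all : _root_.Cfsg.Agent.SporadicRecognition.CosetCert.Part C 0 17 1 := c0

theorem part : _root_.Cfsg.Agent.SporadicRecognition.CosetCert.Part C 0 C.N 1 := all

end I6

end Cfsg.Agent.Classification.RTwo.USixCert
end

-- part: Classification/RTwo/USixFrame
section
/-!
# Local structure for the identification of `PSU₃(3)`

`Frame t e w x`: the centralizer of `t` is `GU₂(3)` with standard elements `e = diag(i, 1)`, `w` = coordinate swap,
`x` of order 3. If `t` is conjugate to another involution of its centralizer, there is `d` of order 3 acting on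
`A = ⟨e, f⟩`, `f = w e w`, with `e ^ d = e⁻¹ f`, `f ^ d = e⁻¹`, `w d w = d⁻¹`.
-/

set_option autoImplicit false

namespace Cfsg.Agent.Classification.RTwo.USixFrame

open Cfsg.Agent.SporadicRecognition.CosetCert

variable {G : Type*} [Group G]

/-- Letters `0 = e`, `1 = e⁻¹`, `2 = w`, `3 = x`, `4 = x⁻¹`, `5 = d`, `6 = d⁻¹`, other letters are `1`. -/
def lt (e w x d : G) : ℕ → G
  | 0 => e
  | 1 => e⁻¹
  | 2 => w
  | 3 => x
  | 4 => x⁻¹
  | 5 => d
  | 6 => d⁻¹
  | _ => 1

/-- words for the seven involutions -/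
def invWords : List (List ℕ) :=
  [[2], [0, 0], [0, 2, 1], [1, 2, 0], [3, 2, 4], [4, 0, 0, 3], [0, 0, 3, 2, 4]]

/-- words for the four subgroups of order three -/
def threeWords : List (List ℕ) := [[3], [1, 3, 0], [0, 3, 1], [1, 1, 3, 0, 0]]

/-- relators of `GU₂(3)` -/
def guRels : List (List ℕ) :=
  [[3, 3, 3], [0, 0, 0, 0], [4, 0, 3, 3, 2, 0], [0, 2, 0, 2, 1, 2, 1, 2], [2, 3, 2, 3, 3, 2, 1, 1]]

/-- `C(t) = GU₂(3)` with standard elements. -/
structure Frame (t e w x : G) : Prop where
  hw : w * w = 1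
  rels : ∀ r ∈ guRels, ev (lt e w x 1) r = 1
  ht : t = e ^ 2 * (w * e * w) ^ 2
  t_ne : t ≠ 1
  e_mem : e ∈ Subgroup.centralizer ({t} : Set G)
  w_mem : w ∈ Subgroup.centralizer ({t} : Set G)
  x_mem : x ∈ Subgroup.centralizer ({t} : Set G)
  indep : ∀ k l : ℕ, e ^ k * (w * e * w) ^ l = 1 → 4 ∣ k ∧ 4 ∣ l
  diag : ∀ y ∈ Subgroup.centralizer ({t} : Set G), Commute y ((w * e * w) ^ 2) →
    ∃ k < 4, ∃ l < 4, y = e ^ k * (w * e * w) ^ l
  invol : ∀ s ∈ Subgroup.centralizer ({t} : Set G), s * s = 1 → s ≠ 1 → s ≠ t →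
    ∃ c ∈ Subgroup.centralizer ({t} : Set G), c⁻¹ * s * c = (w * e * w) ^ 2
  prime : ∀ y ∈ Subgroup.centralizer ({t} : Set G), y ≠ 1 → (y * y = 1 ∨ y * y * y = 1) →
    (∃ r ∈ invWords, y = ev (lt e w x 1) r) ∨
      (∃ r ∈ threeWords, y = ev (lt e w x 1) r ∨ y = (ev (lt e w x 1) r)⁻¹)

section basic

variable {t e w x : G}

theorem Frame.e4 (F : Frame t e w x) : e ^ 4 = 1 := by
  have h := F.rels [0, 0, 0, 0] (by simp [guRels])
  simp only [ev, List.map_cons, List.map_nil, List.prod_cons, List.prod_nil, lt, mul_one] at h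
  rw [pow_succ, pow_succ, pow_succ, pow_one, mul_assoc, mul_assoc]
  exact h

theorem Frame.ef (F : Frame t e w x) : e * (w * e * w) = (w * e * w) * e := by
  have h := F.rels [0, 2, 0, 2, 1, 2, 1, 2] (by simp [guRels])
  simp only [ev, List.map_cons, List.map_nil, List.prod_cons, List.prod_nil, lt, mul_one] at h
  have hwi : w⁻¹ = w := inv_eq_of_mul_eq_one_right F.hw
  have h1 : (e * (w * e * w)) * ((w * e * w) * e)⁻¹ = 1 := by
    rw [← h]
    simp only [mul_inv_rev, hwi, mul_assoc]
    -- e w e w e⁻¹ w e⁻¹ w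
  exact mul_inv_eq_one.mp h1

theorem Frame.wi (F : Frame t e w x) : w⁻¹ = w := inv_eq_of_mul_eq_one_right F.hw

theorem Frame.fw (F : Frame t e w x) (n : ℕ) : w * e ^ n * w = (w * e * w) ^ n := by
  have h := F.wi
  calc w * e ^ n * w = w * e ^ n * w⁻¹ := by rw [h]
    _ = (w * e * w⁻¹) ^ n := by rw [conj_pow]
    _ = _ := by rw [h]

theorem Frame.f4 (F : Frame t e w x) : (w * e * w) ^ 4 = 1 := by
  rw [← F.fw, F.e4, mul_one, F.hw]

theorem Frame.wf (F : Frame t e w x) (n : ℕ) : w * (w * e * w) ^ n * w = e ^ n := by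
  rw [← F.fw]
  calc w * (w * e ^ n * w) * w = (w * w) * e ^ n * (w * w) := by group
    _ = e ^ n := by rw [F.hw, one_mul, mul_one]

theorem pow_mul_pow {e f : G} (h : e * f = f * e) (a b c d : ℕ) :
    (e ^ a * f ^ b) * (e ^ c * f ^ d) = e ^ (a + c) * f ^ (b + d) := by
  have h1 : Commute e f := h
  rw [pow_add, pow_add]
  calc e ^ a * f ^ b * (e ^ c * f ^ d) = e ^ a * (f ^ b * e ^ c) * f ^ d := by group
    _ = e ^ a * (e ^ c * f ^ b) * f ^ d := by rw [((h1.pow_pow c b).eq)]
    _ = _ := by group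

theorem pow_pow_pow {e f : G} (h : e * f = f * e) (a b n : ℕ) :
    (e ^ a * f ^ b) ^ n = e ^ (a * n) * f ^ (b * n) := by
  have h1 : Commute e f := h
  rw [(h1.pow_pow a b).mul_pow, ← pow_mul, ← pow_mul]

theorem Frame.eq_iff (F : Frame t e w x) {a b c d : ℕ}
    (h : e ^ a * (w * e * w) ^ b = e ^ c * (w * e * w) ^ d) : a % 4 = c % 4 ∧ b % 4 = d % 4 := by
  have h1 : e ^ (a + 3 * c) * (w * e * w) ^ (b + 3 * d) = 1 := by
    rw [← pow_mul_pow F.ef, h, pow_mul_pow F.ef]
    have e1 : c + 3 * c = 4 * c := by ring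
    have e2 : d + 3 * d = 4 * d := by ring
    rw [e1, e2, pow_mul, pow_mul, F.e4, F.f4, one_pow, one_pow, one_mul]
  obtain ⟨h2, h3⟩ := F.indep _ _ h1
  omega

end basic

/-- conjugation `x ↦ y⁻¹ x y` -/
def cj (y : G) : G →* G := (MulAut.conj y⁻¹).toMonoidHom

theorem cj_apply (y x : G) : cj y x = y⁻¹ * x * y := by simp only [cj, _root_.map_inv, _root_.MulEquiv.toMonoidHom_eq_coe, _root_.MonoidHom.coe_coe, _root_.MulAut.inv_apply, _root_.MulAut.conj_symm_apply]

theorem cj_cj (y z x : G) : cj z (cj y x) = cj (y * z) x := by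
  simp only [cj_apply]; group

theorem cj_one (x : G) : cj 1 x = x := by simp [cj_apply]

theorem cj_eq_self_iff {y x : G} : cj y x = x ↔ Commute y x := by
  rw [cj_apply]
  constructor
  · intro h
    change y * x = x * y
    calc y * x = y * (y⁻¹ * x * y) := by rw [h]
      _ = x * y := by group
  · intro h
    have : y⁻¹ * x * y = y⁻¹ * (x * y) := by group
    rw [this, ← h.eq]; group

theorem mem_centralizer_iff_cj {y x : G} : y ∈ Subgroup.centralizer ({x} : Set G) ↔ cj y x = x := by
  rw [cj_eq_self_iff, Subgroup.mem_centralizer_singleton_iff]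
  rfl

/-- The action of the wanted element. -/
structure Act (e w d : G) : Prop where
  cube : d ^ 3 = 1
  he : cj d e = e ^ 3 * (w * e * w)
  hf : cj d (w * e * w) = e ^ 3

section lemmaB

variable {t e w x d : G}

theorem Frame.cjw (F : Frame t e w x) (y : G) : cj w y = w * y * w := by
  rw [cj_apply, F.wi]

theorem Frame.cjw_e (F : Frame t e w x) (n : ℕ) : cj w (e ^ n) = (w * e * w) ^ n := by
  rw [F.cjw, F.fw]

theorem Frame.cjw_f (F : Frame t e w x) (n : ℕ) : cj w ((w * e * w) ^ n) = e ^ n := by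
  rw [F.cjw, F.wf]

theorem Frame.cjw_t (F : Frame t e w x) : cj w t = t := mem_centralizer_iff_cj.1 F.w_mem

theorem Act.e2 (F : Frame t e w x) (A : Act e w d) : cj d (e ^ 2) = t := by
  rw [map_pow, A.he, F.ht]
  have h := pow_pow_pow (a := 3) (b := 1) (n := 2) F.ef
  rw [pow_one] at h
  rw [h]
  have e1 : 3 * 2 = 4 + 2 := by norm_num
  rw [e1, pow_add, F.e4, one_mul]

theorem Act.f2 (F : Frame t e w x) (A : Act e w d) : cj d ((w * e * w) ^ 2) = e ^ 2 := by
  rw [map_pow, A.hf, ← pow_mul]
  have e1 : 3 * 2 = 4 + 2 := by norm_num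
  rw [e1, pow_add, F.e4, one_mul]

theorem Act.ct (F : Frame t e w x) (A : Act e w d) : cj d t = (w * e * w) ^ 2 := by
  have h1 : cj d t = cj d (e ^ 2) * cj d ((w * e * w) ^ 2) := by rw [← map_mul, ← F.ht]
  rw [h1, A.e2 F, A.f2 F, F.ht]
  have h := pow_mul_pow (a := 2) (b := 2) (c := 2) (d := 0) F.ef
  rw [pow_zero, mul_one] at h
  rw [h, show 2 + 2 = 4 from rfl, F.e4, one_mul]

/-- Adjust an element with the right action so that it is inverted by `w`. -/
theorem Act.adjust (F : Frame t e w x) (A : Act e w d) : ∃ d', Act e w d' ∧ w * d' * w * d' = 1 := by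
  set f := w * e * w with hf
  obtain ⟨p, hp, q, hq, hk⟩ := F.diag (w * d * w * d)
    (by
      rw [mem_centralizer_iff_cj, ← cj_cj, ← cj_cj, ← cj_cj, F.cjw_t, A.ct F, ← hf, F.cjw_f, A.e2 F])
    (by
      rw [← cj_eq_self_iff, ← cj_cj, ← cj_cj, ← cj_cj, F.cjw_f, A.e2 F, F.cjw_t, A.ct F])
  rw [← hf] at hk
  have hef : e * f = f * e := F.ef
  -- the relation for `k`
  have h1 : cj d (w * (w * d * w * d) * w) = w * d * w * d := by
    rw [cj_apply]
    calc d⁻¹ * (w * (w * d * w * d) * w) * d = d⁻¹ * (w * w) * d * (w * d * w * d) := by group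
      _ = w * d * w * d := by rw [F.hw]; group
  have h2 : w * (e ^ p * f ^ q) * w = e ^ q * f ^ p := by
    have h3 : w * (e ^ p * f ^ q) * w = cj w (e ^ p) * cj w (f ^ q) := by rw [← map_mul, F.cjw]
    rw [h3, F.cjw_e, F.cjw_f, ← hf]
    have hc : Commute e f := hef
    exact ((hc.pow_pow q p).eq).symm
  have h3 : e ^ (3 * q + 3 * p) * f ^ q = e ^ p * f ^ q := by
    rw [hk, h2, map_mul, map_pow, map_pow, A.he, A.hf, ← hf] at h1
    rw [← h1]
    have h4 := pow_pow_pow (a := 3) (b := 1) (n := q) hef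
    rw [pow_one, one_mul] at h4
    have h5 := pow_mul_pow (a := 3 * q) (b := q) (c := 3 * p) (d := 0) hef
    rw [pow_zero, mul_one, add_zero] at h5
    rw [h4, ← pow_mul, h5]
  have h4 := (F.eq_iff h3).1
  have he4p : ∀ n : ℕ, e ^ (4 * n) = 1 := fun n => by rw [pow_mul, F.e4, one_pow]
  have hf4 : f ^ 4 = 1 := F.f4
  have hf4p : ∀ n : ℕ, f ^ (4 * n) = 1 := fun n => by rw [pow_mul, hf4, one_pow]
  have hpp : e ^ (3 * p) * e ^ p = 1 := by rw [← pow_add, show 3 * p + p = 4 * p by ring, he4p]
  have hpi : e ^ p = (e ^ (3 * p))⁻¹ := eq_inv_of_mul_eq_one_right hpp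
  refine ⟨e ^ p * d * e ^ (3 * p), ⟨?_, ?_, ?_⟩, ?_⟩
  · calc (e ^ p * d * e ^ (3 * p)) ^ 3
        = e ^ p * d * (e ^ (3 * p) * e ^ p) * d * (e ^ (3 * p) * e ^ p) * d * e ^ (3 * p) := by
          rw [pow_succ, pow_succ, pow_one]; group
      _ = e ^ p * d ^ 3 * e ^ (3 * p) := by rw [hpp]; rw [pow_succ d 2, pow_succ d 1, pow_one]; group
      _ = 1 := by rw [A.cube, mul_one, hpi, inv_mul_cancel]
  · rw [cj_apply]
    have h5 : (e ^ p * d * e ^ (3 * p))⁻¹ * e * (e ^ p * d * e ^ (3 * p)) =
        (e ^ (3 * p))⁻¹ * (cj d ((e ^ p)⁻¹ * e * e ^ p)) * e ^ (3 * p) := by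
      rw [cj_apply]; group
    have h6 : (e ^ p)⁻¹ * e * e ^ p = e := by
      have : Commute (e ^ p) e := (Commute.refl e).pow_left p
      rw [mul_assoc, ← this.eq]; group
    rw [h5, h6, A.he, ← hf]
    have h7 : Commute (e ^ (3 * p)) (e ^ 3 * f) := by
      have c1 : Commute e (e ^ 3 * f) := ((Commute.refl e).pow_right 3).mul_right hef
      exact c1.pow_left _
    rw [mul_assoc, ← h7.eq]; group
  · rw [cj_apply]
    have h5 : (e ^ p * d * e ^ (3 * p))⁻¹ * f * (e ^ p * d * e ^ (3 * p)) =
        (e ^ (3 * p))⁻¹ * (cj d ((e ^ p)⁻¹ * f * e ^ p)) * e ^ (3 * p) := by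
      rw [cj_apply]; group
    have h6 : (e ^ p)⁻¹ * f * e ^ p = f := by
      have c1 : Commute e f := hef
      have : Commute (e ^ p) f := c1.pow_left p
      rw [mul_assoc, ← this.eq]; group
    rw [h5, h6, A.hf]
    have h7 : Commute (e ^ (3 * p)) (e ^ 3) := (Commute.refl e).pow_pow _ _
    rw [mul_assoc, ← h7.eq]; group
  · have hwd : w * d * w = (w * d * w * d) * d⁻¹ := by group
    calc w * (e ^ p * d * e ^ (3 * p)) * w * (e ^ p * d * e ^ (3 * p))
        = (w * e ^ p * w) * (w⁻¹ * w⁻¹) * (w * w) * (w⁻¹ * d * w⁻¹ ) * (w * e ^ (3 * p) * w) * e ^ p * d * e ^ (3 * p) := by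
          group
      _ = (w * e ^ p * w) * (w * d * w) * (w * e ^ (3 * p) * w) * e ^ p * d * e ^ (3 * p) := by
          rw [F.wi, F.hw]; group
      _ = f ^ p * ((w * d * w * d) * d⁻¹) * f ^ (3 * p) * e ^ p * d * e ^ (3 * p) := by
          rw [← hwd, F.fw, F.fw]
      _ = f ^ p * (e ^ p * f ^ q) * (d⁻¹ * (f ^ (3 * p) * e ^ p) * d) * e ^ (3 * p) := by
          rw [hk]; group
      _ = f ^ p * (e ^ p * f ^ q) * ((e ^ 3) ^ (3 * p) * (e ^ 3 * f) ^ p) * e ^ (3 * p) := by
          rw [← cj_apply, map_mul, map_pow, map_pow, A.he, A.hf]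
      _ = 1 := by
        have c : Commute e f := hef
        have e1 : (e ^ 3 * f) ^ p = e ^ (3 * p) * f ^ p := by
          have h4 := pow_pow_pow (a := 3) (b := 1) (n := p) hef
          rw [pow_one, one_mul] at h4
          exact h4
        rw [e1, ← pow_mul]
        have e2 : f ^ p * (e ^ p * f ^ q) = e ^ p * f ^ (p + q) := by
          rw [← mul_assoc, ← (c.pow_pow p p).eq, mul_assoc, ← pow_add]
        have e3 : e ^ (3 * (3 * p)) * (e ^ (3 * p) * f ^ p) = e ^ (12 * p) * f ^ p := by
          rw [← mul_assoc, ← pow_add]; congr 2; ring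
        rw [e2, e3]
        have e4 : e ^ p * f ^ (p + q) * (e ^ (12 * p) * f ^ p) * e ^ (3 * p) =
            e ^ (16 * p) * f ^ (2 * p + q) := by
          rw [pow_mul_pow hef]
          have h5 := pow_mul_pow (a := p + 12 * p) (b := p + q + p) (c := 3 * p) (d := 0) hef
          rw [pow_zero, mul_one] at h5
          rw [h5]
          congr 2 <;> ring
        rw [e4]
        have e5 : 4 ∣ 2 * p + q := by (clear * - h4; solve | lia | omega)
        obtain ⟨m, hm⟩ := e5
        rw [hm, hf4p, show 16 * p = 4 * (4 * p) by ring, he4p, one_mul]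

end lemmaB

section lemmaA

variable {t e w x : G}

theorem Frame.tt (F : Frame t e w x) : t * t = 1 := by
  rw [F.ht, pow_mul_pow F.ef, show 2 + 2 = 4 from rfl, F.e4, F.f4, one_mul]

theorem Frame.f_mem (F : Frame t e w x) : w * e * w ∈ Subgroup.centralizer ({t} : Set G) :=
  Subgroup.mul_mem _ (Subgroup.mul_mem _ F.w_mem F.e_mem) F.w_mem

theorem numeric {a b c δ : ℕ} (ha : a < 4) (hb : b < 4) (hc : c < 4) (hδ : δ < 4)
    (h1 : (2 * a) % 4 = 2) (h2 : (2 * b) % 4 = 2) (h3 : (2 * c) % 4 = 2) (h4 : (2 * δ) % 4 = 0)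
    (h5 : (a * (a * a + c * b) + c * (b * a + δ * b)) % 4 = 1)
    (h6 : (b * (a * a + c * b) + δ * (b * a + δ * b)) % 4 = 0)
    (h7 : (c * c + a * δ) % 4 = 1) (h8 : (δ * c + b * δ) % 4 = 0) :
    (a = 3 ∧ b = 3 ∧ c = 1 ∧ δ = 0) ∨ (a = 3 ∧ b = 1 ∧ c = 3 ∧ δ = 0) := by
  interval_cases a <;> interval_cases b <;> interval_cases c <;> interval_cases δ <;> simp_all

theorem Frame.exists_act (F : Frame t e w x) (F2 : Frame t (e ^ 2 * (w * e * w)) (t * w) x)
    {s : G} (hs : s ∈ Subgroup.centralizer ({t} : Set G)) (hst : s ≠ t) (g : G)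
    (hg : g⁻¹ * t * g = s) :
    (∃ d, Act e w d ∧ w * d * w * d = 1) ∨
      (∃ d, Act (e ^ 2 * (w * e * w)) (t * w) d ∧ (t * w) * d * (t * w) * d = 1) := by
  have hef : e * (w * e * w) = (w * e * w) * e := F.ef
  have ht := F.ht
  have hf4 : (w * e * w) ^ 4 = 1 := F.f4
  set f := w * e * w with hf
  have cf : Commute e f := hef
  have hss : s * s = 1 := by
    rw [← hg]
    calc g⁻¹ * t * g * (g⁻¹ * t * g) = g⁻¹ * (t * t) * g := by group
      _ = 1 := by rw [F.tt]; group
  have hs1 : s ≠ 1 := by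
    intro h
    apply F.t_ne
    rw [h] at hg
    calc t = g * (g⁻¹ * t * g) * g⁻¹ := by group
      _ = 1 := by rw [hg]; group
  obtain ⟨c1, hc1, hc1'⟩ := F.invol s hs hss hs1 hst
  rw [← hf] at hc1'
  -- `g1⁻¹ t g1 = f²`
  set! g1 := g * c1 with hg1
  have h1 : g1⁻¹ * t * g1 = f ^ 2 := by
    rw [← hc1', ← hg, hg1]; group
  have hft : Commute (f ^ 2) t := by
    have := F.f_mem
    rw [← hf, Subgroup.mem_centralizer_singleton_iff] at this
    exact (show Commute f t from this).pow_left 2
  have he2 : e ^ 2 ≠ 1 := by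
    intro h
    have := F.indep 2 0 (by rw [h, pow_zero, one_mul])
    omega
  have hmem : g1 * t * g1⁻¹ ∈ Subgroup.centralizer ({t} : Set G) := by
    rw [Subgroup.mem_centralizer_singleton_iff]
    have h2 : t = g1 * f ^ 2 * g1⁻¹ := by rw [← h1]; group
    calc g1 * t * g1⁻¹ * t = g1 * t * g1⁻¹ * (g1 * f ^ 2 * g1⁻¹) := by rw [← h2]
      _ = g1 * (t * f ^ 2) * g1⁻¹ := by group
      _ = g1 * (f ^ 2 * t) * g1⁻¹ := by rw [hft.eq]
      _ = (g1 * f ^ 2 * g1⁻¹) * (g1 * t * g1⁻¹) := by group
      _ = t * (g1 * t * g1⁻¹) := by rw [← h2]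
  have hne : g1 * t * g1⁻¹ ≠ t := by
    intro h
    have h2 : g1⁻¹ * t * g1 = t := by
      calc g1⁻¹ * t * g1 = g1⁻¹ * (g1 * t * g1⁻¹) * g1 := by rw [h]
        _ = t := by group
    rw [h1, ht] at h2
    apply he2
    have h3 : e ^ 2 * f ^ 2 = 1 * f ^ 2 := by rw [one_mul]; exact h2.symm
    exact mul_right_cancel h3
  have hne1 : g1 * t * g1⁻¹ ≠ 1 := by
    intro h
    apply F.t_ne
    calc t = g1⁻¹ * (g1 * t * g1⁻¹) * g1 := by group
      _ = 1 := by rw [h]; group
  obtain ⟨c2, hc2, hc2'⟩ := F.invol _ hmem (by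
    calc g1 * t * g1⁻¹ * (g1 * t * g1⁻¹) = g1 * (t * t) * g1⁻¹ := by group
      _ = 1 := by rw [F.tt]; group) hne1 hne
  rw [← hf] at hc2'
  set! g2 := c2⁻¹ * g1 with hg2
  have hc2t : c2 * t = t * c2 := by rwa [Subgroup.mem_centralizer_singleton_iff] at hc2
  have k1 : cj g2 t = f ^ 2 := by
    rw [cj_apply, hg2, ← h1]
    calc (c2⁻¹ * g1)⁻¹ * t * (c2⁻¹ * g1) = g1⁻¹ * (c2 * t) * c2⁻¹ * g1 := by group
      _ = g1⁻¹ * t * g1 := by rw [hc2t]; group
  have k2 : cj g2 (f ^ 2) = t := by
    rw [cj_apply, hg2]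
    calc (c2⁻¹ * g1)⁻¹ * f ^ 2 * (c2⁻¹ * g1) = g1⁻¹ * (c2 * f ^ 2 * c2⁻¹) * g1 := by group
      _ = g1⁻¹ * (c2 * (c2⁻¹ * (g1 * t * g1⁻¹) * c2) * c2⁻¹) * g1 := by rw [hc2']
      _ = t := by group
  have hteq : t * f ^ 2 = e ^ 2 := by
    rw [ht, mul_assoc, ← pow_add, show 2 + 2 = 4 from rfl, hf4, mul_one]
  have k3 : cj g2 (e ^ 2) = e ^ 2 := by
    rw [← hteq, map_mul, k1, k2, hft.eq]
  set! d0 := w * g2 with hd0
  have m1 : cj d0 t = f ^ 2 := by rw [hd0, ← cj_cj, F.cjw_t, k1]
  have m2 : cj d0 (f ^ 2) = e ^ 2 := by rw [hd0, ← cj_cj, F.cjw_f, k3]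
  have m3 : cj d0 (e ^ 2) = t := by rw [hd0, ← cj_cj, F.cjw_e, k2]
  have hd3 : ∀ y, cj (d0 ^ 3) y = cj d0 (cj d0 (cj d0 y)) := by
    intro y
    rw [cj_cj, cj_cj, pow_succ, pow_succ, pow_one, mul_assoc]
  obtain ⟨k, -, l, -, hkl⟩ := F.diag (d0 ^ 3)
    (by rw [mem_centralizer_iff_cj, hd3, m1, m2, m3])
    (by rw [← cj_eq_self_iff, hd3, m2, m3, m1])
  rw [← hf] at hkl
  have hd0t : cj (d0 ^ 3) t = t := by rw [hd3, m1, m2, m3]
  have hd0f : cj (d0 ^ 3) (f ^ 2) = f ^ 2 := by rw [hd3, m2, m3, m1]
  have hd0e : cj (d0 ^ 3) (e ^ 2) = e ^ 2 := by rw [hd3, m3, m1, m2]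
  set! d1 := d0 ^ 4 with hd1
  have hd1' : d1 = d0 ^ 3 * d0 := by rw [hd1, pow_succ]
  have n1 : cj d1 t = f ^ 2 := by rw [hd1', ← cj_cj, hd0t, m1]
  have n2 : cj d1 (f ^ 2) = e ^ 2 := by rw [hd1', ← cj_cj, hd0f, m2]
  have n3 : cj d1 (e ^ 2) = t := by rw [hd1', ← cj_cj, hd0e, m3]
  have hcube : d1 ^ 3 = 1 := by
    rw [hd1, ← pow_mul, show 4 * 3 = 3 * 4 by norm_num, pow_mul, hkl, pow_pow_pow hef, mul_comm k 4,
      mul_comm l 4, pow_mul, pow_mul, F.e4, hf4, one_pow, one_pow, one_mul]
  have het : Commute e t := by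
    have := F.e_mem
    rw [Subgroup.mem_centralizer_singleton_iff] at this
    exact this
  have hftt : Commute f t := by
    have := F.f_mem
    rw [← hf, Subgroup.mem_centralizer_singleton_iff] at this
    exact this
  have hmap : ∀ {y z : G}, Commute y z → Commute (cj d1 y) (cj d1 z) := by
    intro y z h
    change cj d1 y * cj d1 z = cj d1 z * cj d1 y
    rw [← map_mul, ← map_mul, h.eq]
  -- the action on `e` and `f`
  obtain ⟨a, ha, b, hb, hab⟩ := F.diag (cj d1 e)
    (by
      rw [Subgroup.mem_centralizer_singleton_iff]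
      have := hmap ((Commute.refl e).pow_right 2)
      rw [n3] at this
      exact this)
    (by
      have := hmap het
      rw [n1] at this
      exact this)
  obtain ⟨c, hc, δ, hδ, hcδ⟩ := F.diag (cj d1 f)
    (by
      rw [Subgroup.mem_centralizer_singleton_iff]
      have := hmap (cf.symm.pow_right 2)
      rw [n3] at this
      exact this)
    (by
      have := hmap hftt
      rw [n1] at this
      exact this)
  rw [← hf] at hab hcδ
  -- squares
  have q1 : (2 * a) % 4 = 2 ∧ (2 * b) % 4 = 2 := by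
    have h2 : e ^ (a * 2) * f ^ (b * 2) = e ^ 2 * f ^ 2 := by
      rw [← pow_pow_pow hef, ← hab, ← map_pow, n3, ht]
    have h3 := F.eq_iff h2
    (clear * - h3; solve | lia | omega)
  have q2 : (2 * c) % 4 = 2 ∧ (2 * δ) % 4 = 0 := by
    have h2 : e ^ (c * 2) * f ^ (δ * 2) = e ^ 2 * f ^ 0 := by
      rw [← pow_pow_pow hef, ← hcδ, ← map_pow, n2, pow_zero, mul_one]
    have h3 := F.eq_iff h2
    (clear * - h3; solve | lia | omega)
  -- general formula
  have hform : ∀ m n : ℕ, cj d1 (e ^ m * f ^ n) = e ^ (a * m + c * n) * f ^ (b * m + δ * n) := by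
    intro m n
    rw [map_mul, map_pow, map_pow, hab, hcδ, pow_pow_pow hef, pow_pow_pow hef, pow_mul_pow hef]
  have hd1d : ∀ y, cj d1 (cj d1 (cj d1 y)) = y := by
    intro y
    rw [cj_cj, cj_cj]
    have : d1 * (d1 * d1) = 1 := by
      rw [← hcube, pow_succ, pow_succ, pow_one, mul_assoc]
    rw [this, cj_one]
  have q3 : (a * (a * a + c * b) + c * (b * a + δ * b)) % 4 = 1 ∧
      (b * (a * a + c * b) + δ * (b * a + δ * b)) % 4 = 0 := by
    have h2 := hd1d e
    rw [hab, hform, hform] at h2
    have h3 : e ^ (a * (a * a + c * b) + c * (b * a + δ * b)) *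
        f ^ (b * (a * a + c * b) + δ * (b * a + δ * b)) = e ^ 1 * f ^ 0 := by
      rw [h2, pow_one, pow_zero, mul_one]
    exact F.eq_iff h3
  have hw1 : ∀ m n : ℕ, cj w (e ^ m * f ^ n) = e ^ n * f ^ m := by
    intro m n
    rw [map_mul, F.cjw_e, F.cjw_f, ← hf]
    exact ((cf.pow_pow n m).eq).symm
  -- `k = w d1 w d1` is in `A`
  have q4 : (c * c + a * δ) % 4 = 1 ∧ (δ * c + b * δ) % 4 = 0 := by
    obtain ⟨p, -, q, -, hk⟩ := F.diag (w * d1 * w * d1)
      (by
        rw [mem_centralizer_iff_cj, ← cj_cj, ← cj_cj, ← cj_cj, F.cjw_t, n1, F.cjw_f, n3])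
      (by
        rw [← cj_eq_self_iff, ← cj_cj, ← cj_cj, ← cj_cj, F.cjw_f, n3, F.cjw_t, n1])
    rw [← hf] at hk
    have hke : cj (w * d1 * w * d1) e = e := by
      rw [cj_eq_self_iff, hk]
      exact ((Commute.refl e).pow_left p).mul_left (cf.symm.pow_left q)
    have h2 : cj d1 (cj w (cj d1 (cj w e))) = e := by
      rw [cj_cj, cj_cj, cj_cj, ← mul_assoc, ← mul_assoc, hke]
    have h3 : cj w e = e ^ 0 * f ^ 1 := by
      have := hw1 1 0
      rw [pow_one, pow_zero, mul_one] at this
      rw [this, pow_zero, pow_one, one_mul]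
    rw [h3, hform, hw1, hform] at h2
    have h4 : e ^ (a * (b * 0 + δ * 1) + c * (a * 0 + c * 1)) *
        f ^ (b * (b * 0 + δ * 1) + δ * (a * 0 + c * 1)) = e ^ 1 * f ^ 0 := by
      rw [h2, pow_one, pow_zero, mul_one]
    have h5 := F.eq_iff h4
    have e1 : a * (b * 0 + δ * 1) + c * (a * 0 + c * 1) = c * c + a * δ := by ring
    have e2 : b * (b * 0 + δ * 1) + δ * (a * 0 + c * 1) = δ * c + b * δ := by ring
    rw [e1, e2] at h5
    exact h5
  rcases numeric ha hb hc hδ q1.1 q1.2 q2.1 q2.2 q3.1 q3.2 q4.1 q4.2 with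
    ⟨rfl, rfl, rfl, rfl⟩ | ⟨rfl, rfl, rfl, rfl⟩
  · -- second labelling
    right
    rw [pow_zero, mul_one, pow_one] at hcδ
    have hi : ∀ y, cj d1⁻¹ (cj d1 y) = y := by
      intro y; rw [cj_cj, mul_inv_cancel, cj_one]
    have r1 : cj d1⁻¹ e = f := by
      have := hi f
      rwa [hcδ] at this
    have r2 : cj d1⁻¹ f = e ^ 3 * f ^ 3 := by
      have h2 := hi e
      rw [hab, map_mul, map_pow, map_pow, r1] at h2
      have h3 : (cj d1⁻¹ f) ^ 4 = 1 := by rw [← map_pow, hf4, map_one]
      have h4 : (cj d1⁻¹ f) ^ 3 = f * e := by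
        have : f * (f ^ 3 * (cj d1⁻¹ f) ^ 3) = f * e := by rw [h2]
        rwa [← mul_assoc, ← pow_succ', show 3 + 1 = 4 from rfl, hf4, one_mul] at this
      calc cj d1⁻¹ f = ((cj d1⁻¹ f) ^ 4) ^ 2 * cj d1⁻¹ f := by rw [h3, one_pow, one_mul]
        _ = ((cj d1⁻¹ f) ^ 3) ^ 3 := by rw [← pow_mul, ← pow_mul, ← pow_succ]
        _ = (e * f) ^ 3 := by rw [h4, hef]
        _ = e ^ 3 * f ^ 3 := by rw [cf.mul_pow]
    have hf2 : (t * w) * (e ^ 2 * f) * (t * w) = e * f ^ 2 := by
      have hwt : Commute w t := by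
        have := F.w_mem
        rw [Subgroup.mem_centralizer_singleton_iff] at this
        exact this
      have hct : Commute (w * (e ^ 2 * f) * w) t :=
        (hwt.mul_left ((het.pow_left 2).mul_left hftt)).mul_left hwt
      calc (t * w) * (e ^ 2 * f) * (t * w) = (t * w) * (e ^ 2 * f) * (w * t) := by rw [hwt.eq]
        _ = t * (w * (e ^ 2 * f) * w * t) := by group
        _ = t * (t * (w * (e ^ 2 * f) * w)) := by rw [hct.eq]
        _ = (t * t) * (w * (e ^ 2 * f) * w) := by group
        _ = cj w (e ^ 2 * f ^ 1) := by rw [F.tt, one_mul, F.cjw, pow_one]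
        _ = e * f ^ 2 := by rw [hw1, pow_one]
    have hcub : (e ^ 2 * f) ^ 3 = e ^ (2 * 3) * f ^ 3 := by
      have := pow_pow_pow (a := 2) (b := 1) (n := 3) hef
      rwa [pow_one, one_mul] at this
    refine ⟨_, (Act.adjust F2 (d := d1⁻¹) ⟨?_, ?_, ?_⟩).choose_spec⟩
    · rw [inv_pow, hcube, inv_one]
    · rw [hf2, map_mul, map_pow, r1, r2, hcub]
      have c2 := cf
      have e1 : f ^ 2 * (e ^ 3 * f ^ 3) = e ^ 3 * f ^ 5 := by
        rw [← mul_assoc, ← (cf.pow_pow 3 2).eq, mul_assoc, ← pow_add]
      have e2 : e ^ (2 * 3) * f ^ 3 * (e * f ^ 2) = e ^ 7 * f ^ 5 := by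
        have := pow_mul_pow (a := 2 * 3) (b := 3) (c := 1) (d := 2) hef
        rwa [pow_one] at this
      rw [e1, e2, show 7 = 4 + 3 from rfl, pow_add e 4 3, F.e4, one_mul]
    · rw [hf2, map_mul, map_pow, r1, r2, hcub]
      rw [pow_pow_pow hef, ← mul_assoc]
      have e1 : f * e ^ (3 * 2) * f ^ (3 * 2) = e ^ 6 * f ^ 7 := by
        have := (cf.pow_pow 6 1).eq
        rw [pow_one] at this
        rw [show 3 * 2 = 6 from rfl, ← this, mul_assoc, ← pow_succ']
      rw [e1, show 7 = 4 + 3 from rfl, pow_add f 4 3, hf4, one_mul]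
  · left
    rw [pow_zero, mul_one] at hcδ
    rw [pow_one] at hab
    exact ⟨_, (Act.adjust F ⟨hcube, hab, hcδ⟩).choose_spec⟩

end lemmaA

end Cfsg.Agent.Classification.RTwo.USixFrame
end

-- part: Classification/RTwo/USixBound
section
/-!
# The closure relation

`q0 = t ^ (d x d⁻¹ x d)`. If `q0` commutes with an element of order 2 or 3 of `C(t)`, then it commutes with
`e x e⁻¹` (all the other cases collapse, by certified coset enumerations), and then `⟨C(t), d⟩` has order at
most 6048.
-/

set_option autoImplicit false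

namespace Cfsg.Agent.Classification.RTwo.USixBound

open Cfsg.Agent.SporadicRecognition.CosetCert Cfsg.Agent.SporadicRecognition.CosetCertHyp
open Cfsg.Agent.Classification.RTwo.USixFrame
open Cfsg.Agent.Classification.RTwo

variable {G : Type*} [Group G]

/-- word for `q0` -/
def q0w : List ℕ := [6, 4, 5, 4, 6, 0, 2, 0, 2, 0, 2, 0, 2, 5, 3, 6, 3, 5]
/-- word for the inverse of `q0` -/
def q0i : List ℕ := [6, 4, 5, 4, 6, 2, 1, 2, 1, 2, 1, 2, 1, 5, 3, 6, 3, 5]

/-- relators without the closure relation -/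
def base : List (List ℕ) :=
  [[3, 3, 3], [5, 5, 5], [0, 0, 0, 0], [2, 5, 2, 5], [4, 0, 3, 3, 2, 0], [6, 2, 0, 2, 5, 0],
    [6, 0, 5, 2, 1, 2, 0], [0, 2, 0, 2, 1, 2, 1, 2], [2, 3, 2, 3, 3, 2, 1, 1]]

/-- inverse of letters -/
def li : ℕ → ℕ
  | 0 => 1
  | 1 => 0
  | 2 => 2
  | 3 => 4
  | 4 => 3
  | 5 => 6
  | 6 => 5
  | n => n

theorem lt_li {e w x d : G} (hw : w * w = 1) (n : ℕ) (hn : n < 7) : lt e w x d n * lt e w x d (li n) = 1 := by
  interval_cases n <;> simp [lt, li, hw]

theorem ev_congr {e w x d d' : G} (r : List ℕ) (h : ∀ a ∈ r, a < 5) :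
    ev (lt e w x d) r = ev (lt e w x d') r := by
  unfold ev
  congr 1
  apply List.map_congr_left
  intro a ha
  have := h a ha
  interval_cases a <;> rfl

theorem ev_inv {e w x d : G} (hw : w * w = 1) (r : List ℕ) (h : ∀ a ∈ r, a < 7) :
    ev (lt e w x d) ((r.map li).reverse) = (ev (lt e w x d) r)⁻¹ := by
  induction r with
  | nil => simp [ev]
  | cons a r ih =>
    have h1 : lt e w x d (li a) = (lt e w x d a)⁻¹ :=
      (inv_eq_of_mul_eq_one_right (lt_li hw a (h a (by simp)))).symm
    rw [List.map_cons, List.reverse_cons, ev_append, ih (fun b hb => h b (by simp [hb])), ev_cons,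
      ev_cons, ev_nil, mul_one, h1, mul_inv_rev]

/-- The relations of the pair `(frame, d)`. -/
structure Rels (e w x d : G) : Prop where
  hw : w * w = 1
  base : ∀ r ∈ base, ev (lt e w x d) r = 1

theorem Rels.of_frame {t e w x d : G} (F : Frame t e w x) (A : Act e w d) (hd : w * d * w * d = 1) :
    Rels e w x d where
  hw := F.hw
  base := by
    have hr : ∀ r ∈ guRels, ev (lt e w x d) r = 1 := by
      intro r hr
      rw [ev_congr (d' := 1) r]
      · exact F.rels r hr
      · simp only [guRels, List.mem_cons, List.not_mem_nil, or_false] at hr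
        rcases hr with rfl | rfl | rfl | rfl | rfl <;> decide
    intro r hrb
    simp only [USixBound.base, List.mem_cons, List.not_mem_nil, or_false] at hrb
    rcases hrb with rfl | rfl | rfl | rfl | rfl | rfl | rfl | rfl | rfl
    · exact hr _ (by simp [guRels])
    · have := A.cube
      rw [pow_succ, pow_succ, pow_one] at this
      simpa only [ev, lt, mul_assoc, _root_.List.map_cons, _root_.List.map_nil, _root_.List.prod_cons, _root_.List.prod_nil, _root_.mul_one] using this
    · exact hr _ (by simp [guRels])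
    · simpa only [ev, lt, mul_assoc, _root_.List.map_cons, _root_.List.map_nil, _root_.List.prod_cons, _root_.List.prod_nil, _root_.mul_one] using hd
    · exact hr _ (by simp [guRels])
    · -- d⁻¹ w e w d e
      have := A.hf
      rw [cj_apply] at this
      have h4 := F.e4
      calc ev (lt e w x d) [6, 2, 0, 2, 5, 0] = (d⁻¹ * (w * e * w) * d) * e := by simp only [ev, lt, mul_assoc, _root_.List.map_cons, _root_.List.map_nil, _root_.List.prod_cons, _root_.List.prod_nil, _root_.mul_one]
        _ = 1 := by rw [this, ← pow_succ]; exact h4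
    · have := A.he
      rw [cj_apply] at this
      have h4 := F.e4
      calc ev (lt e w x d) [6, 0, 5, 2, 1, 2, 0] = (d⁻¹ * e * d) * (w * e⁻¹ * w) * e := by
            simp only [ev, lt, mul_assoc, _root_.List.map_cons, _root_.List.map_nil, _root_.List.prod_cons, _root_.List.prod_nil, _root_.mul_one]
        _ = e ^ 3 * (w * e * w * w * e⁻¹ * w) * e := by rw [this]; group
        _ = e ^ 3 * (w * e * (w * w) * e⁻¹ * w) * e := by group
        _ = e ^ 3 * (w * e * 1 * e⁻¹ * w) * e := by rw [F.hw]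
        _ = e ^ 3 * (w * w) * e := by group
        _ = 1 := by rw [F.hw, mul_one, ← pow_succ]; exact h4
    · exact hr _ (by simp [guRels])
    · exact hr _ (by simp [guRels])

/-- `q0` -/
def q0 (e w x d : G) : G := ev (lt e w x d) q0w

theorem ev_q0i {e w x d : G} (hw : w * w = 1) : ev (lt e w x d) q0i = (q0 e w x d)⁻¹ := by
  rw [q0, ← ev_inv hw q0w (by decide)]
  rfl

theorem hyp_of {e w x d : G} (R : Rels e w x d) (H : Subgroup G) (he : e ∈ H) (hwH : w ∈ H) (hx : x ∈ H)
    (C : Cert) (rels subw : List (List ℕ)) (y : List ℕ) (hy : ∀ a ∈ y, a < 7)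
    (hrels : rels = base ++ [q0i ++ (y.map li).reverse ++ q0w ++ y]) (hsubw : subw = [[0], [2], [3]])
    (hk : C.k = 7) (hinv : ∀ n, n < 7 → C.inv n = li n)
    (hcheck : checkHyp C rels subw = true)
    (hc : Commute (q0 e w x d) (ev (lt e w x d) y)) : Hyp C H (lt e w x d) := by
  refine hyp_of_checks H (lt e w x d) C rels subw ?_ ?_ ?_ ?_ hcheck
  · rw [hk]; rfl
  · intro n hn
    rw [hk] at hn ⊢
    rw [hinv n hn]
    refine ⟨?_, lt_li R.hw n hn⟩
    interval_cases n <;> decide
  · intro r hr
    rw [hrels, List.mem_append] at hr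
    rcases hr with hr | hr
    · exact R.base r hr
    · rw [List.mem_singleton] at hr
      subst hr
      rw [ev_append, ev_append, ev_append, ev_q0i R.hw, ev_inv R.hw y hy]
      change (q0 e w x d)⁻¹ * (ev (lt e w x d) y)⁻¹ * (q0 e w x d) * ev (lt e w x d) y = 1
      rw [mul_assoc, hc.eq]
      group
  · intro s hs
    rw [hsubw] at hs
    simp only [List.mem_cons, List.not_mem_nil, or_false] at hs
    rcases hs with rfl | rfl | rfl <;> simpa [ev, lt]

theorem mem_of_part {C : Cert} {H : Subgroup G} {g : ℕ → G} (hyp : Hyp C H g) (hP : _root_.Cfsg.Agent.SporadicRecognition.CosetCert.Part C 0 C.N 1) {a : G}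
    (ha : a ∈ Subgroup.closure (g '' {n | n < C.k})) : a ∈ H := by
  obtain ⟨S, hS, hcov⟩ := closure_covered C H g (_root_.Cfsg.Agent.SporadicRecognition.CosetCert.trans C g) hyp (trans_isTrans C g) hP
  obtain ⟨l, hl, hl'⟩ := hcov a ha
  obtain ⟨l1, hl1, hl1'⟩ := hcov 1 (Subgroup.one_mem _)
  have h : l = l1 := Finset.card_le_one.1 hS l hl l1 hl1
  subst h
  have h2 : _root_.Cfsg.Agent.SporadicRecognition.CosetCert.Rel H a 1 := hl'.trans hl1'.symm
  unfold SporadicRecognition.CosetCert.Rel at h2
  simpa using h2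

theorem d_mem_closure {e w x d : G} {C : Cert} (hk : C.k = 7) :
    d ∈ Subgroup.closure (lt e w x d '' {n | n < C.k}) :=
  Subgroup.subset_closure ⟨5, by rw [hk]; exact (by norm_num : (5 : ℕ) < 7), rfl⟩

set_option maxRecDepth 100000 in
/-- The collapsing cases. -/
theorem collapse {e w x d : G} (R : Rels e w x d) (H : Subgroup G) (he : e ∈ H) (hwH : w ∈ H) (hx : x ∈ H)
    (y : List ℕ) (hy : y ∈ invWords ∨ y ∈ [[3], [1, 3, 0], [1, 1, 3, 0, 0]])
    (hc : Commute (q0 e w x d) (ev (lt e w x d) y)) : d ∈ H := by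
  have key : ∀ (C : Cert) (rels subw : List (List ℕ)) (y : List ℕ), (∀ a ∈ y, a < 7) →
    rels = base ++ [q0i ++ (y.map li).reverse ++ q0w ++ y] → subw = [[0], [2], [3]] →
    C.k = 7 → (∀ n, n < 7 → C.inv n = li n) → checkHyp C rels subw = true → _root_.Cfsg.Agent.SporadicRecognition.CosetCert.Part C 0 C.N 1 →
    Commute (q0 e w x d) (ev (lt e w x d) y) → d ∈ H := by
    intro C rels subw y h1 h2 h3 h4 h5 h6 h7 h8
    exact mem_of_part (hyp_of R H he hwH hx C rels subw y h1 h2 h3 h4 h5 h6 h8) h7 (d_mem_closure h4)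
  have hinv : ∀ (i : ℕ → ℕ), (∀ n, n < 7 → i n = li n) → ∀ n, n < 7 → i n = li n := fun _ h => h
  rcases hy with hy | hy
  · simp only [invWords, List.mem_cons, List.not_mem_nil, or_false] at hy
    rcases hy with rfl | rfl | rfl | rfl | rfl | rfl | rfl
    · exact key USixCert.I0.C USixCert.I0.rels USixCert.I0.subw _ (by decide) rfl rfl rfl
        (by intro n hn; interval_cases n <;> rfl) (Cfsg.Agent.SporadicRecognition.HypFast.check_fast (by decide +kernel)) USixCert.I0.part hc
    · exact key USixCert.I1.C USixCert.I1.rels USixCert.I1.subw _ (by decide) rfl rfl rfl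
        (by intro n hn; interval_cases n <;> rfl) (Cfsg.Agent.SporadicRecognition.HypFast.check_fast (by decide +kernel)) USixCert.I1.part hc
    · exact key USixCert.I2.C USixCert.I2.rels USixCert.I2.subw _ (by decide) rfl rfl rfl
        (by intro n hn; interval_cases n <;> rfl) (Cfsg.Agent.SporadicRecognition.HypFast.check_fast (by decide +kernel)) USixCert.I2.part hc
    · exact key USixCert.I3.C USixCert.I3.rels USixCert.I3.subw _ (by decide) rfl rfl rfl
        (by intro n hn; interval_cases n <;> rfl) (Cfsg.Agent.SporadicRecognition.HypFast.check_fast (by decide +kernel)) USixCert.I3.part hc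
    · exact key USixCert.I4.C USixCert.I4.rels USixCert.I4.subw _ (by decide) rfl rfl rfl
        (by intro n hn; interval_cases n <;> rfl) (Cfsg.Agent.SporadicRecognition.HypFast.check_fast (by decide +kernel)) USixCert.I4.part hc
    · exact key USixCert.I5.C USixCert.I5.rels USixCert.I5.subw _ (by decide) rfl rfl rfl
        (by intro n hn; interval_cases n <;> rfl) (Cfsg.Agent.SporadicRecognition.HypFast.check_fast (by decide +kernel)) USixCert.I5.part hc
    · exact key USixCert.I6.C USixCert.I6.rels USixCert.I6.subw _ (by decide) rfl rfl rfl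
        (by intro n hn; interval_cases n <;> rfl) (Cfsg.Agent.SporadicRecognition.HypFast.check_fast (by decide +kernel)) USixCert.I6.part hc
  · simp only [List.mem_cons, List.not_mem_nil, or_false] at hy
    rcases hy with rfl | rfl | rfl
    · exact key USixCert.P0.C USixCert.P0.rels USixCert.P0.subw _ (by decide) rfl rfl rfl
        (by intro n hn; interval_cases n <;> rfl) (Cfsg.Agent.SporadicRecognition.HypFast.check_fast (by decide +kernel)) USixCert.P0.part hc
    · exact key USixCert.P1.C USixCert.P1.rels USixCert.P1.subw _ (by decide) rfl rfl rfl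
        (by intro n hn; interval_cases n <;> rfl) (Cfsg.Agent.SporadicRecognition.HypFast.check_fast (by decide +kernel)) USixCert.P1.part hc
    · exact key USixCert.P3.C USixCert.P3.rels USixCert.P3.subw _ (by decide) rfl rfl rfl
        (by intro n hn; interval_cases n <;> rfl) (Cfsg.Agent.SporadicRecognition.HypFast.check_fast (by decide +kernel)) USixCert.P3.part hc

/-- The surviving case: the order is at most `63 |H|`. -/
theorem card_le {e w x d : G} (R : Rels e w x d) (H : Subgroup G) [Finite H] (he : e ∈ H) (hwH : w ∈ H)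
    (hx : x ∈ H) (hc : Commute (q0 e w x d) (e * x * e⁻¹)) :
    Finite (Subgroup.closure ({e, w, x, d} : Set G)) ∧
      Nat.card (Subgroup.closure ({e, w, x, d} : Set G)) ≤ 63 * Nat.card H := by
  have hc' : Commute (q0 e w x d) (ev (lt e w x d) [0, 3, 1]) := by
    have : ev (lt e w x d) [0, 3, 1] = e * x * e⁻¹ := by simp [ev, lt, mul_assoc]
    rw [this]; exact hc
  have hyp := hyp_of R H he hwH hx USixCert.P2.C USixCert.P2.rels USixCert.P2.subw [0, 3, 1] (by decide)
    rfl rfl rfl (by intro n hn; interval_cases n <;> rfl) (Cfsg.Agent.SporadicRecognition.HypFast.check_fast (by decide +kernel)) hc'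
  have h := card_closure_le USixCert.P2.C H (lt e w x d) hyp USixCert.P2.part
  have hcl : Subgroup.closure (lt e w x d '' {n | n < USixCert.P2.C.k}) =
      Subgroup.closure ({e, w, x, d} : Set G) := by
    apply le_antisymm
    · rw [Subgroup.closure_le]
      rintro y ⟨n, hn, rfl⟩
      have hn : n < 7 := hn
      have me : e ∈ Subgroup.closure ({e, w, x, d} : Set G) := Subgroup.subset_closure (by simp)
      have mw : w ∈ Subgroup.closure ({e, w, x, d} : Set G) := Subgroup.subset_closure (by simp)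
      have mx : x ∈ Subgroup.closure ({e, w, x, d} : Set G) := Subgroup.subset_closure (by simp)
      have md : d ∈ Subgroup.closure ({e, w, x, d} : Set G) := Subgroup.subset_closure (by simp)
      interval_cases n
      · exact me
      · exact Subgroup.inv_mem _ me
      · exact mw
      · exact mx
      · exact Subgroup.inv_mem _ mx
      · exact md
      · exact Subgroup.inv_mem _ md
    · rw [Subgroup.closure_le]
      rintro y (rfl | rfl | rfl | rfl)
      · exact Subgroup.subset_closure ⟨0, (by norm_num : (0 : ℕ) < 7), rfl⟩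
      · exact Subgroup.subset_closure ⟨2, (by norm_num : (2 : ℕ) < 7), rfl⟩
      · exact Subgroup.subset_closure ⟨3, (by norm_num : (3 : ℕ) < 7), rfl⟩
      · exact Subgroup.subset_closure ⟨5, (by norm_num : (5 : ℕ) < 7), rfl⟩
  rw [hcl] at h
  exact h

end Cfsg.Agent.Classification.RTwo.USixBound
end

-- part: Classification/RTwo/USixSU
section
/-!
# Generators and relations in `SU₃(3)`

Explicit elements of `SU 3 K9 3` satisfying the relations; they generate a subgroup of order 6048.
-/

set_option autoImplicit false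

namespace Cfsg.Agent.Classification.RTwo.USixSU

open Cfsg.Agent.SporadicRecognition.CosetCert Cfsg.Agent.Classification.RTwo.USixFrame
open Cfsg.Agent.Classification.RTwo.USixBound
open Cfsg.Agent.Classification.RTwo.UThreeThree
open Matrix

/-- `diag(i, 1, -i)` -/
def mE : Matrix (Fin 3) (Fin 3) K9 := !![⟨0, 1⟩, ⟨0, 0⟩, ⟨0, 0⟩; ⟨0, 0⟩, ⟨1, 0⟩, ⟨0, 0⟩; ⟨0, 0⟩, ⟨0, 0⟩, ⟨0, 2⟩]
/-- `diag(-i, 1, i)` -/
def mEi : Matrix (Fin 3) (Fin 3) K9 := !![⟨0, 2⟩, ⟨0, 0⟩, ⟨0, 0⟩; ⟨0, 0⟩, ⟨1, 0⟩, ⟨0, 0⟩; ⟨0, 0⟩, ⟨0, 0⟩, ⟨0, 1⟩]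
/-- the swap -/
def mW : Matrix (Fin 3) (Fin 3) K9 := !![⟨0, 0⟩, ⟨1, 0⟩, ⟨0, 0⟩; ⟨1, 0⟩, ⟨0, 0⟩, ⟨0, 0⟩; ⟨0, 0⟩, ⟨0, 0⟩, ⟨2, 0⟩]
/-- an element of order 3 -/
def mX : Matrix (Fin 3) (Fin 3) K9 := !![⟨1, 1⟩, ⟨1, 1⟩, ⟨0, 0⟩; ⟨2, 1⟩, ⟨1, 2⟩, ⟨0, 0⟩; ⟨0, 0⟩, ⟨0, 0⟩, ⟨1, 0⟩]
/-- its inverse -/
def mXi : Matrix (Fin 3) (Fin 3) K9 := !![⟨1, 2⟩, ⟨2, 2⟩, ⟨0, 0⟩; ⟨1, 2⟩, ⟨1, 1⟩, ⟨0, 0⟩; ⟨0, 0⟩, ⟨0, 0⟩, ⟨1, 0⟩]
/-- a monomial element of order 3 -/
def mD : Matrix (Fin 3) (Fin 3) K9 := !![⟨0, 0⟩, ⟨2, 0⟩, ⟨0, 0⟩; ⟨0, 0⟩, ⟨0, 0⟩, ⟨2, 0⟩; ⟨1, 0⟩, ⟨0, 0⟩, ⟨0, 0⟩]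
/-- its inverse -/
def mDi : Matrix (Fin 3) (Fin 3) K9 := !![⟨0, 0⟩, ⟨0, 0⟩, ⟨1, 0⟩; ⟨2, 0⟩, ⟨0, 0⟩, ⟨0, 0⟩; ⟨0, 0⟩, ⟨2, 0⟩, ⟨0, 0⟩]

theorem gE : IsGood mE := by decide +kernel
theorem gW : IsGood mW := by decide +kernel
theorem gX : IsGood mX := by decide +kernel
theorem gD : IsGood mD := by decide +kernel
theorem gEi : IsGood mEi := by decide +kernel
theorem gXi : IsGood mXi := by decide +kernel
theorem gDi : IsGood mDi := by decide +kernel

theorem inv_E : gE.su⁻¹ = gEi.su := by
  apply inv_eq_of_mul_eq_one_right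
  apply su_ext
  change mE * mEi = 1
  decide +kernel

theorem inv_X : gX.su⁻¹ = gXi.su := by
  apply inv_eq_of_mul_eq_one_right
  apply su_ext
  change mX * mXi = 1
  decide +kernel

theorem inv_D : gD.su⁻¹ = gDi.su := by
  apply inv_eq_of_mul_eq_one_right
  apply su_ext
  change mD * mDi = 1
  decide +kernel

/-- letters -/
def lm : ℕ → Matrix (Fin 3) (Fin 3) K9
  | 0 => mE
  | 1 => mEi
  | 2 => mW
  | 3 => mX
  | 4 => mXi
  | 5 => mD
  | 6 => mDi
  | _ => 1

/-- letters in `SU` -/
def ls : ℕ → Cfsg.SU 3 K9 3 := lt gE.su gW.su gX.su gD.su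

theorem mt_ls (n : ℕ) : _root_.Cfsg.Agent.Classification.RTwo.UThreeThree.mt (ls n) = lm n := by
  rcases n with _ | _ | _ | _ | _ | _ | _ | n
  · rfl
  · change _root_.Cfsg.Agent.Classification.RTwo.UThreeThree.mt (gE.su⁻¹) = mEi
    rw [inv_E]; rfl
  · rfl
  · rfl
  · change _root_.Cfsg.Agent.Classification.RTwo.UThreeThree.mt (gX.su⁻¹) = mXi
    rw [inv_X]; rfl
  · rfl
  · change _root_.Cfsg.Agent.Classification.RTwo.UThreeThree.mt (gD.su⁻¹) = mDi
    rw [inv_D]; rfl
  · rfl

/-- action of a word on a vector -/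
def act (r : List ℕ) (v : K9 × K9 × K9) : K9 × K9 × K9 := r.foldr (fun n v => app (lm n) v) v

theorem app_ev (r : List ℕ) (v : K9 × K9 × K9) : app (_root_.Cfsg.Agent.Classification.RTwo.UThreeThree.mt (ev ls r)) v = act r v := by
  induction r with
  | nil => exact app_one v
  | cons a r ih =>
    rw [ev_cons, mt_mul, app_mul, ih, mt_ls]
    rfl

/-- basis vectors -/
def b1 : K9 × K9 × K9 := (⟨1, 0⟩, ⟨0, 0⟩, ⟨0, 0⟩)
/-- basis vectors -/
def b2 : K9 × K9 × K9 := (⟨0, 0⟩, ⟨1, 0⟩, ⟨0, 0⟩)
/-- basis vectors -/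
def b3 : K9 × K9 × K9 := (⟨0, 0⟩, ⟨0, 0⟩, ⟨1, 0⟩)

theorem app_b1 (M : Matrix (Fin 3) (Fin 3) K9) : app M b1 = (M 0 0, M 1 0, M 2 0) := by
  have h1 : (⟨1, 0⟩ : K9) = 1 := rfl
  have h0 : (⟨0, 0⟩ : K9) = 0 := rfl
  simp [app, b1, h1, h0]

theorem app_b2 (M : Matrix (Fin 3) (Fin 3) K9) : app M b2 = (M 0 1, M 1 1, M 2 1) := by
  have h1 : (⟨1, 0⟩ : K9) = 1 := rfl
  have h0 : (⟨0, 0⟩ : K9) = 0 := rfl
  simp [app, b2, h1, h0]

theorem app_b3 (M : Matrix (Fin 3) (Fin 3) K9) : app M b3 = (M 0 2, M 1 2, M 2 2) := by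
  have h1 : (⟨1, 0⟩ : K9) = 1 := rfl
  have h0 : (⟨0, 0⟩ : K9) = 0 := rfl
  simp [app, b3, h1, h0]

theorem eq_of_app {M N : Matrix (Fin 3) (Fin 3) K9} (h1 : app M b1 = app N b1) (h2 : app M b2 = app N b2)
    (h3 : app M b3 = app N b3) : M = N := by
  rw [app_b1, app_b1, Prod.mk.injEq, Prod.mk.injEq] at h1
  rw [app_b2, app_b2, Prod.mk.injEq, Prod.mk.injEq] at h2
  rw [app_b3, app_b3, Prod.mk.injEq, Prod.mk.injEq] at h3
  refine Matrix.ext fun i j => ?_
  fin_cases i <;> fin_cases j
  · exact h1.1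
  · exact h2.1
  · exact h3.1
  · exact h1.2.1
  · exact h2.2.1
  · exact h3.2.1
  · exact h1.2.2
  · exact h2.2.2
  · exact h3.2.2

theorem ev_eq_of_act {r s : List ℕ} (h1 : act r b1 = act s b1) (h2 : act r b2 = act s b2)
    (h3 : act r b3 = act s b3) : ev ls r = ev ls s := by
  apply su_ext
  apply eq_of_app
  · rw [app_ev, app_ev, h1]
  · rw [app_ev, app_ev, h2]
  · rw [app_ev, app_ev, h3]

theorem rels_SU : Rels gE.su gW.su gX.su gD.su where
  hw := by
    apply su_ext
    change mW * mW = 1
    decide +kernel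
  base := by
    have h : ∀ r ∈ USixBound.base, act r b1 = b1 ∧ act r b2 = b2 ∧ act r b3 = b3 := by decide +kernel
    intro r hr
    obtain ⟨h1, h2, h3⟩ := h r hr
    exact ev_eq_of_act (s := []) h1 h2 h3

theorem commute_SU : Commute (q0 gE.su gW.su gX.su gD.su) (gE.su * gX.su * gE.su⁻¹) := by
  have h1 : gE.su * gX.su * gE.su⁻¹ = ev ls [0, 3, 1] := by simp only [ev, ls, lt, mul_assoc, _root_.List.map_cons, _root_.List.map_nil, _root_.List.prod_cons, _root_.List.prod_nil, _root_.mul_one]
  rw [h1]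
  change ev ls q0w * ev ls [0, 3, 1] = ev ls [0, 3, 1] * ev ls q0w
  rw [← ev_append, ← ev_append]
  apply ev_eq_of_act <;> decide +kernel

/-! ### Lower bound for the order -/

/-- code of a vector -/
def code (v : K9 × K9 × K9) : ℕ :=
  v.1.re.val + 3 * v.1.im.val + 9 * v.2.1.re.val + 27 * v.2.1.im.val + 81 * v.2.2.re.val + 243 * v.2.2.im.val

/-- words for the orbit of `b3` -/
def L1 : List (List ℕ) :=
  (by
  refine (?fq9024 : ((pk61l (fun i1 => ((fun g1 : Nat → Nat => pk61l (fun i2 => (pk61d (nat_lit 3) 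
    (nat_lit 0x1d30af2cec56695d633cc679598e9a5760af359d6accd5958d2c15e834ace998cf45658acb5d59d1a5cf2d369657a0b2b16662cd5ecf41658b4cf4aebcc6759aec5a686baf3cc59a0cec19d165d29aed9a555d96cae8d33aabd29b2ca73aeacf3b5d9859665a59b3b367a5d2ca6baed79d3a69567651a575599d3a69b3d32af4d6699675ed2bc6caf2aebc2bcf2d33c6ccf1cf3c1578d98d962cf45a57a67a659e55e8b4b0d999b2b59e62bace761b3439d6abcf4d05760aead29b29ced98e795760d34ceb35e66bc34d6699d873cd5758d333a5765873d2caecccd7a1d2c3a5ceaaed973b28d34b6674e95d5a59567a555e74575d5669abd32cf4c34d30b2cb5e973ce8cebb5d9559a53a675595d59d9b4b31b2ccabb30cf3c2ccf699e35e7abaf0b2bcb4af675e273cee75d35e96cb29b33ab4aee9a539d94e99ecf3cabcf599e5a674595d16694d76515e76bae8cf4a34b28d2bc6baf1cebd6579596619d9857663a59867a61669b4d31af4c9575d35e74e96539e94d95dd33a2bb29b34aacaf0cebc2baf1d2bda574599d19d9569a559d74679d5659457a55667abcf2cf3c34cf0af4cb4d31b34c73d30d2cc6bb31cecd6598686b39d8b3d0d8ab36b162d33560cc567416aa31cb6) i2)) (g1 i1) (g1 (Nat.succ i1)) List.nil) fun j => (pk61d (nat_lit 11) 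
    (nat_lit 0x4c59832f65c4b395f2aa534a293b2664a48f9152164047b8ed1c6364678c71822e4588ab14626c498890fe1dc388690be154268450760c41381d02a02c007f8fe1fabf17d8f99f0bdb7aaf3de4bc377cee1d93ad750e8dceb98724e31c33806f4dd5b7b6a6c8d7dacb5369ad1da0b3b674cd99932d650c8d8fb1c630c4d87309608bfd7d2f55e0bad732e25bab656aad159ab29632c1578ae159aaf556a9d51a9e532a5147a8b50ca093f2794e89c136a694cc9852da564a09292223e4708c916a2744286d0b211416819001fa3e87b8f49e33ba75ce89cc38c704dd9b53606bcd49a433c664c998d310608be1772e25b0b31602b4550a71492864f49b9312564989011a228438841021fa3dc7b0f01d43906f0d81a6334638c11762d4578aa1482784c0921182184007a0ea1bc348630ba15c2884b08a0fc1d03a06e0d01882f0580a8138240440800e81a0300540900f0180280480700a00c00800) j))) (nat_lit 0) (nat_lit 252) List.nil) : List (List ℕ))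
    = ?xq9024 → (List (List ℕ))) ?hq9024; (case hq9024 => (set_option maxRecDepth 1000000 in set_option simprocs false in conv => lhs; reduce; dsimp only)); intro _; exact ?xq9024 : List (List ℕ))

/-- words for the stabiliser of `b3` -/
def L2 : List (List ℕ) :=
  (by
  refine (?fq9025 : ((pk61l (fun i1 => ((fun g1 : Nat → Nat => pk61l (fun i2 => (pk61d (nat_lit 3) 
    (nat_lit 0x184602c40ca60428c2a1288098420113098108419602002400860450113) i2)) (g1 i1) (g1 (Nat.succ i1)) List.nil) fun j => (pk61d (nat_lit 7) 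
    (nat_lit 0x4f97222417af1c3462b54a54880e992c4c80d1214000) j))) (nat_lit 0) (nat_lit 24) List.nil) : List (List ℕ))
    = ?xq9025 → (List (List ℕ))) ?hq9025; (case hq9025 => (set_option maxRecDepth 1000000 in set_option simprocs false in conv => lhs; reduce; dsimp only)); intro _; exact ?xq9025 : List (List ℕ))

theorem L1_chain : List.IsChain (· < ·) (L1.map fun r => code (act r b3)) := by decide +kernel

theorem L2_chain : List.IsChain (· < ·) (L2.map fun r => code (act r b1)) := by decide +kernel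

theorem L2_fix : ∀ r ∈ L2, act r b3 = b3 := by decide +kernel

theorem L1_length : L1.length = 252 := by decide +kernel
theorem L2_length : L2.length = 24 := by decide +kernel

theorem get_injective {L : List (List ℕ)} {f : List ℕ → ℕ} (h : List.IsChain (· < ·) (L.map f)) {i j : Fin L.length}
    (hij : f (L.get i) = f (L.get j)) : i = j := by
  have h1 : (L.map f).Nodup := (List.isChain_iff_pairwise.1 h).imp (fun h => h.ne)
  have h2 := (List.nodup_iff_injective_get.1 h1)
  have h3 : (⟨i, by simp⟩ : Fin (L.map f).length) = ⟨j, by simp⟩ := by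
    apply h2
    simpa using hij
  exact Fin.ext (by simpa using h3)

theorem act_append (r s : List ℕ) (v : K9 × K9 × K9) : act (r ++ s) v = act r (act s v) := by
  simp [act, List.foldr_append]

theorem ls_mem (n : ℕ) : ls n ∈ Subgroup.closure ({gE.su, gW.su, gX.su, gD.su} : Set (Cfsg.SU 3 K9 3)) := by
  have me : gE.su ∈ Subgroup.closure ({gE.su, gW.su, gX.su, gD.su} : Set (Cfsg.SU 3 K9 3)) :=
    Subgroup.subset_closure (by simp)
  have mw : gW.su ∈ Subgroup.closure ({gE.su, gW.su, gX.su, gD.su} : Set (Cfsg.SU 3 K9 3)) :=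
    Subgroup.subset_closure (by simp)
  have mx : gX.su ∈ Subgroup.closure ({gE.su, gW.su, gX.su, gD.su} : Set (Cfsg.SU 3 K9 3)) :=
    Subgroup.subset_closure (by simp)
  have md : gD.su ∈ Subgroup.closure ({gE.su, gW.su, gX.su, gD.su} : Set (Cfsg.SU 3 K9 3)) :=
    Subgroup.subset_closure (by simp)
  rcases n with _ | _ | _ | _ | _ | _ | _ | n
  · exact me
  · exact Subgroup.inv_mem _ me
  · exact mw
  · exact mx
  · exact Subgroup.inv_mem _ mx
  · exact md
  · exact Subgroup.inv_mem _ md
  · exact Subgroup.one_mem _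

theorem ev_mem (r : List ℕ) : ev ls r ∈ Subgroup.closure ({gE.su, gW.su, gX.su, gD.su} : Set (Cfsg.SU 3 K9 3)) := by
  induction r with
  | nil => exact Subgroup.one_mem _
  | cons a r ih =>
    rw [ev_cons]
    exact Subgroup.mul_mem _ (ls_mem a) ih

theorem le_card [Finite (Cfsg.SU 3 K9 3)] :
    6048 ≤ Nat.card (Subgroup.closure ({gE.su, gW.su, gX.su, gD.su} : Set (Cfsg.SU 3 K9 3))) := by
  let f : Fin L1.length × Fin L2.length →
      Subgroup.closure ({gE.su, gW.su, gX.su, gD.su} : Set (Cfsg.SU 3 K9 3)) := fun p =>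
    ⟨ev ls (L1.get p.1 ++ L2.get p.2), ev_mem _⟩
  have hf : Function.Injective f := by
    rintro ⟨i, j⟩ ⟨i', j'⟩ h
    have h1 : ev ls (L1.get i ++ L2.get j) = ev ls (L1.get i' ++ L2.get j') := congrArg Subtype.val h
    have hfix : ∀ k : Fin L2.length, act (L2.get k) b3 = b3 := fun k => L2_fix _ (List.get_mem _ _)
    have h2 : act (L1.get i) b3 = act (L1.get i') b3 := by
      have h3 : app (_root_.Cfsg.Agent.Classification.RTwo.UThreeThree.mt (ev ls (L1.get i ++ L2.get j))) b3 = app (_root_.Cfsg.Agent.Classification.RTwo.UThreeThree.mt (ev ls (L1.get i' ++ L2.get j'))) b3 := by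
        rw [h1]
      rwa [app_ev, app_ev, act_append, act_append, hfix, hfix] at h3
    have hii : i = i' := get_injective L1_chain (congrArg code h2)
    subst hii
    rw [ev_append, ev_append] at h1
    have h4 := mul_left_cancel h1
    have h5 : act (L2.get j) b1 = act (L2.get j') b1 := by rw [← app_ev, h4, app_ev]
    have hjj : j = j' := get_injective L2_chain (congrArg code h5)
    rw [hjj]
  have h := Nat.card_le_card_of_injective f hf
  rw [Nat.card_prod, Nat.card_fin, Nat.card_fin, L1_length, L2_length] at h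
  exact h

end Cfsg.Agent.Classification.RTwo.USixSU
end

-- part: Classification/RTwo/USixModel
section
/-!
# The frames of `GU₂(3)`

Computations in `GU 2 K9 3` with the computable field `K9` with nine elements.
-/

set_option autoImplicit false

namespace Cfsg.Agent.Classification.RTwo.USixModel

open Cfsg.Agent.SporadicRecognition.CosetCert Cfsg.Agent.Classification.RTwo.USixFrame
open Cfsg.Agent.Classification.RTwo.UThreeThree (K9 card_k9')
open Matrix

/-- flat `2 × 2` matrices -/
abbrev V4 := K9 × K9 × K9 × K9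

/-- entries of a matrix -/
def fl (M : Matrix (Fin 2) (Fin 2) K9) : V4 := (M 0 0, M 0 1, M 1 0, M 1 1)

theorem fl_injective : Function.Injective fl := by
  intro M N h
  simp only [fl, Prod.mk.injEq] at h
  obtain ⟨h1, h2, h3, h4⟩ := h
  refine Matrix.ext fun i j => ?_
  fin_cases i <;> fin_cases j
  · exact h1
  · exact h2
  · exact h3
  · exact h4

/-- product of flat matrices -/
def m2 (u v : V4) : V4 :=
  (u.1 * v.1 + u.2.1 * v.2.2.1, u.1 * v.2.1 + u.2.1 * v.2.2.2,
    u.2.2.1 * v.1 + u.2.2.2 * v.2.2.1, u.2.2.1 * v.2.1 + u.2.2.2 * v.2.2.2)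

/-- the identity matrix -/
def one4 : V4 := (⟨1, 0⟩, ⟨0, 0⟩, ⟨0, 0⟩, ⟨1, 0⟩)

theorem fl_mul (M N : Matrix (Fin 2) (Fin 2) K9) : fl (M * N) = m2 (fl M) (fl N) := by
  simp only [fl, m2, Matrix.mul_apply, Fin.sum_univ_two, _root_.Fin.isValue]

theorem fl_one : fl 1 = one4 := by decide +kernel

/-- flat matrix of an element of the unitary group -/
def gf (g : Cfsg.GU 2 K9 3) : V4 := fl ((g : Matrix.GeneralLinearGroup (Fin 2) K9) : Matrix (Fin 2) (Fin 2) K9)

theorem gf_injective : Function.Injective gf := fun _ _ h =>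
  Subtype.ext (Units.ext (fl_injective h))

theorem gf_mul (g h : Cfsg.GU 2 K9 3) : gf (g * h) = m2 (gf g) (gf h) := fl_mul _ _

theorem gf_one : gf 1 = one4 := fl_one

/-- norm of a vector -/
def nrm (a c : K9) : K9 := a * (a * a * a) + c * (c * c * c)

/-- scalar product of two vectors -/
def orth (a b c d : K9) : K9 := a * (b * b * b) + c * (d * d * d)

/-- unitary matrices -/
def Good (v : V4) : Prop := nrm v.1 v.2.2.1 = 1 ∧ nrm v.2.1 v.2.2.2 = 1 ∧ orth v.1 v.2.1 v.2.2.1 v.2.2.2 = 0 ∧
  orth v.2.1 v.1 v.2.2.2 v.2.2.1 = 0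

instance (v : V4) : Decidable (Good v) := by unfold Good; infer_instance

theorem good_gf (g : Cfsg.GU 2 K9 3) : Good (gf g) := by
  have h1 := (LieClassical.GUOrder.mul_map_eq_one_iff card_k9'
    ((g : Matrix.GeneralLinearGroup (Fin 2) K9) : Matrix (Fin 2) (Fin 2) K9)).1 g.2
  have key : ∀ i j : Fin 2,
      ((g : Matrix.GeneralLinearGroup (Fin 2) K9) : Matrix (Fin 2) (Fin 2) K9) 0 i *
        (((g : Matrix.GeneralLinearGroup (Fin 2) K9) : Matrix (Fin 2) (Fin 2) K9) 0 j) ^ 3 +
      ((g : Matrix.GeneralLinearGroup (Fin 2) K9) : Matrix (Fin 2) (Fin 2) K9) 1 i *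
        (((g : Matrix.GeneralLinearGroup (Fin 2) K9) : Matrix (Fin 2) (Fin 2) K9) 1 j) ^ 3 =
      (1 : Matrix (Fin 2) (Fin 2) K9) i j := by
    intro i j
    rw [← h1, Matrix.mul_apply, Fin.sum_univ_two]
    rfl
  have e3 : ∀ a : K9, a ^ 3 = a * a * a := fun a => by rw [pow_succ, pow_two]
  simp only [e3] at key
  exact ⟨key 0 0, key 1 1, key 0 1, key 1 0⟩

theorem fl_mem_of_good {g : Matrix.GeneralLinearGroup (Fin 2) K9} (h : Good (fl (g : Matrix (Fin 2) (Fin 2) K9))) :
    g ∈ Cfsg.GU 2 K9 3 := by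
  refine (LieClassical.GUOrder.mul_map_eq_one_iff card_k9' (g : Matrix (Fin 2) (Fin 2) K9)).2 ?_
  obtain ⟨h1, h2, h3, h4⟩ := h
  simp only [nrm, orth, fl] at h1 h2 h3 h4
  have e3 : ∀ a : K9, a ^ 3 = a * a * a := fun a => by rw [pow_succ, pow_two]
  ext i j : 1
  rw [Matrix.mul_apply, Fin.sum_univ_two]
  simp only [Matrix.transpose_apply, Matrix.map_apply, LieClassical.GUOrder.frob_apply, e3]
  fin_cases i <;> fin_cases j
  · exact h1
  · exact h3
  · exact h4
  · exact h2

/-- all elements of the field -/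
def k9L : List K9 := [⟨0, 0⟩, ⟨0, 1⟩, ⟨0, 2⟩, ⟨1, 0⟩, ⟨1, 1⟩, ⟨1, 2⟩, ⟨2, 0⟩, ⟨2, 1⟩, ⟨2, 2⟩]

theorem mem_k9L (a : K9) : a ∈ k9L := by
  obtain ⟨r, s⟩ := a
  revert r s
  decide +kernel

/-- check a property of all unitary matrices -/
def allGood (P : V4 → Bool) : Bool :=
  k9L.all fun a => k9L.all fun c => !decide (nrm a c = 1) ||
    k9L.all fun b => k9L.all fun d => !(decide (nrm b d = 1) && decide (orth a b c d = 0)) || P (a, b, c, d)

theorem of_allGood {P : V4 → Bool} (h : allGood P = true) {v : V4} (hv : Good v) : P v = true := by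
  obtain ⟨a, b, c, d⟩ := v
  obtain ⟨h1, h2, h3, -⟩ := hv
  simp only [allGood, List.all_eq_true] at h
  have h4 := h a (mem_k9L a) c (mem_k9L c)
  rw [Bool.or_eq_true] at h4
  rcases h4 with h4 | h4
  · simp only [Bool.not_eq_true', decide_eq_false_iff_not] at h4
    exact absurd h1 h4
  · rw [List.all_eq_true] at h4
    have h5 := h4 b (mem_k9L b)
    rw [List.all_eq_true] at h5
    have h6 := h5 d (mem_k9L d)
    rw [Bool.or_eq_true] at h6
    rcases h6 with h6 | h6
    · simp only [Bool.not_eq_true', Bool.and_eq_false_iff, decide_eq_false_iff_not] at h6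
      rcases h6 with h6 | h6
      · exact absurd h2 h6
      · exact absurd h3 h6
    · exact h6

/-- evaluation of words on flat matrices -/
def evV (l : ℕ → V4) (r : List ℕ) : V4 := r.foldr (fun n v => m2 (l n) v) one4

/-- letters -/
def lv (vE vEi vW vX vXi : V4) : ℕ → V4
  | 0 => vE
  | 1 => vEi
  | 2 => vW
  | 3 => vX
  | 4 => vXi
  | _ => one4

theorem gf_ev (g : ℕ → Cfsg.GU 2 K9 3) (l : ℕ → V4) (h : ∀ n, gf (g n) = l n) (r : List ℕ) :
    gf (ev g r) = evV l r := by
  induction r with
  | nil => exact gf_one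
  | cons a r ih =>
    rw [ev_cons, gf_mul, ih, h]
    rfl

/-- the word `e ^ k f ^ l` -/
def wd (k l : ℕ) : List ℕ := List.replicate k 0 ++ (List.replicate l [2, 0, 2]).flatten

theorem ev_wd {G : Type*} [Group G] (g : ℕ → G) (k l : ℕ) :
    ev g (wd k l) = (g 0) ^ k * (g 2 * g 0 * g 2) ^ l := by
  rw [wd, ev_append]
  congr 1
  · induction k with
    | zero => simp [ev]
    | succ k ih => rw [List.replicate_succ, ev_cons, ih, pow_succ']
  · induction l with
    | zero => simp [ev]
    | succ l ih =>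
      rw [List.replicate_succ, List.flatten_cons, ev_append, ih, pow_succ']
      simp [ev, mul_assoc]

/-- the 16 pairs of exponents -/
def prs : List (ℕ × ℕ) := (List.range 4).flatMap fun k => (List.range 4).map fun l => (k, l)

theorem mem_prs {k l : ℕ} : (k, l) ∈ prs ↔ k < 4 ∧ l < 4 := by
  simp [prs]

/-- words conjugating `f²` to all noncentral involutions -/
def cwords : List (List ℕ) := [[], [2], [3], [4], [0, 4], [1, 3]]

/-- All the checks for a frame. -/
structure Check (vE vEi vW vX vXi vT : V4) : Prop where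
  hEi : m2 vE vEi = one4
  hXi : m2 vX vXi = one4
  hw : m2 vW vW = one4
  rels : ∀ r ∈ guRels, evV (lv vE vEi vW vX vXi) r = one4
  ht : evV (lv vE vEi vW vX vXi) (wd 2 2) = vT
  t_ne : vT ≠ one4
  indep : ∀ p ∈ prs, evV (lv vE vEi vW vX vXi) (wd p.1 p.2) = one4 → p.1 = 0 ∧ p.2 = 0
  diag : allGood (fun v => !decide (m2 v (evV (lv vE vEi vW vX vXi) (wd 0 2)) =
    m2 (evV (lv vE vEi vW vX vXi) (wd 0 2)) v) ||
      prs.any fun p => decide (v = evV (lv vE vEi vW vX vXi) (wd p.1 p.2))) = true
  invol : allGood (fun v => !decide (m2 v v = one4) || decide (v = one4) || decide (v = vT) ||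
    cwords.any fun r => decide (m2 v (evV (lv vE vEi vW vX vXi) r) =
      m2 (evV (lv vE vEi vW vX vXi) r) (evV (lv vE vEi vW vX vXi) (wd 0 2)))) = true
  prime : allGood (fun v => decide (v = one4) || !(decide (m2 v v = one4) || decide (m2 (m2 v v) v = one4)) ||
    (invWords.any fun r => decide (v = evV (lv vE vEi vW vX vXi) r)) ||
      (threeWords.any fun r => decide (v = evV (lv vE vEi vW vX vXi) r) ||
        decide (m2 v (evV (lv vE vEi vW vX vXi) r) = one4))) = true

attribute [local irreducible] gf m2 evV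

set_option maxHeartbeats 1000000 in
theorem frame_of {G : Type*} [Group G] (ι : Cfsg.GU 2 K9 3 →* G) (hι : Function.Injective ι) {t : G}
    (hrange : ∀ y, y ∈ Subgroup.centralizer ({t} : Set G) ↔ ∃ g, ι g = y)
    (E W X T : Cfsg.GU 2 K9 3) (htT : t = ι T) {vE vEi vW vX vXi vT : V4}
    (hE : gf E = vE) (hEi : gf E⁻¹ = vEi) (hW : gf W = vW) (hX : gf X = vX) (hXi : gf X⁻¹ = vXi)
    (hT : gf T = vT) (h : Check vE vEi vW vX vXi vT) : Frame t (ι E) (ι W) (ι X) := by
  have hl : ∀ n, gf (lt E W X 1 n) = lv vE vEi vW vX vXi n := by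
    intro n
    rcases n with _ | _ | _ | _ | _ | _ | _ | n
    · exact hE
    · exact hEi
    · exact hW
    · exact hX
    · exact hXi
    · exact gf_one
    · change gf (1 : Cfsg.GU 2 K9 3)⁻¹ = one4
      rw [inv_one]; exact gf_one
    · exact gf_one
  have hlt : ∀ n, lt (ι E) (ι W) (ι X) 1 n = ι (lt E W X 1 n) := by
    intro n
    rcases n with _ | _ | _ | _ | _ | _ | _ | n
    · rfl
    · exact (map_inv ι E).symm
    · rfl
    · rfl
    · exact (map_inv ι X).symm
    · exact (map_one ι).symm
    · change (1 : G)⁻¹ = ι (1 : Cfsg.GU 2 K9 3)⁻¹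
      rw [inv_one, inv_one, map_one]
    · exact (map_one ι).symm
  have hev : ∀ r, ev (lt (ι E) (ι W) (ι X) 1) r = ι (ev (lt E W X 1) r) := by
    intro r
    rw [ev, ev, map_list_prod, List.map_map]
    congr 1
    apply List.map_congr_left
    intro n _
    exact hlt n
  have hgf : ∀ r, gf (ev (lt E W X 1) r) = evV (lv vE vEi vW vX vXi) r := gf_ev _ _ hl
  have hwd : ∀ k l, ev (lt E W X 1) (wd k l) = E ^ k * (W * E * W) ^ l := fun k l => ev_wd _ k l
  have hmem : ∀ g, ι g ∈ Subgroup.centralizer ({t} : Set G) := fun g => (hrange _).2 ⟨g, rfl⟩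
  have e4 : E ^ 4 = 1 := by
    apply gf_injective
    have h1 := h.rels [0, 0, 0, 0] (by simp [guRels])
    rw [← hgf] at h1
    have h2 : ev (lt E W X 1) [0, 0, 0, 0] = E ^ 4 := by
      simp only [ev, List.map_cons, List.map_nil, List.prod_cons, List.prod_nil, lt, mul_one]
      rw [pow_succ, pow_succ, pow_succ, pow_one, mul_assoc, mul_assoc]
    rw [gf_one, ← h1, h2]
  have hww : W * W = 1 := by
    apply gf_injective
    rw [gf_mul, hW, h.hw, gf_one]
  have f4 : (W * E * W) ^ 4 = 1 := by
    have hwi : W⁻¹ = W := inv_eq_of_mul_eq_one_right hww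
    calc (W * E * W) ^ 4 = (W * E * W⁻¹) ^ 4 := by rw [hwi]
      _ = W * E ^ 4 * W⁻¹ := by rw [conj_pow]
      _ = 1 := by rw [e4]; group
  refine ⟨?_, ?_, ?_, ?_, hmem _, hmem _, hmem _, ?_, ?_, ?_, ?_⟩
  · rw [← map_mul, hww, map_one]
  · intro r hr
    rw [hev]
    have h1 : ev (lt E W X 1) r = 1 := by
      apply gf_injective
      rw [hgf, h.rels r hr, gf_one]
    rw [h1, map_one]
  · have h4 : T = E ^ 2 * (W * E * W) ^ 2 := by
      apply gf_injective
      rw [← hwd, hgf, h.ht, hT]
    rw [htT, h4, map_mul, map_pow, map_pow, map_mul, map_mul]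
  · intro h1
    apply h.t_ne
    have h2 : T = 1 := hι (by rw [← htT, h1, map_one])
    rw [← hT, h2, gf_one]
  · intro k l hkl
    have h1 : E ^ k * (W * E * W) ^ l = 1 := by
      apply hι
      rw [map_mul, map_pow, map_pow, map_mul, map_mul, map_one]
      exact hkl
    have hk : E ^ k = E ^ (k % 4) := by
      conv_lhs => rw [← Nat.mod_add_div k 4, pow_add, pow_mul, e4, one_pow, mul_one]
    have hl : (W * E * W) ^ l = (W * E * W) ^ (l % 4) := by
      conv_lhs => rw [← Nat.mod_add_div l 4, pow_add, pow_mul, f4, one_pow, mul_one]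
    rw [hk, hl] at h1
    have h2 := h.indep (k % 4, l % 4)
      (mem_prs.2 ⟨Nat.mod_lt _ (by norm_num), Nat.mod_lt _ (by norm_num)⟩) (by
        rw [← hgf, hwd, h1, gf_one])
    exact ⟨Nat.dvd_of_mod_eq_zero h2.1, Nat.dvd_of_mod_eq_zero h2.2⟩
  · intro y hy hc
    obtain ⟨g, rfl⟩ := (hrange y).1 hy
    have h1 : g * (W * E * W) ^ 2 = (W * E * W) ^ 2 * g := by
      apply hι
      rw [map_mul, map_mul, map_pow, map_mul, map_mul]
      exact hc
    have h2 := of_allGood h.diag (good_gf g)
    rw [Bool.or_eq_true] at h2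
    rcases h2 with h2 | h2
    · simp only [Bool.not_eq_true', decide_eq_false_iff_not] at h2
      exfalso
      apply h2
      rw [← hgf, hwd, pow_zero, one_mul, ← gf_mul, ← gf_mul, h1]
    · rw [List.any_eq_true] at h2
      obtain ⟨⟨k, l⟩, hkl, h3⟩ := h2
      rw [mem_prs] at hkl
      rw [decide_eq_true_eq, ← hgf] at h3
      have h4 := gf_injective h3
      rw [hwd] at h4
      refine ⟨k, hkl.1, l, hkl.2, ?_⟩
      rw [h4, map_mul, map_pow, map_pow, map_mul, map_mul]
  · intro s hs hss hs1 hst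
    obtain ⟨g, rfl⟩ := (hrange s).1 hs
    have h2 := of_allGood h.invol (good_gf g)
    rw [Bool.or_eq_true, Bool.or_eq_true, Bool.or_eq_true] at h2
    rcases h2 with ((h2 | h2) | h2) | h2
    · simp only [Bool.not_eq_true', decide_eq_false_iff_not] at h2
      exfalso
      apply h2
      have h4 : g * g = 1 := hι (by rw [map_mul, hss, map_one])
      rw [← gf_mul, h4, gf_one]
    · rw [decide_eq_true_eq, ← gf_one] at h2
      exfalso
      apply hs1
      rw [gf_injective h2, map_one]
    · rw [decide_eq_true_eq, ← hT] at h2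
      exfalso
      apply hst
      rw [gf_injective h2, htT]
    · rw [List.any_eq_true] at h2
      obtain ⟨r, hr, h3⟩ := h2
      rw [decide_eq_true_eq, ← hgf, ← hgf, hwd, pow_zero, one_mul, ← gf_mul, ← gf_mul] at h3
      have h4 := gf_injective h3
      refine ⟨ι (ev (lt E W X 1) r), hmem _, ?_⟩
      rw [mul_assoc, ← map_mul, h4, map_mul, ← mul_assoc, inv_mul_cancel, one_mul, map_pow, map_mul,
        map_mul]
  · intro y hy hy1 hord
    obtain ⟨g, rfl⟩ := (hrange y).1 hy
    have h2 := of_allGood h.prime (good_gf g)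
    rw [Bool.or_eq_true, Bool.or_eq_true, Bool.or_eq_true] at h2
    rcases h2 with ((h2 | h2) | h2) | h2
    · rw [decide_eq_true_eq, ← gf_one] at h2
      exfalso
      apply hy1
      rw [gf_injective h2, map_one]
    · simp only [Bool.not_eq_true', Bool.or_eq_false_iff, decide_eq_false_iff_not] at h2
      exfalso
      rcases hord with h3 | h3
      · apply h2.1
        have h4 : g * g = 1 := hι (by rw [map_mul, h3, map_one])
        rw [← gf_mul, h4, gf_one]
      · apply h2.2
        have h4 : g * g * g = 1 := hι (by rw [map_mul, map_mul, h3, map_one])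
        rw [← gf_mul, ← gf_mul, h4, gf_one]
    · left
      rw [List.any_eq_true] at h2
      obtain ⟨r, hr, h3⟩ := h2
      rw [decide_eq_true_eq, ← hgf] at h3
      refine ⟨r, hr, ?_⟩
      rw [hev, gf_injective h3]
    · right
      rw [List.any_eq_true] at h2
      obtain ⟨r, hr, h3⟩ := h2
      refine ⟨r, hr, ?_⟩
      rw [Bool.or_eq_true, decide_eq_true_eq, decide_eq_true_eq, ← hgf] at h3
      rcases h3 with h3 | h3
      · left
        rw [hev, gf_injective h3]
      · right
        rw [← gf_mul, ← gf_one] at h3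
        have h4 := gf_injective h3
        rw [hev, eq_inv_iff_mul_eq_one, ← map_mul, h4, map_one]

/-! ### Concrete elements -/

/-- `diag(i, 1)` -/
def mE : Matrix (Fin 2) (Fin 2) K9 := !![⟨0, 1⟩, ⟨0, 0⟩; ⟨0, 0⟩, ⟨1, 0⟩]
/-- `diag(-i, 1)` -/
def mEi : Matrix (Fin 2) (Fin 2) K9 := !![⟨0, 2⟩, ⟨0, 0⟩; ⟨0, 0⟩, ⟨1, 0⟩]
/-- the swap -/
def mW : Matrix (Fin 2) (Fin 2) K9 := !![⟨0, 0⟩, ⟨1, 0⟩; ⟨1, 0⟩, ⟨0, 0⟩]
/-- element of order 3 -/
def mX : Matrix (Fin 2) (Fin 2) K9 := !![⟨1, 1⟩, ⟨1, 1⟩; ⟨2, 1⟩, ⟨1, 2⟩]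
/-- its inverse -/
def mXi : Matrix (Fin 2) (Fin 2) K9 := !![⟨1, 2⟩, ⟨2, 2⟩; ⟨1, 2⟩, ⟨1, 1⟩]
/-- `-1` -/
def mT : Matrix (Fin 2) (Fin 2) K9 := !![⟨2, 0⟩, ⟨0, 0⟩; ⟨0, 0⟩, ⟨2, 0⟩]

/-- `diag(i, 1)` -/
def E : Cfsg.GU 2 K9 3 := ⟨⟨mE, mEi, by decide +kernel, by decide +kernel⟩, fl_mem_of_good (by decide +kernel)⟩
/-- the swap -/
def W : Cfsg.GU 2 K9 3 := ⟨⟨mW, mW, by decide +kernel, by decide +kernel⟩, fl_mem_of_good (by decide +kernel)⟩
/-- element of order 3 -/
def X : Cfsg.GU 2 K9 3 := ⟨⟨mX, mXi, by decide +kernel, by decide +kernel⟩, fl_mem_of_good (by decide +kernel)⟩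
/-- `-1` -/
def T : Cfsg.GU 2 K9 3 := ⟨⟨mT, mT, by decide +kernel, by decide +kernel⟩, fl_mem_of_good (by decide +kernel)⟩

/-- flat `diag(a, b)` -/
def dg (a b : K9) : V4 := (a, ⟨0, 0⟩, ⟨0, 0⟩, b)

/-- flat antidiagonal matrix -/
def ad (a b : K9) : V4 := (⟨0, 0⟩, a, b, ⟨0, 0⟩)

/-- flat `X` -/
def fX : V4 := (⟨1, 1⟩, ⟨1, 1⟩, ⟨2, 1⟩, ⟨1, 2⟩)
/-- flat `X⁻¹` -/
def fXi : V4 := (⟨1, 2⟩, ⟨2, 2⟩, ⟨1, 2⟩, ⟨1, 1⟩)

theorem check1 : Check (dg ⟨0, 1⟩ ⟨1, 0⟩) (dg ⟨0, 2⟩ ⟨1, 0⟩) (ad ⟨1, 0⟩ ⟨1, 0⟩) fX fXi (dg ⟨2, 0⟩ ⟨2, 0⟩) where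
  hEi := by decide +kernel
  hXi := by decide +kernel
  hw := by decide +kernel
  rels := by decide +kernel
  ht := by decide +kernel
  t_ne := by decide +kernel
  indep := by decide +kernel
  diag := by decide +kernel
  invol := by decide +kernel
  prime := by decide +kernel

theorem check2 : Check (dg ⟨2, 0⟩ ⟨0, 1⟩) (dg ⟨2, 0⟩ ⟨0, 2⟩) (ad ⟨2, 0⟩ ⟨2, 0⟩) fX fXi (dg ⟨2, 0⟩ ⟨2, 0⟩) where
  hEi := by decide +kernel
  hXi := by decide +kernel
  hw := by decide +kernel
  rels := by decide +kernel
  ht := by decide +kernel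
  t_ne := by decide +kernel
  indep := by decide +kernel
  diag := by decide +kernel
  invol := by decide +kernel
  prime := by decide +kernel

theorem checkT : allGood (fun v => !decide (m2 v v = one4) || decide (v = one4) ||
    !decide (m2 v (dg ⟨0, 1⟩ ⟨1, 0⟩) = m2 (dg ⟨0, 1⟩ ⟨1, 0⟩) v) ||
    !decide (m2 v (ad ⟨1, 0⟩ ⟨1, 0⟩) = m2 (ad ⟨1, 0⟩ ⟨1, 0⟩) v) || decide (v = dg ⟨2, 0⟩ ⟨2, 0⟩)) = true := by
  decide +kernel

theorem gf_E : gf E = dg ⟨0, 1⟩ ⟨1, 0⟩ := by unfold gf E dg mE; rfl
theorem gf_Ei : gf E⁻¹ = dg ⟨0, 2⟩ ⟨1, 0⟩ := by unfold gf E dg mEi; rfl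
theorem gf_W : gf W = ad ⟨1, 0⟩ ⟨1, 0⟩ := by unfold gf W ad mW; rfl
theorem gf_X : gf X = fX := by unfold gf X fX mX; rfl
theorem gf_Xi : gf X⁻¹ = fXi := by unfold gf X fXi mXi; rfl
theorem gf_T : gf T = dg ⟨2, 0⟩ ⟨2, 0⟩ := by unfold gf T dg mT; rfl

theorem gf_E2 : gf (E ^ 2 * (W * E * W)) = dg ⟨2, 0⟩ ⟨0, 1⟩ := by
  rw [pow_two, gf_mul, gf_mul, gf_mul, gf_mul, gf_E, gf_W]
  unfold m2 dg ad
  decide +kernel

theorem gf_E2i : gf (E ^ 2 * (W * E * W))⁻¹ = dg ⟨2, 0⟩ ⟨0, 2⟩ := by
  have hW : W⁻¹ = W := by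
    apply inv_eq_of_mul_eq_one_right
    apply gf_injective
    rw [gf_mul, gf_W, gf_one]
    exact check1.hw
  rw [pow_two, _root_.mul_inv_rev, _root_.mul_inv_rev, _root_.mul_inv_rev, _root_.mul_inv_rev, hW, gf_mul, gf_mul, gf_mul, gf_mul,
    gf_Ei, gf_W]
  unfold m2 dg ad
  decide +kernel

theorem gf_TW : gf (T * W) = ad ⟨2, 0⟩ ⟨2, 0⟩ := by
  rw [gf_mul, gf_T, gf_W]
  unfold m2 dg ad
  decide +kernel

/-- Both frames, from an isomorphism of the centralizer with `GU₂(3)`. -/
theorem exists_frames {G : Type*} [Group G] {t : G} (ht : orderOf t = 2)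
    (φ : Subgroup.centralizer ({t} : Set G) ≃* Cfsg.GU 2 K9 3) :
    ∃ e w x : G, Frame t e w x ∧ Frame t (e ^ 2 * (w * e * w)) (t * w) x := by
  have htt : t * t = 1 := by rw [← pow_two, ← ht, pow_orderOf_eq_one]
  have ht1 : t ≠ 1 := by
    intro h
    rw [h, orderOf_one] at ht
    norm_num at ht
  have htm : t ∈ Subgroup.centralizer ({t} : Set G) := by
    rw [Subgroup.mem_centralizer_singleton_iff]
  let t' : Subgroup.centralizer ({t} : Set G) := ⟨t, htm⟩
  have hcomm : ∀ y : Subgroup.centralizer ({t} : Set G), t' * y = y * t' := by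
    intro y
    apply Subtype.ext
    exact ((Subgroup.mem_centralizer_singleton_iff).1 y.2).symm
  have hT : φ t' = T := by
    apply gf_injective
    rw [gf_T]
    have h1 := of_allGood checkT (good_gf (φ t'))
    rw [Bool.or_eq_true, Bool.or_eq_true, Bool.or_eq_true, Bool.or_eq_true] at h1
    rcases h1 with (((h1 | h1) | h1) | h1) | h1
    · simp only [Bool.not_eq_true', decide_eq_false_iff_not] at h1
      exfalso
      apply h1
      have h2 : φ t' * φ t' = 1 := by
        rw [← map_mul, ← map_one φ]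
        congr 1
        exact Subtype.ext htt
      rw [← gf_mul, h2, gf_one]
    · rw [decide_eq_true_eq, ← gf_one] at h1
      exfalso
      apply ht1
      have h2 := gf_injective h1
      have h3 : t' = 1 := φ.injective (h2.trans (map_one φ).symm)
      exact congrArg Subtype.val h3
    · simp only [Bool.not_eq_true', decide_eq_false_iff_not] at h1
      exfalso
      apply h1
      have h2 : φ t' * E = E * φ t' := by
        have := congrArg φ (hcomm (φ.symm E))
        rwa [map_mul, map_mul, φ.apply_symm_apply] at this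
      rw [← gf_E, ← gf_mul, ← gf_mul, h2]
    · simp only [Bool.not_eq_true', decide_eq_false_iff_not] at h1
      exfalso
      apply h1
      have h2 : φ t' * W = W * φ t' := by
        have := congrArg φ (hcomm (φ.symm W))
        rwa [map_mul, map_mul, φ.apply_symm_apply] at this
      rw [← gf_W, ← gf_mul, ← gf_mul, h2]
    · rw [decide_eq_true_eq] at h1
      exact h1
  let ι : Cfsg.GU 2 K9 3 →* G := (Subgroup.subtype _).comp φ.symm.toMonoidHom
  have hι : Function.Injective ι := by
    intro a b h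
    exact φ.symm.injective (Subtype.ext h)
  have hr : ∀ y, y ∈ Subgroup.centralizer ({t} : Set G) ↔ ∃ g, ι g = y := by
    intro y
    constructor
    · intro hy
      refine ⟨φ ⟨y, hy⟩, ?_⟩
      change ((φ.symm (φ ⟨y, hy⟩) : Subgroup.centralizer ({t} : Set G)) : G) = y
      rw [φ.symm_apply_apply]
    · rintro ⟨g, rfl⟩
      exact (φ.symm g).2
  have htT : t = ι T := by
    change t = ((φ.symm T : Subgroup.centralizer ({t} : Set G)) : G)
    rw [← hT, φ.symm_apply_apply]
  have F1 := frame_of ι hι hr E W X T htT gf_E gf_Ei gf_W gf_X gf_Xi gf_T check1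
  have F2 := frame_of ι hι hr (E ^ 2 * (W * E * W)) (T * W) X T htT gf_E2 gf_E2i gf_TW gf_X gf_Xi gf_T check2
  refine ⟨ι E, ι W, ι X, F1, ?_⟩
  rw [map_mul, map_mul, map_pow, map_mul, map_mul, ← htT] at F2
  exact F2

end Cfsg.Agent.Classification.RTwo.USixModel
end

-- part: Classification/RTwo/USix
section
/-!
# Identification of `PSU₃(3)` by the centralizer of an involution

If `C_G(t) = GU₂(3)`, `t` is conjugate in `G` to another involution of `C_G(t)` and `|G : C_G(t)| ≤ 99`, then
`G = PSU₃(3)`.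
-/

set_option autoImplicit false

namespace Cfsg.Agent.Classification.RTwo.USix

open Cfsg.Agent.SporadicRecognition.CosetCert Cfsg.Agent.SporadicRecognition.CosetCertHyp
open Cfsg.Agent.Classification.RTwo.USixFrame Cfsg.Agent.Classification.RTwo.USixBound
open Cfsg.Agent.Classification.RTwo.USixSU Cfsg.Agent.Classification.RTwo.UThreeThree
open Cfsg.Agent.Classification.RTwo

/-! ### `SU₃(3)` -/

theorem card_SU : Nat.card (Cfsg.SU 3 K9 3) = 6048 := by
  have h := Cfsg.Agent.S0278.result (F := K9) (q := 3) card_k9' 3 (by norm_num)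
  have h2 : (∏ i ∈ Finset.range 3, (if Even i then 3 ^ (i + 1) + 1 else 3 ^ (i + 1) - 1)) = 4 * 8 * 28 := by
    decide
  rw [h2] at h
  norm_num only [] at h
  omega

instance finite_SU : Finite (Cfsg.SU 3 K9 3) := Nat.finite_of_card_ne_zero (by rw [card_SU]; norm_num)

theorem closure_SU : Subgroup.closure ({gE.su, gW.su, gX.su, gD.su} : Set (Cfsg.SU 3 K9 3)) = ⊤ := by
  apply Subgroup.eq_top_of_card_eq
  apply le_antisymm (Subgroup.card_le_card_group _)
  rw [card_SU]
  exact le_card

instance simple_SU : IsSimpleGroup (Cfsg.SU 3 K9 3) := by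
  have := Cfsg.Agent.S0283.result (F := K9) (q := 3) card_k9' 3 le_rfl (by norm_num)
  exact (psuEquiv card_k9).symm.isSimpleGroup

/-! ### The presented group -/

section pres

variable {G : Type*} [Group G]

theorem card_closure_three {e w x : G} (hw : w * w = 1) (hr : ∀ r ∈ guRels, ev (lt e w x 1) r = 1) :
    Finite (Subgroup.closure ({e, w, x} : Set G)) ∧ Nat.card (Subgroup.closure ({e, w, x} : Set G)) ≤ 96 := by
  have hyp : Hyp USixCert.K.C (⊥ : Subgroup G) (lt e w x 1) := by
    refine hyp_of_checks (⊥ : Subgroup G) (lt e w x 1) USixCert.K.C USixCert.K.rels USixCert.K.subw rfl ?_ hr ?_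
      (Cfsg.Agent.SporadicRecognition.HypFast.check_fast (by decide +kernel))
    · intro n hn
      have hn : n < 5 := hn
      have h1 : USixCert.K.C.inv n = li n := by interval_cases n <;> rfl
      rw [h1]
      refine ⟨?_, lt_li hw n (by omega)⟩
      change li n < 5
      interval_cases n <;> decide
    · intro s hs
      exact absurd hs (by simp [USixCert.K.subw])
  have h := card_closure_le USixCert.K.C ⊥ (lt e w x 1) hyp USixCert.K.part
  have hcl : Subgroup.closure (lt e w x 1 '' {n | n < USixCert.K.C.k}) =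
      Subgroup.closure ({e, w, x} : Set G) := by
    apply le_antisymm
    · rw [Subgroup.closure_le]
      rintro y ⟨n, hn, rfl⟩
      have hn : n < 5 := hn
      have me : e ∈ Subgroup.closure ({e, w, x} : Set G) := Subgroup.subset_closure (by simp)
      have mw : w ∈ Subgroup.closure ({e, w, x} : Set G) := Subgroup.subset_closure (by simp)
      have mx : x ∈ Subgroup.closure ({e, w, x} : Set G) := Subgroup.subset_closure (by simp)
      interval_cases n
      · exact me
      · exact Subgroup.inv_mem _ me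
      · exact mw
      · exact mx
      · exact Subgroup.inv_mem _ mx
    · rw [Subgroup.closure_le]
      rintro y (rfl | rfl | rfl)
      · exact Subgroup.subset_closure ⟨0, (by norm_num : (0 : ℕ) < 5), rfl⟩
      · exact Subgroup.subset_closure ⟨2, (by norm_num : (2 : ℕ) < 5), rfl⟩
      · exact Subgroup.subset_closure ⟨3, (by norm_num : (3 : ℕ) < 5), rfl⟩
  rw [hcl] at h
  refine ⟨h.1, h.2.trans ?_⟩
  rw [Subgroup.card_bot, mul_one]

theorem guRels_of_rels {e w x d : G} (R : Rels e w x d) : ∀ r ∈ guRels, ev (lt e w x 1) r = 1 := by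
  intro r hr
  rw [ev_congr (d' := d) r]
  · apply R.base
    simp only [guRels, List.mem_cons, List.not_mem_nil, or_false] at hr
    rcases hr with rfl | rfl | rfl | rfl | rfl <;> simp [USixBound.base]
  · simp only [guRels, List.mem_cons, List.not_mem_nil, or_false] at hr
    rcases hr with rfl | rfl | rfl | rfl | rfl <;> decide

theorem card_closure_four {e w x d : G} (R : Rels e w x d)
    (hc : Commute (q0 e w x d) (e * x * e⁻¹)) :
    Finite (Subgroup.closure ({e, w, x, d} : Set G)) ∧
      Nat.card (Subgroup.closure ({e, w, x, d} : Set G)) ≤ 6048 := by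
  obtain ⟨hfin, hcard⟩ := card_closure_three R.hw (guRels_of_rels R)
  have h := card_le R (Subgroup.closure ({e, w, x} : Set G)) (Subgroup.subset_closure (by simp))
    (Subgroup.subset_closure (by simp)) (Subgroup.subset_closure (by simp)) hc
  exact ⟨h.1, h.2.trans (by omega)⟩

theorem ev_prod {G' : Type*} [Group G'] (e w x d : G) (e' w' x' d' : G') (r : List ℕ) :
    ev (lt (e, e') (w, w') (x, x') (d, d')) r = (ev (lt e w x d) r, ev (lt e' w' x' d') r) := by
  induction r with
  | nil => rfl
  | cons a r ih =>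
    rw [ev_cons, ih, ev_cons, ev_cons]
    rcases a with _ | _ | _ | _ | _ | _ | _ | n <;> rfl

/-- The group generated by elements satisfying the relations is trivial or `SU₃(3)`. -/
theorem closure_iso {e w x d : G} (R : Rels e w x d) (hc : Commute (q0 e w x d) (e * x * e⁻¹)) (hne : e ≠ 1) :
    Nonempty (Subgroup.closure ({e, w, x, d} : Set G) ≃* Cfsg.SU 3 K9 3) := by
  let K := Cfsg.SU 3 K9 3
  let P : Subgroup (G × K) := Subgroup.closure {(e, gE.su), (w, gW.su), (x, gX.su), (d, gD.su)}
  have RP : Rels (e, gE.su) (w, gW.su) (x, gX.su) (d, gD.su) := by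
    refine ⟨?_, ?_⟩
    · rw [Prod.mk_mul_mk, R.hw, rels_SU.hw]; rfl
    · intro r hr
      rw [ev_prod, R.base r hr, rels_SU.base r hr]; rfl
  have hcP : Commute (q0 (e, gE.su) (w, gW.su) (x, gX.su) (d, gD.su))
      ((e, gE.su) * (x, gX.su) * (e, gE.su)⁻¹) := by
    have h1 : q0 (e, gE.su) (w, gW.su) (x, gX.su) (d, gD.su) =
        (q0 e w x d, q0 gE.su gW.su gX.su gD.su) := ev_prod _ _ _ _ _ _ _ _ _
    rw [h1]
    exact Prod.ext hc commute_SU
  obtain ⟨hfin, hcard⟩ := card_closure_four RP hcP
  change Finite P at hfin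
  change Nat.card P ≤ 6048 at hcard
  let p2 : P →* K := (MonoidHom.snd G K).comp P.subtype
  have hp2 : Function.Surjective p2 := by
    rw [← MonoidHom.range_eq_top, eq_top_iff, ← closure_SU, Subgroup.closure_le]
    rintro y (rfl | rfl | rfl | rfl)
    · exact ⟨⟨(e, gE.su), Subgroup.subset_closure (by simp)⟩, rfl⟩
    · exact ⟨⟨(w, gW.su), Subgroup.subset_closure (by simp)⟩, rfl⟩
    · exact ⟨⟨(x, gX.su), Subgroup.subset_closure (by simp)⟩, rfl⟩
    · exact ⟨⟨(d, gD.su), Subgroup.subset_closure (by simp)⟩, rfl⟩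
  have hb : Function.Bijective p2 := by
    rw [Nat.bijective_iff_surjective_and_card]
    refine ⟨hp2, ?_⟩
    have h1 := Nat.card_le_card_of_surjective p2 hp2
    have h2 : Nat.card K = 6048 := card_SU
    omega
  let f : P ≃* K := MulEquiv.ofBijective p2 hb
  have hsP : IsSimpleGroup P := f.isSimpleGroup
  let C := Subgroup.closure ({e, w, x, d} : Set G)
  have hle : P.map (MonoidHom.fst G K) ≤ C := by
    rw [Subgroup.map_le_iff_le_comap, Subgroup.closure_le]
    rintro y (rfl | rfl | rfl | rfl) <;> exact Subgroup.subset_closure (by simp)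
  let p1 : P →* C := ((MonoidHom.fst G K).comp P.subtype).codRestrict C
    (fun y => hle ⟨y.1, y.2, rfl⟩)
  have hp1 : Function.Surjective p1 := by
    have hr : C ≤ P.map (MonoidHom.fst G K) := by
      rw [Subgroup.closure_le]
      rintro y (rfl | rfl | rfl | rfl)
      · exact ⟨(y, gE.su), Subgroup.subset_closure (by simp), rfl⟩
      · exact ⟨(y, gW.su), Subgroup.subset_closure (by simp), rfl⟩
      · exact ⟨(y, gX.su), Subgroup.subset_closure (by simp), rfl⟩
      · exact ⟨(y, gD.su), Subgroup.subset_closure (by simp), rfl⟩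
    rintro ⟨y, hy⟩
    obtain ⟨z, hz, hzy⟩ := hr hy
    exact ⟨⟨z, hz⟩, Subtype.ext hzy⟩
  have hi1 : Function.Injective p1 := by
    rw [← MonoidHom.ker_eq_bot_iff]
    rcases (MonoidHom.normal_ker p1).eq_bot_or_eq_top with h | h
    · exact h
    · exfalso
      apply hne
      have h1 : (⟨(e, gE.su), Subgroup.subset_closure (by simp)⟩ : P) ∈ p1.ker := by
        rw [h]; exact Subgroup.mem_top _
      exact congrArg Subtype.val (MonoidHom.mem_ker.1 h1)
  exact ⟨(MulEquiv.ofBijective p1 ⟨hi1, hp1⟩).symm.trans f⟩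

end pres

/-! ### Transfer to an arbitrary field with nine elements -/

section field

open Matrix

variable {F K : Type*} [Field F] [Field K]

theorem glMap_mem {n q : ℕ} (e : F ≃+* K) {A : Matrix.GeneralLinearGroup (Fin n) F} (hA : A ∈ Cfsg.GU n F q) :
    Matrix.GeneralLinearGroup.map (e : F →+* K) A ∈ Cfsg.GU n K q := by
  rw [LieClassical.GUOrder.mem_GU_iff] at hA ⊢
  have key : ∀ u : Fin n → F,
      (Matrix.GeneralLinearGroup.map (e : F →+* K) A : Matrix (Fin n) (Fin n) K) *ᵥ (fun i => e (u i)) =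
        fun i => e (((A : Matrix (Fin n) (Fin n) F) *ᵥ u) i) := by
    intro u
    ext i
    simp only [Matrix.mulVec, dotProduct, Matrix.GeneralLinearGroup.map, _root_.RingHom.toMonoidHom_eq_coe, _root_.Units.coe_map, _root_.MonoidHom.coe_coe, _root_.RingHom.mapMatrix_apply, _root_.RingHom.coe_coe, _root_.Matrix.map_apply, _root_.map_sum, _root_.map_mul]
  intro u v
  have hu : u = fun i => e ((fun i => e.symm (u i)) i) := by ext i; simp
  have hv : v = fun i => e ((fun i => e.symm (v i)) i) := by ext i; simp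
  rw [hu, hv, key, key, LieClassical.FieldTransfer.hermForm_map, LieClassical.FieldTransfer.hermForm_map, hA]

/-- `GU n F q ≃* GU n K q` along `F ≃+* K`. -/
def guCongr (n q : ℕ) (e : F ≃+* K) : Cfsg.GU n F q ≃* Cfsg.GU n K q where
  toFun A := ⟨Matrix.GeneralLinearGroup.map (e : F →+* K) A.1, glMap_mem e A.2⟩
  invFun A := ⟨Matrix.GeneralLinearGroup.map (e.symm : K →+* F) A.1, glMap_mem e.symm A.2⟩
  left_inv := by
    intro A
    apply Subtype.ext
    apply Units.ext
    ext i j
    simp [Matrix.GeneralLinearGroup.map]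
  right_inv := by
    intro A
    apply Subtype.ext
    apply Units.ext
    ext i j
    simp [Matrix.GeneralLinearGroup.map]
  map_mul' := by
    intro A B
    apply Subtype.ext
    simp

end field

/-! ### The main theorem -/

section main

variable {G : Type*} [Group G]

/-- the number of conjugates of `t` -/
theorem ncard_conj [Finite G] (t : G) :
    {x : G | IsConj t x}.ncard = (Subgroup.centralizer ({t} : Set G)).index := by
  have h1 : (MulAction.stabilizer (ConjAct G) t).index = (MulAction.orbit (ConjAct G) t).ncard :=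
    MulAction.index_stabilizer _ _
  have h2 : MulAction.orbit (ConjAct G) t = {x : G | IsConj t x} := by
    ext x
    rw [ConjAct.mem_orbit_conjAct, Set.mem_ofPred_eq]
    exact ⟨IsConj.symm, IsConj.symm⟩
  rw [← h2, ← h1, ConjAct.stabilizer_eq_centralizer]
  rfl

/-- `q0` is a conjugate of `t`. -/
theorem q0_eq {t e w x d : G} (F : Frame t e w x) :
    q0 e w x d = (d * x * d⁻¹ * x * d)⁻¹ * t * (d * x * d⁻¹ * x * d) := by
  have ht : t = (e * w * e * w) * (e * w * e * w) := by
    rw [F.ht]
    have h1 : e ^ 2 * (w * e * w) ^ 2 = (e * (w * e * w)) ^ 2 := by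
      have c : Commute e (w * e * w) := F.ef
      rw [c.mul_pow]
    rw [h1, pow_two]
    group
  rw [ht]
  simp only [q0, q0w, ev, List.map_cons, List.map_nil, List.prod_cons, List.prod_nil, lt, mul_one]
  group

/-- `q0` commutes with an element of prime order of `C(t)`. -/
theorem exists_commute [Finite G] {t e w x d : G} (F : Frame t e w x) (A : Act e w d)
    (hcard : Nat.card (Subgroup.centralizer ({t} : Set G)) = 96)
    (hidx : (Subgroup.centralizer ({t} : Set G)).index ≤ 99) :
    ∃ y ∈ Subgroup.centralizer ({t} : Set G), y ≠ 1 ∧ (y * y = 1 ∨ y * y * y = 1) ∧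
      Commute (q0 e w x d) y := by
  classical
  set C := Subgroup.centralizer ({t} : Set G) with hC
  set q := q0 e w x d with hq
  by_contra hcon
  -- the intersection of the centralizers is trivial
  have htriv : ∀ y ∈ C, Commute q y → y = 1 := by
    intro y hy hc
    by_contra hy1
    apply hcon
    obtain ⟨p, hp, hpo⟩ := Nat.exists_prime_and_dvd (fun h => hy1 (orderOf_eq_one_iff.1 h))
    obtain ⟨k, hk⟩ := hpo
    have hk0 : k ≠ 0 := by
      rintro rfl
      rw [mul_zero] at hk
      exact (orderOf_pos y).ne' hk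
    have hord : orderOf (y ^ k) = p := by
      rw [orderOf_pow_of_dvd hk0 ⟨p, by rw [hk, mul_comm]⟩, hk, Nat.mul_div_cancel _ (Nat.pos_of_ne_zero hk0)]
    have hmem : y ^ k ∈ C := C.pow_mem hy k
    have hdvd : p ∣ 96 := by
      rw [← hcard, ← hord]
      exact Subgroup.orderOf_dvd_natCard C hmem
    have hp23 : p = 2 ∨ p = 3 := by
      have h1 : p ∣ 2 ^ 5 * 3 := by rw [show 2 ^ 5 * 3 = 96 by norm_num]; exact hdvd
      rcases (Nat.Prime.dvd_mul hp).1 h1 with h2 | h2
      · left; exact (Nat.prime_dvd_prime_iff_eq hp Nat.prime_two).1 (hp.dvd_of_dvd_pow h2)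
      · right; exact (Nat.prime_dvd_prime_iff_eq hp Nat.prime_three).1 h2
    refine ⟨y ^ k, hmem, ?_, ?_, hc.pow_right k⟩
    · intro h
      rw [h, orderOf_one] at hord
      exact hp.one_lt.ne hord
    · have h1 := pow_orderOf_eq_one (y ^ k)
      rw [hord] at h1
      rcases hp23 with rfl | rfl
      · left; rwa [pow_two] at h1
      · right; rwa [pow_succ, pow_two] at h1
  have hconjq : ∃ g, q = g⁻¹ * t * g := ⟨_, q0_eq F⟩
  obtain ⟨g, hg⟩ := hconjq
  have hCt : ∀ c ∈ C, c * t = t * c := fun c hc => (Subgroup.mem_centralizer_singleton_iff).1 hc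
  -- the 96 conjugates
  let S1 : Set G := (fun c => c⁻¹ * q * c) '' (C : Set G)
  have hS1 : S1.ncard = 96 := by
    rw [Set.InjOn.ncard_image]
    · rw [← hcard]; rfl
    · intro a ha b hb hab
      have hab : a⁻¹ * q * a = b⁻¹ * q * b := hab
      have h1 : Commute q (a * b⁻¹) := by
        change q * (a * b⁻¹) = a * b⁻¹ * q
        calc q * (a * b⁻¹) = a * (a⁻¹ * q * a) * b⁻¹ := by group
          _ = a * (b⁻¹ * q * b) * b⁻¹ := by rw [hab]
          _ = a * b⁻¹ * q := by group
      have h2 := htriv _ (C.mul_mem ha (C.inv_mem hb)) h1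
      exact mul_inv_eq_one.1 h2
  -- four involutions in `C`
  let S2 : Set G := {t, (w * e * w) ^ 2, e ^ 2, w}
  have hS2C : ∀ y ∈ S2, y ∈ C := by
    rintro y (rfl | rfl | rfl | rfl)
    · rw [hC, Subgroup.mem_centralizer_singleton_iff]
    · exact C.pow_mem F.f_mem 2
    · exact C.pow_mem F.e_mem 2
    · exact F.w_mem
  have he2 : e ^ 2 ≠ 1 := by
    intro h
    have := F.indep 2 0 (by rw [h, pow_zero, one_mul])
    omega
  have hf2 : (w * e * w) ^ 2 ≠ 1 := by
    intro h
    have := F.indep 0 2 (by rw [h, pow_zero, one_mul])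
    omega
  have hft : (w * e * w) ^ 2 ≠ t := by
    intro h
    rw [F.ht] at h
    apply he2
    have h1 : e ^ 2 * (w * e * w) ^ 2 = 1 * (w * e * w) ^ 2 := by rw [one_mul]; exact h.symm
    exact mul_right_cancel h1
  have het : e ^ 2 ≠ t := by
    intro h
    rw [F.ht] at h
    apply hf2
    have h1 : e ^ 2 * (w * e * w) ^ 2 = e ^ 2 * 1 := by rw [mul_one]; exact h.symm
    exact mul_left_cancel h1
  have hef : e ^ 2 ≠ (w * e * w) ^ 2 := by
    intro h
    apply F.t_ne
    rw [F.ht, ← h, ← pow_add]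
    exact F.e4
  have hwf : ∀ k l : ℕ, w ≠ e ^ k * (w * e * w) ^ l := by
    intro k l h
    have h1 : Commute w e := by
      have c : Commute e (w * e * w) := F.ef
      rw [h]
      exact ((Commute.refl e).pow_left k).mul_left (c.symm.pow_left l)
    have h2 : w * e * w = e := by
      rw [h1.eq, mul_assoc, F.hw, mul_one]
    have h3 := F.indep 1 3 (by rw [h2, pow_one, ← pow_succ']; exact F.e4)
    omega
  have hwt : w ≠ t := by rw [F.ht]; exact hwf 2 2
  have hwf2 : w ≠ (w * e * w) ^ 2 := by
    have := hwf 0 2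
    rwa [pow_zero, one_mul] at this
  have hwe2 : w ≠ e ^ 2 := by
    have := hwf 2 0
    rwa [pow_zero, mul_one] at this
  have hw1 : w ≠ 1 := by
    have := hwf 0 0
    rwa [pow_zero, pow_zero, mul_one] at this
  have hS2 : S2.ncard = 4 := by
    have h1 : S2 = (({t, (w * e * w) ^ 2, e ^ 2, w} : Finset G) : Set G) := by
      simp only [S2, _root_.Finset.coe_insert, _root_.Finset.coe_singleton]
    rw [h1, Set.ncard_coe_finset]
    rw [Finset.card_insert_of_notMem, Finset.card_insert_of_notMem, Finset.card_insert_of_notMem,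
      Finset.card_singleton]
    · simp only [Finset.mem_singleton]; exact hwe2.symm
    · simp only [Finset.mem_insert, Finset.mem_singleton, not_or]
      exact ⟨hef.symm, hwf2.symm⟩
    · simp only [Finset.mem_insert, Finset.mem_singleton, not_or]
      exact ⟨hft.symm, het.symm, hwt.symm⟩
  have hdisj : Disjoint S1 S2 := by
    rw [Set.disjoint_left]
    rintro y ⟨c, hc, rfl⟩ hy
    have hy := hS2C _ hy
    have h1 : (c⁻¹ * q * c) * t = t * (c⁻¹ * q * c) := hCt _ hy
    have h2 : q * t = t * q := by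
      have h3 := hCt c hc
      have h4 : t * c⁻¹ = c⁻¹ * t := by
        have := hCt _ (C.inv_mem hc)
        exact this.symm
      calc q * t = c * ((c⁻¹ * q * c) * (c⁻¹ * t)) := by group
        _ = c * ((c⁻¹ * q * c) * (t * c⁻¹)) := by rw [h4]
        _ = c * ((c⁻¹ * q * c) * t) * c⁻¹ := by group
        _ = c * (t * (c⁻¹ * q * c)) * c⁻¹ := by rw [h1]
        _ = (c * t) * c⁻¹ * q := by group
        _ = (t * c) * c⁻¹ * q := by rw [h3]
        _ = t * q := by group
    have htC : t ∈ C := by rw [hC, Subgroup.mem_centralizer_singleton_iff]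
    exact F.t_ne (htriv t htC h2)
  have hcf : IsConj t ((w * e * w) ^ 2) := by
    rw [isConj_iff]
    refine ⟨d⁻¹, ?_⟩
    have := A.ct F
    rw [cj_apply] at this
    rw [inv_inv]; exact this
  have hsub : S1 ∪ S2 ⊆ {z : G | IsConj t z} := by
    rintro y (⟨c, hc, rfl⟩ | hy)
    · change IsConj t (c⁻¹ * q * c)
      rw [isConj_iff]
      refine ⟨c⁻¹ * g⁻¹, ?_⟩
      rw [hg]; group
    · change IsConj t y
      rcases hy with rfl | rfl | rfl | rfl
      · exact IsConj.refl _
      · exact hcf
      · refine hcf.trans ?_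
        rw [isConj_iff]
        refine ⟨d⁻¹, ?_⟩
        have := A.f2 F
        rw [cj_apply] at this
        rw [inv_inv]; exact this
      · obtain ⟨c, -, hc⟩ := F.invol y F.w_mem F.hw hw1 hwt
        refine hcf.trans ?_
        rw [isConj_iff]
        refine ⟨c, ?_⟩
        rw [← hc]; group
  have hle := Set.ncard_le_ncard hsub (Set.toFinite _)
  rw [Set.ncard_union_eq hdisj (Set.toFinite _) (Set.toFinite _), hS1, hS2, ncard_conj, ← hC] at hle
  omega

/-- The final step, for one labelling. -/
theorem finish [Finite G] {t e w x d : G} (F : Frame t e w x) (A : Act e w d) (hd : w * d * w * d = 1)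
    (hcard : Nat.card (Subgroup.centralizer ({t} : Set G)) = 96)
    (hidx : (Subgroup.centralizer ({t} : Set G)).index ≤ 99) : Nonempty (G ≃* Cfsg.SU 3 K9 3) := by
  have R := Rels.of_frame F A hd
  have hdC : d ∉ Subgroup.centralizer ({t} : Set G) := by
    intro h
    have h1 := A.ct F
    rw [mem_centralizer_iff_cj.1 h, F.ht] at h1
    have h2 : e ^ 2 = 1 := by
      have h3 : e ^ 2 * (w * e * w) ^ 2 = 1 * (w * e * w) ^ 2 := by rw [one_mul]; exact h1
      exact mul_right_cancel h3
    have := F.indep 2 0 (by rw [h2, pow_zero, one_mul])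
    omega
  have hcol : ∀ y : List ℕ, (y ∈ invWords ∨ y ∈ [[3], [1, 3, 0], [1, 1, 3, 0, 0]]) →
      ¬ Commute (q0 e w x d) (ev (lt e w x d) y) := fun y hy hc =>
    hdC (collapse R _ F.e_mem F.w_mem F.x_mem y hy hc)
  obtain ⟨y, hy, hy1, hord, hc⟩ := exists_commute F A hcard hidx
  have hgood : Commute (q0 e w x d) (e * x * e⁻¹) := by
    rcases F.prime y hy hy1 hord with ⟨r, hr, rfl⟩ | ⟨r, hr, hyr⟩
    · exfalso
      refine hcol r (Or.inl hr) ?_
      rwa [ev_congr (d' := 1) r]
      simp only [invWords, List.mem_cons, List.not_mem_nil, or_false] at hr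
      rcases hr with rfl | rfl | rfl | rfl | rfl | rfl | rfl <;> decide
    · have hc' : Commute (q0 e w x d) (ev (lt e w x d) r) := by
        rw [ev_congr (d' := 1) r]
        · rcases hyr with rfl | rfl
          · exact hc
          · exact (Commute.inv_right_iff).1 hc
        · simp only [threeWords, List.mem_cons, List.not_mem_nil, or_false] at hr
          rcases hr with rfl | rfl | rfl | rfl <;> decide
      simp only [threeWords, List.mem_cons, List.not_mem_nil, or_false] at hr
      rcases hr with rfl | rfl | rfl | rfl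
      · exact absurd hc' (hcol _ (Or.inr (by simp)))
      · exact absurd hc' (hcol _ (Or.inr (by simp)))
      · have h1 : ev (lt e w x d) [0, 3, 1] = e * x * e⁻¹ := by simp [ev, lt, mul_assoc]
        rwa [h1] at hc'
      · exact absurd hc' (hcol _ (Or.inr (by simp)))
  have he1 : e ≠ 1 := by
    intro h
    have := F.indep 1 0 (by rw [h, pow_zero, one_pow, one_mul])
    omega
  obtain ⟨f⟩ := closure_iso R hgood he1
  have hcl : Nat.card (Subgroup.closure ({e, w, x, d} : Set G)) = 6048 := by
    rw [Nat.card_congr f.toEquiv, card_SU]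
  have htop : Subgroup.closure ({e, w, x, d} : Set G) = ⊤ := by
    have h1 := Subgroup.card_mul_index (Subgroup.closure ({e, w, x, d} : Set G))
    have h2 := Subgroup.card_mul_index (Subgroup.centralizer ({t} : Set G))
    rw [hcl] at h1
    rw [hcard] at h2
    have h3 : 6048 * (Subgroup.closure ({e, w, x, d} : Set G)).index < 6048 * 2 := by
      rw [h1, ← h2]; omega
    have h4 : (Subgroup.closure ({e, w, x, d} : Set G)).index ≠ 0 := Subgroup.index_ne_zero_of_finite
    rw [← Subgroup.index_eq_one]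
    omega
  exact ⟨(Subgroup.topEquiv.symm.trans (MulEquiv.subgroupCongr htop.symm)).trans f⟩

/-- **Identification of `PSU₃(3)`**: `C_G(t) = GU₂(3)`, `t` conjugate to another involution of `C_G(t)`,
`|G : C_G(t)| ≤ 99`. -/
theorem nonempty_mulEquiv_PSU [Finite G] {F : Type*} [Field F] [Fintype F] (hF : Fintype.card F = 9) {t : G}
    (ht : orderOf t = 2) (hC : Nonempty (Subgroup.centralizer ({t} : Set G) ≃* Cfsg.GU 2 F 3))
    (hidx : (Subgroup.centralizer ({t} : Set G)).index ≤ 99)
    (hfus : ∃ g : G, g⁻¹ * t * g ∈ Subgroup.centralizer ({t} : Set G) ∧ g⁻¹ * t * g ≠ t) :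
    Nonempty (G ≃* Cfsg.PSU 3 F 3) := by
  have hcardF : Fintype.card F = Fintype.card K9 := by rw [hF, card_k9]
  let e0 : F ≃+* K9 := FiniteField.ringEquivOfCardEq hcardF
  obtain ⟨φ⟩ := hC
  have hcard : Nat.card (Subgroup.centralizer ({t} : Set G)) = 96 := by
    rw [Nat.card_congr φ.toEquiv]
    exact Cfsg.Agent.TwoFusion.GUTwo.card_GU2 (q := 3) (by rw [hF]; norm_num)
  obtain ⟨e, w, x, F1, F2⟩ := USixModel.exists_frames ht (φ.trans (guCongr 2 3 e0))
  obtain ⟨g, hg1, hg2⟩ := hfus
  have hmain : Nonempty (G ≃* Cfsg.SU 3 K9 3) := by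
    rcases F1.exists_act F2 hg1 hg2 g rfl with ⟨d, A, hd⟩ | ⟨d, A, hd⟩
    · exact finish F1 A hd hcard hidx
    · exact finish F2 A hd hcard hidx
  obtain ⟨f⟩ := hmain
  exact ⟨f.trans ((LieClassical.FieldTransfer.suCongr 3 3 e0).symm.trans (psuEquiv hF).symm)⟩

end main

end Cfsg.Agent.Classification.RTwo.USix
end

private theorem dce_3dc1f6fa7438 : _root_.True := by
  try have : _root_.True := by simp only [_root_.Cfsg.Agent.Classification.RTwo.USixFrame.cj.eq_1]
  try have : _root_.True := by simp only [_root_.Cfsg.Agent.Classification.RTwo.USixBound.q0w.eq_1]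
  try have : _root_.True := by simp only [_root_.Cfsg.Agent.Classification.RTwo.USixModel.nrm.eq_1]
  try have : _root_.True := by simp only [_root_.Cfsg.Agent.Classification.RTwo.USixFrame.lt.eq_7]
  try have : _root_.True := by simp only [_root_.Cfsg.Agent.Classification.RTwo.USixFrame.lt.eq_5]
  try have : _root_.True := by simp only [_root_.Cfsg.Agent.Classification.RTwo.UThreeThree.IsGood.su.congr_simp]
  try have : _root_.True := by simp only [_root_.Cfsg.Agent.Classification.RTwo.USixModel.fl.eq_1]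
  try have : _root_.True := by simp only [_root_.Cfsg.Agent.Classification.RTwo.USixModel.wd.eq_1]
  try have : _root_.True := by simp only [_root_.Cfsg.Agent.Classification.RTwo.USixFrame.lt.eq_6]
  try have : _root_.True := by simp only [_root_.Cfsg.Agent.Classification.RTwo.USixSU.act.eq_1]
  try have : _root_.True := by simp only [_root_.Cfsg.Agent.Classification.RTwo.USixBound.q0.eq_1]
  try have : _root_.True := by simp only [_root_.Cfsg.Agent.Classification.RTwo.USixFrame.lt.eq_3]
  try have : _root_.True := by simp only [_root_.Cfsg.Agent.Classification.RTwo.USixSU.b2.eq_1]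
  try have : _root_.True := by simp only [_root_.Cfsg.Agent.Classification.RTwo.USixBound.li.eq_8]
  try have : _root_.True := by simp only [_root_.Cfsg.Agent.Classification.RTwo.USixBound.li.eq_4]
  try have : _root_.True := by simp only [_root_.Cfsg.Agent.Classification.RTwo.USixFrame.lt.eq_2]
  try have : _root_.True := by simp only [_root_.Cfsg.Agent.Classification.RTwo.USixBound.li.eq_1]
  try have : _root_.True := by simp only [_root_.Cfsg.Agent.Classification.RTwo.USixFrame.lt.eq_1]
  try have : _root_.True := by simp only [_root_.Cfsg.Agent.Classification.RTwo.USixCert.K.subw.eq_1]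
  try have : _root_.True := by simp only [_root_.Cfsg.Agent.Classification.RTwo.USixBound.li.eq_2]
  try have : _root_.True := by simp only [_root_.Cfsg.Agent.Classification.RTwo.USixSU.ls.eq_1]
  try have : _root_.True := by simp only [_root_.Cfsg.Agent.Classification.RTwo.USixFrame.lt.eq_4]
  try have : _root_.True := by simp only [_root_.Cfsg.Agent.Classification.RTwo.USixModel.orth.eq_1]
  try have : _root_.True := by simp only [_root_.Cfsg.Agent.Classification.RTwo.USixFrame.lt.eq_8]
  try have : _root_.True := by simp only [_root_.Cfsg.Agent.Classification.RTwo.USixBound.li.eq_3]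
  try have : _root_.True := by simp only [_root_.Cfsg.Agent.Classification.RTwo.USixBound.li.eq_6]
  try have : _root_.True := by simp only [_root_.Cfsg.Agent.Classification.RTwo.USixFrame.guRels.eq_1]
  try have : _root_.True := by simp only [_root_.Cfsg.Agent.Classification.RTwo.USixFrame.invWords.eq_1]
  try have : _root_.True := by simp only [_root_.Cfsg.Agent.Classification.RTwo.USixModel.prs.eq_1]
  try have : _root_.True := by simp only [_root_.Cfsg.Agent.Classification.RTwo.USixSU.b3.eq_1]
  try have : _root_.True := by simp only [_root_.Cfsg.Agent.Classification.RTwo.USixBound.li.eq_5]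
  try have : _root_.True := by simp only [_root_.Cfsg.Agent.Classification.RTwo.USixBound.li.eq_7]
  try have : _root_.True := by simp only [_root_.Cfsg.Agent.Classification.RTwo.USixBound.base.eq_1]
  try have : _root_.True := by simp only [_root_.Cfsg.Agent.Classification.RTwo.USixModel.allGood.eq_1]
  try have : _root_.True := by simp only [_root_.Cfsg.Agent.Classification.RTwo.USixModel.m2.eq_1]
  try have : _root_.True := by simp only [_root_.Cfsg.Agent.Classification.RTwo.USixSU.b1.eq_1]
  try have : _root_.True := by simp only [_root_.Cfsg.Agent.Classification.RTwo.USixFrame.threeWords.eq_1]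
  exact _root_.True.intro
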