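import Cfsg.Agent.Classification.RTwo.FinalWR
import Cfsg.Agent.Classification.RTwo.USix
import Cfsg.Agent.Prune
set_option linter.all false
prune_inst 0x7f00000000000000000000000000000000000000000000000000000000000000000000000000000000000000000000000000000000000000000000000000000000000000000000000000000000000000003fffffffffffffffffffffffffffbeffbdffffffff
open scoped Cfsg.Agent.FastGrp

/-!
# R2: simple groups with quasi-dihedral or wreathed Sylow 2-subgroups and solvable involution centralizers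
-/

set_option autoImplicit false

open Cfsg

namespace Cfsg.Agent.Classification.RTwo.Final

open Subgroup

/-- Wreathed Sylow 2-subgroups, solvable centralizers of involutions: `PSU₃(3)`. -/
theorem wr {G : Type*} [Group G] [Finite G] [IsSimpleGroup G] (S : Sylow 2 G)
    (hS : Cfsg.IsWreathed (S : Subgroup G))
    (hsol : ∀ x : G, orderOf x = 2 → Group.IsSolvable (Subgroup.centralizer ({x} : Set G))) :
    ∃ (F : Type) (_ : Field F) (_ : Fintype F), Fintype.card F = 9 ∧
      Nonempty (G ≃* Cfsg.PSU 3 F 3) := by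
  obtain ⟨t, ht⟩ := FinalSD.two_dvd S (Or.inr hS)
  obtain ⟨F, i1, i2, hF⟩ := FinalWR.exists_field
  have hF9 : Fintype.card F = 9 := by rw [hF]; norm_num
  have hC := FinalWR.centralizer_equiv S hS hsol hF t ht
  obtain ⟨e⟩ := hC
  have hidx : (Subgroup.centralizer ({t} : Set G)).index ≤ 99 := by
    rw [FinalWR.index_eq S hS hsol t ht]
    norm_num
  have hG := Structure.index_ne_two S (Or.inr hS)
  have hone := Structure.isConj_of_index S (Or.inr hS) hG
  have L := EndWRGU.locAt hF9 ht e
  have hfus : ∃ g : G, g⁻¹ * t * g ∈ Subgroup.centralizer ({t} : Set G) ∧ g⁻¹ * t * g ≠ t := by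
    have h1 : 1 < ({x : G | orderOf x = 2 ∧ Commute x t}).ncard := by
      rw [L.seven]; norm_num
    obtain ⟨s, hs, hst⟩ := Set.exists_ne_of_one_lt_ncard h1 t
    obtain ⟨g, hg⟩ := isConj_iff.1 (hone t s ht hs.1)
    refine ⟨g⁻¹, ?_, ?_⟩
    · rw [inv_inv, hg]
      exact Subgroup.mem_centralizer_singleton_iff.2 hs.2.eq
    · rw [inv_inv, hg]
      exact hst
  exact ⟨F, i1, i2, hF9, USix.nonempty_mulEquiv_PSU hF9 ht ⟨e⟩ hidx hfus⟩

/-- **R2.** -/
theorem main {G : Type*} [Group G] [Finite G] [IsSimpleGroup G] (S : Sylow 2 G)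
    (hS : Cfsg.IsQuasiDihedral (S : Subgroup G) ∨ Cfsg.IsWreathed (S : Subgroup G))
    (hsol : ∀ x : G, orderOf x = 2 → Group.IsSolvable (Subgroup.centralizer ({x} : Set G))) :
    (∃ (F : Type) (_ : Field F) (_ : Fintype F), Fintype.card F = 3 ∧
      Nonempty (G ≃* Matrix.ProjectiveSpecialLinearGroup (Fin 3) F)) ∨ Cfsg.IsM11 G ∨
    (∃ (F : Type) (_ : Field F) (_ : Fintype F), Fintype.card F = 9 ∧
      Nonempty (G ≃* Cfsg.PSU 3 F 3)) := by
  have p3 : Fact (Nat.Prime 3) := ⟨Nat.prime_three⟩
  rcases hS with h | h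
  · rcases FinalSD.main S h hsol with h | h
    · exact Or.inl ⟨ZMod 3, inferInstance, inferInstance, ZMod.card 3, h⟩
    · exact Or.inr (Or.inl h)
  · exact Or.inr (Or.inr (wr S h hsol))

end Cfsg.Agent.Classification.RTwo.Final
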